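import Cfsg.Agent.Lib.Helper32.BG10Basic
import Cfsg.Agent.S1450
import Cfsg.Agent.S1455
import Cfsg.Agent.Lib.Helper30.BG10Q9
import Cfsg.Agent.Lib.Helper30.BG10Q10C
import Cfsg.Agent.Lib.Helper19.BG10Q10DE
import Cfsg.Agent.Lib.Helper72.BG10Q11N
import Cfsg.Agent.Lib.Helper55.BG10Q11T
import Cfsg.Agent.Lib.Helper17.BG10Q11L
import Cfsg.Agent.Lib.Helper30.BG10Q11S
import Cfsg.Agent.Lib.Helper62.BG10Q11C
import Cfsg.Agent.Lib.Helper78.BG10Q11D
import Cfsg.Agent.Lib.Helper19.BG10Q11K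
import Cfsg.Agent.Lib.Helper30.BG10Q12A
import Cfsg.Agent.Lib.Helper23.BG10Q12B
import Cfsg.Agent.Lib.Helper8.BG10Q12C

/-!
# B&G Section 10, second half: assembly of S1412 - S1415 from the job pieces Q9 .. Q12C

Everything is stated modulo the interface Props of `Cfsg.Agent.Lib.Helper32.BG10`.
-/

set_option autoImplicit false

open Cfsg Cfsg.Agent.Lib.Helper32 Cfsg.Agent.Lib.Helper32.BG10

namespace Cfsg.Agent.Lib.Helper15.BG10

universe u

variable {G : Type u} [Group G] [Finite G]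

/-- S1412 from `H8` -/
theorem bg10_9 (hG : IsMinSimpleOddOrder G) (h8 : H8 G) (p : ℕ) [Fact p.Prime] (P : Sylow p G)
    (hr : PRankLE p 2 (P : Subgroup G)) :
    IsMulCommutative (P : Subgroup G) ∨ ∃ P₁ P₂ : Subgroup G, P₁ ⊔ P₂ = (P : Subgroup G) ∧
        (∀ a ∈ P₁, ∀ b ∈ P₂, a * b = b * a) ∧
        ¬ IsMulCommutative P₁ ∧ Nat.card P₁ = p ^ 3 ∧ Monoid.exponent P₁ = p ∧ IsCyclic P₂ ∧
        Subgroup.closure {x : G | x ∈ P₂ ∧ x ^ p = 1} =
          P₁ ⊓ Subgroup.centralizer (P₁ : Set G) :=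
  Cfsg.Agent.Lib.Helper30.BG10.bg10_9 hG h8 p P hr

/-- S1413 from `H1`, `H7` -/
theorem bg10_10 (hG : IsMinSimpleOddOrder G) (h1 : H1 G) (h7 : H7 G) (p : ℕ) [Fact p.Prime]
    (P : Sylow p G) :
    (∀ (Q : Subgroup G) (x : G), Q ≤ (P : Subgroup G) →
        Q.map (MulAut.conj x).toMonoidHom ≤ (P : Subgroup G) →
        ∃ y ∈ Subgroup.normalizer ((P : Subgroup G) : Set G),
          Q.map (MulAut.conj x).toMonoidHom = Q.map (MulAut.conj y).toMonoidHom) ∧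
      (∀ Q : Subgroup G, Q ≤ (P : Subgroup G) →
        ¬ p ∣ ((P : Subgroup G) ⊓ Subgroup.normalizer (Q : Set G)).relIndex
          (Subgroup.normalizer (Q : Set G))) ∧
      (∀ (R Q : Subgroup G), IsPGroup p R → Q ≤ (P : Subgroup G) ⊓ R →
        Subgroup.normalizer ((P : Subgroup G) : Set G) ≤ Subgroup.normalizer (Q : Set G) →
        Subgroup.normalizer (R : Set G) ≤ Subgroup.normalizer (Q : Set G)) := by
  have hc := fun Q x hQ hx => Cfsg.Agent.Lib.Helper30.BG10.bg10_10c hG h1 h7 p P Q x hQ hx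
  exact ⟨hc, fun Q hQ => Cfsg.Agent.Lib.Helper19.BG10.bg10_10d p P hc Q hQ,
    fun R Q hR hQ hN => Cfsg.Agent.Lib.Helper19.BG10.bg10_10e p P hc R Q hR hQ hN⟩

theorem narrow_sylow_of_not_ideal (hG : IsMinSimpleOddOrder G) (hUT : UT G) {M : Subgroup G}
    (hM : IsCoatom M) {p : ℕ} [Fact p.Prime] (hpa : p ∈ alpha M) (hni : ¬ IsIdealPrime p G)
    (S : Sylow p ↥M) : IsNarrow p ↥(S : Subgroup ↥M) := by
  obtain ⟨hr, E, hE, hE2, hmax⟩ :=
    Cfsg.Agent.Lib.Helper55.BG10.max_E2_sylow_of_not_ideal hG hUT hM hpa hni S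
  have hp2 : p ≠ 2 := by
    rintro rfl
    have hodd : Odd (Nat.card ↥M) := minSimple_odd_sub hG M
    apply hpa.2
    intro A _ hA
    have h1 : Nat.card A ∣ Nat.card ↥M := Subgroup.card_subgroup_dvd_card A
    have h2 : IsPGroup 2 A := by
      intro a
      refine ⟨1, Subtype.ext ?_⟩
      show (a : ↥M) ^ 2 ^ 1 = 1
      rw [pow_one]
      exact hA a a.2
    obtain ⟨k, hk⟩ := IsPGroup.iff_card.mp h2
    rcases Nat.eq_zero_or_pos k with rfl | hk0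
    · rw [hk]; norm_num
    · exfalso
      have h3 : 2 ∣ Nat.card ↥M := (dvd_pow_self 2 hk0.ne').trans (hk ▸ h1)
      exact (Nat.not_even_iff_odd.mpr hodd) (even_iff_two_dvd.mpr h3)
  exact Cfsg.Agent.Lib.Helper72.BG10.narrow_of_max_E2 p hp2 S.isPGroup' hr E hE hE2 hmax

theorem bg10_11q (hG : IsMinSimpleOddOrder G) (hUT : UT G) (hder : SigDer G) (h7 : H7 G)
    {M : Subgroup G} (hM : IsCoatom M) (p : ℕ) (hp : p.Prime) (hpM : p ∣ Nat.card M)
    (hpb : p ∉ beta M) :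
    HasNormalPComplement p ↥⁅M, M⁆ ∧ HasNormalPComplement p ↥(sigmaCore M) ∧
      ∀ q : ℕ, q.Prime → q ∣ (pPrimeCore p ↥M).index → q ≤ p := by
  have : Fact p.Prime := ⟨hp⟩
  have : Group.IsSolvable ↥M := minSimple_solvable hG hM.1
  have hodd : Odd (Nat.card ↥M) := minSimple_odd_sub hG M
  have key : HasNormalPComplement p ↥(commutator ↥M) ∧
      ∀ q : ℕ, q.Prime → q ∣ (pPrimeCore p ↥M).index → q ≤ p := by
    by_cases hpa : p ∈ alpha M
    · have hni : ¬ IsIdealPrime p G := fun h => hpb ⟨hpa, h⟩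
      obtain ⟨S⟩ : Nonempty (Sylow p ↥M) := inferInstance
      have hS := narrow_sylow_of_not_ideal hG hUT hM hpa hni S
      have h := Cfsg.Agent.S1455.result hodd p hpM S hS (fun _ => h7 p M hM.1)
      exact ⟨h.2.2.1, h.1⟩
    · have hr : PRankLE p 2 ↥M := by
        by_contra h
        exact hpa ⟨hp, h⟩
      have h := Cfsg.Agent.S1450.result hodd p hpM hr
      exact ⟨h.2.2.1, h.1⟩
  have e : ↥(commutator ↥M) ≃* ↥⁅M, M⁆ :=
    ((commutator ↥M).equivMapOfInjective M.subtype M.subtype_injective).trans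
      (MulEquiv.subgroupCongr (Subgroup.map_subtype_commutator M))
  have h1 : HasNormalPComplement p ↥⁅M, M⁆ :=
    Cfsg.Agent.Lib.Helper17.BG10.hasNormalPComplement_of_mulEquiv p e key.1
  exact ⟨h1, Cfsg.Agent.Lib.Helper17.BG10.hasNormalPComplement_of_le p
    (Cfsg.Agent.Lib.Helper30.BG10.sigmaCore_le_commutator hG hder hM) h1, key.2⟩

/-- S1414 from `UT`, `SigDer`, `H7` -/
theorem bg10_11 (hG : IsMinSimpleOddOrder G) (hUT : UT G) (hder : SigDer G) (h7 : H7 G)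
    (M : Subgroup G) (hM : IsCoatom M) :
    IsPiHallOf (beta M) (piCoreOf (beta M) M) M ∧ IsPiHall (beta M) (piCoreOf (beta M) M) ∧
      (∃ H : Subgroup G, IsPiHallOf {q | q.Prime ∧ q ∉ beta M} H ⁅M, M⁆ ∧ Group.IsNilpotent H) ∧
      (∃ H : Subgroup G, IsPiHallOf {q | q.Prime ∧ q ∉ beta M} H (sigmaCore M) ∧
        Group.IsNilpotent H) ∧
      ∀ p : ℕ, p.Prime → p ∣ Nat.card M → p ∉ beta M →
        HasNormalPComplement p ↥⁅M, M⁆ ∧ HasNormalPComplement p ↥(sigmaCore M) ∧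
        ∀ q : ℕ, q.Prime → q ∣ (pPrimeCore p ↥M).index → q ≤ p := by
  have hq := fun p hp hpM hpb => bg10_11q hG hUT hder h7 hM p hp hpM hpb
  have hd1 : Nat.card ↥⁅M, M⁆ ∣ Nat.card ↥M :=
    Subgroup.card_dvd_of_le (Subgroup.commutator_le_self M)
  have hd2 : Nat.card ↥(sigmaCore M) ∣ Nat.card ↥M :=
    Subgroup.card_dvd_of_le ((Cfsg.Agent.Lib.Helper30.BG10.sigmaCore_le_commutator hG hder hM).trans
      (Subgroup.commutator_le_self M))
  obtain ⟨a1, a2, a3⟩ := Cfsg.Agent.Lib.Helper78.BG10.npc_sub ⁅M, M⁆ (beta M)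
    (Cfsg.Agent.Lib.Helper62.BG10.npc_core (beta M)
      (fun q hq' hqd hqb => (hq q hq' (hqd.trans hd1) hqb).1))
  obtain ⟨-, -, b3⟩ := Cfsg.Agent.Lib.Helper78.BG10.npc_sub (sigmaCore M) (beta M)
    (Cfsg.Agent.Lib.Helper62.BG10.npc_core (beta M)
      (fun q hq' hqd hqb => (hq q hq' (hqd.trans hd2) hqb).2.1))
  obtain ⟨k1, k2⟩ := Cfsg.Agent.Lib.Helper19.BG10.bg10_11k hG hUT hder hM a1 a2
  exact ⟨k1, k2, a3, b3, hq⟩

/-- S1415 from `H2` -/
theorem bg10_12 (hG : IsMinSimpleOddOrder G) (h2 : H2 G) (M : Subgroup G) (hM : IsCoatom M)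
    (E : Subgroup G) (hE : IsComplIn E (sigmaCore M) M) :
    Group.IsNilpotent ↥⁅E, E⁆ ∧
      (∀ E₁ : Subgroup G, IsPiHallOf (tau1 M) E₁ E → IsCyclic E₁) ∧
      ∀ E₃ : Subgroup G, IsPiHallOf (tau3 M) E₃ E →
        IsCyclic E₃ ∧ E₃ ≤ ⁅E, E⁆ ∧ E ≤ Subgroup.normalizer (E₃ : Set G) := by
  have ha := Cfsg.Agent.Lib.Helper30.BG10.bg10_12a hG h2 hM hE
  exact ⟨ha, fun E₁ h1 => Cfsg.Agent.Lib.Helper23.BG10.bg10_12b hG hM hE E₁ h1,
    fun E₃ h3 => Cfsg.Agent.Lib.Helper8.BG10.bg10_12c hG hM hE ha E₃ h3⟩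

end Cfsg.Agent.Lib.Helper15.BG10
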