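import Mathlib
import Cfsg.Prelude.Def_Perm
import Cfsg.Agent.Lib.Helper23.CitField

set_option autoImplicit false
set_option maxHeartbeats 1600000

namespace Cfsg.Agent.Lib.Helper15

/-- Piece P3 of S0732 (helper23): a permutation group with a regular normal subgroup of even
order and an abelian normal subgroup of the point stabilizer transitive on the other points is
semi-affine over `GF(2^q)`. -/
theorem semiaffine_of_regular_normal {α : Type*} [Fintype α] [DecidableEq α]
    (G : Subgroup (Equiv.Perm α)) (N : Subgroup G) [N.Normal]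
    (hNt : MulAction.IsPretransitive N α) (hNr : ∀ c : α, MulAction.stabilizer N c = ⊥)
    (hev : Even (Fintype.card α)) (a b : α) (hab : a ≠ b)
    (P : Subgroup G) (hPa : P ≤ MulAction.stabilizer G a)
    (hPcomm : ∀ u ∈ P, ∀ v ∈ P, u * v = v * u)
    (hPn : ∀ g ∈ MulAction.stabilizer G a, ∀ u ∈ P, g * u * g⁻¹ ∈ P)
    (hPt : ∀ c : α, c ≠ a → ∃ u ∈ P, u • b = c)
    (h3 : ∀ g : G, ∀ c : α, c ≠ a → c ≠ b → g • a = a → g • b = b → g • c = c → g = 1) :
    ∃ q : ℕ, q ≠ 0 ∧ Fintype.card α = 2 ^ q ∧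
      (Nat.card ↥(MulAction.stabilizer G a ⊓ MulAction.stabilizer G b) = 1 ∨
        Nat.card ↥(MulAction.stabilizer G a ⊓ MulAction.stabilizer G b) = q) ∧
      ∃ e : α ≃ GaloisField 2 q, ∀ g : G,
        (e.symm.trans ((g : Equiv.Perm α).trans e)) ∈ Cfsg.semiaffineGroup (GaloisField 2 q) := by
  classical
  have hGfin : Finite G := inferInstance
  have hfaith : ∀ g : G, (∀ c : α, g • c = c) → g = 1 := by
    intro g hg
    apply Subtype.ext
    apply Equiv.ext
    intro c
    exact hg c
  -- regularity of N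
  have hNuniq : ∀ n ∈ N, ∀ m ∈ N, n • a = m • a → n = m := by
    intro n hn m hm h
    have h1 : (⟨m⁻¹ * n, N.mul_mem (N.inv_mem hm) hn⟩ : N) ∈ MulAction.stabilizer N a := by
      rw [MulAction.mem_stabilizer_iff]
      show (m⁻¹ * n) • a = a
      rw [mul_smul, h, inv_smul_smul]
    rw [hNr a, Subgroup.mem_bot] at h1
    have h2 : m⁻¹ * n = 1 := congrArg Subtype.val h1
    exact (inv_mul_eq_one.mp h2).symm
  have hNex : ∀ ω : α, ∃ n ∈ N, n • a = ω := by
    intro ω
    obtain ⟨n, hn⟩ := hNt.exists_smul_eq a ω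
    exact ⟨n, n.2, hn⟩
  have hconj : ∀ h : G, h • a = a → ∀ n : G, (h * n * h⁻¹) • a = h • n • a := by
    intro h ha n
    rw [mul_smul, mul_smul, inv_smul_eq_iff.mpr ha.symm]
  have hNconj : ∀ h : G, ∀ n ∈ N, h * n * h⁻¹ ∈ N := fun h n hn =>
    (inferInstance : N.Normal).conj_mem n hn h
  obtain ⟨ε, hεN, hεb⟩ := hNex b
  have hε1 : ε ≠ 1 := by
    rintro rfl
    rw [one_smul] at hεb
    exact hab hεb
  have hfixcomm : ∀ h : G, h • a = a → ∀ n ∈ N, (h • n • a = n • a ↔ h * n * h⁻¹ = n) := by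
    intro h ha n hn
    constructor
    · intro hh
      apply hNuniq _ (hNconj h n hn) _ hn
      rw [hconj h ha, hh]
    · intro hh
      rw [← hconj h ha, hh]
  have hPfix : ∀ u ∈ P, u • a = a := fun u hu => MulAction.mem_stabilizer_iff.mp (hPa hu)
  have hNtr : ∀ n ∈ N, n ≠ 1 → ∃ u ∈ P, u * ε * u⁻¹ = n := by
    intro n hn hn1
    have hna : n • a ≠ a := fun h => hn1 (hNuniq n hn 1 N.one_mem (by rw [h, one_smul]))
    obtain ⟨u, hu, hub⟩ := hPt (n • a) hna
    refine ⟨u, hu, hNuniq _ (hNconj u ε hεN) n hn ?_⟩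
    rw [hconj u (hPfix u hu), hεb, hub]
  -- N has exponent 2
  have hcardN : Nat.card N = Fintype.card α := by
    rw [← Nat.card_eq_fintype_card]
    apply Nat.card_congr
    exact Equiv.ofBijective (fun n : N => (n : G) • a)
      ⟨fun n m h => Subtype.ext (hNuniq n n.2 m m.2 h), fun ω => by
        obtain ⟨n, hn, h⟩ := hNex ω
        exact ⟨⟨n, hn⟩, h⟩⟩
  have hε2 : ε ^ 2 = 1 := by
    have h2dvd : 2 ∣ Nat.card N := by rw [hcardN]; exact even_iff_two_dvd.mp hev
    obtain ⟨x, hx⟩ := exists_prime_orderOf_dvd_card' 2 h2dvd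
    have hx1 : (x : G) ≠ 1 := by
      intro h
      have : x = 1 := Subtype.ext h
      rw [this, orderOf_one] at hx
      omega
    have hx2 : (x : G) ^ 2 = 1 := by
      rw [← Subgroup.coe_pow, ← hx, pow_orderOf_eq_one]
      rfl
    obtain ⟨u, -, hu⟩ := hNtr (x : G) x.2 hx1
    rw [← hu, conj_pow] at hx2
    have : ε ^ 2 = u⁻¹ * (u * ε ^ 2 * u⁻¹) * u := by group
    rw [this, hx2]
    group
  have hN2 : ∀ n ∈ N, n ^ 2 = 1 := by
    intro n hn
    by_cases hn1 : n = 1
    · rw [hn1, one_pow]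
    · obtain ⟨h, -, rfl⟩ := hNtr n hn hn1
      rw [conj_pow, hε2]
      group
  have hNinv : ∀ x ∈ N, x⁻¹ = x := fun x hx =>
    inv_eq_of_mul_eq_one_left (by rw [← sq]; exact hN2 x hx)
  have hNcomm : ∀ x ∈ N, ∀ y ∈ N, x * y = y * x := by
    intro x hx y hy
    calc x * y = (x * y)⁻¹ := (hNinv _ (N.mul_mem hx hy)).symm
      _ = y⁻¹ * x⁻¹ := mul_inv_rev x y
      _ = y * x := by rw [hNinv x hx, hNinv y hy]
  -- the point stabilizer and the two-point stabilizer
  set H : Subgroup G := MulAction.stabilizer G a with hH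
  set D : Subgroup G := H ⊓ MulAction.stabilizer G b with hD
  have hmemH : ∀ x : G, x ∈ H ↔ x • a = a := fun x => MulAction.mem_stabilizer_iff
  have hmemD : ∀ x : G, x ∈ D ↔ x • a = a ∧ x • b = b := fun x => by
    rw [hD, Subgroup.mem_inf, hmemH, MulAction.mem_stabilizer_iff]
  have hDε : ∀ d ∈ D, d * ε * d⁻¹ = ε := by
    intro d hd
    obtain ⟨hda, hdb⟩ := (hmemD d).mp hd
    exact (hfixcomm d hda ε hεN).mp (by rw [hεb, hdb])
  -- the field
  obtain ⟨K, instF, instFin, τ, hchar, hcardK, hτN, hτinj, hτsurj, hτ0, hτ1, hτadd, hτmul⟩ :=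
    Cfsg.Agent.Lib.Helper23.exists_field_of_group N P hNcomm hN2
      (fun h _ t ht => hNconj h t ht) hPcomm ε hεN hε1 hNtr
  -- conjugation transported to K
  have hαex : ∀ (d : G) (x : K), ∃ y : K, τ y = d * τ x * d⁻¹ := fun d x =>
    hτsurj _ (hNconj d _ (hτN x))
  choose αf hαf using hαex
  have hαadd : ∀ d x y, αf d (x + y) = αf d x + αf d y := by
    intro d x y
    apply hτinj
    rw [hαf, hτadd, hτadd, hαf, hαf]
    group
  have hα0 : ∀ d, αf d 0 = 0 := by
    intro d
    apply hτinj
    rw [hαf, hτ0]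
    group
  have hαone : ∀ x, αf 1 x = x := by
    intro x
    apply hτinj
    rw [hαf]
    group
  have hαcomp : ∀ d d' x, αf (d * d') x = αf d (αf d' x) := by
    intro d d' x
    apply hτinj
    rw [hαf, hαf, hαf]
    group
  have hαinj : ∀ d, Function.Injective (αf d) := by
    intro d x y hxy
    apply hτinj
    have h1 := hαf d x
    have h2 := hαf d y
    rw [hxy, h2] at h1
    have : τ x = d⁻¹ * (d * τ x * d⁻¹) * d := by group
    rw [this, ← h1]
    group
  have hα1 : ∀ d ∈ D, αf d 1 = 1 := by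
    intro d hd
    apply hτinj
    rw [hαf, hτ1, hDε d hd]
  -- multiplication by a nonzero element is conjugation by an element of P
  have hmulA : ∀ x : K, x ≠ 0 → ∃ h ∈ P, ∀ c, τ (x * c) = h * τ c * h⁻¹ := by
    intro x hx
    have hx1 : τ x ≠ 1 := fun h => hx (hτinj (h.trans hτ0.symm))
    obtain ⟨y, hy, hyx⟩ := hNtr (τ x) (hτN x) hx1
    obtain ⟨k, hk⟩ := hτmul y hy
    have hkx : k = x := by
      apply hτinj
      have := hk 1
      rw [mul_one, hτ1, hyx] at this
      exact this
    rw [hkx] at hk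
    exact ⟨y, hy, hk⟩
  -- semilinearity of conjugation by elements fixing a
  have hαmul : ∀ d ∈ H, ∀ x y, αf d (x * y) * αf d 1 = αf d x * αf d y := by
    intro d hd x y
    by_cases hx : x = 0
    · rw [hx, zero_mul, hα0, zero_mul, zero_mul]
    obtain ⟨h, hhP, hh⟩ := hmulA x hx
    have hconjP : d * h * d⁻¹ ∈ P := hPn d hd h hhP
    obtain ⟨k', hk'⟩ := hτmul _ hconjP
    have hkey : ∀ c, αf d (x * c) = k' * αf d c := by
      intro c
      apply hτinj
      rw [hk', hαf, hαf, hh]
      group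
    have h1 := hkey 1
    rw [mul_one] at h1
    rw [hkey y, h1]
    ring
  -- the bijection K → α
  have hbij : Function.Bijective (fun x : K => τ x • a) := by
    constructor
    · intro x y h
      exact hτinj (hNuniq _ (hτN x) _ (hτN y) h)
    · intro c
      obtain ⟨n, hn, hnc⟩ := hNex c
      obtain ⟨x, rfl⟩ := hτsurj n hn
      exact ⟨x, hnc⟩
  let e₀ : α ≃ K := (Equiv.ofBijective _ hbij).symm
  have he₀ : ∀ x : K, e₀ (τ x • a) = x := fun x => (Equiv.ofBijective _ hbij).symm_apply_apply x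
  have he₀symm : ∀ x : K, e₀.symm x = τ x • a := fun x => rfl
  -- every element of G is semi-affine
  have hsemi : ∀ g : G, ∃ (c₀ : K) (β : K) (σ : K ≃+* K), c₀ ≠ 0 ∧
      ∀ x : K, e₀ (g • e₀.symm x) = c₀ * σ x + β := by
    intro g
    obtain ⟨β, hβ⟩ := hbij.2 (g • a)
    have hβ' : τ β • a = g • a := hβ
    set g₀ : G := (τ β)⁻¹ * g with hg₀
    have hg₀a : g₀ • a = a := by rw [hg₀, mul_smul, ← hβ', inv_smul_smul]
    have hg₀H : g₀ ∈ H := (hmemH g₀).mpr hg₀a
    set c₀ := αf g₀ 1 with hc₀
    have hc₀ne : c₀ ≠ 0 := by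
      intro h
      have := hαinj g₀ (h.trans (hα0 g₀).symm)
      exact one_ne_zero this
    let σh : K →+* K :=
      { toFun := fun x => αf g₀ x / c₀
        map_one' := div_self hc₀ne
        map_mul' := by
          intro x y
          have := hαmul g₀ hg₀H x y
          rw [div_mul_div_comm, ← this, mul_div_mul_right _ _ hc₀ne]
        map_zero' := by rw [hα0, zero_div]
        map_add' := by intro x y; rw [hαadd, add_div] }
    let σ : K ≃+* K := RingEquiv.ofBijective σh
      ⟨σh.injective, Finite.injective_iff_surjective.mp σh.injective⟩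
    refine ⟨c₀, β, σ, hc₀ne, fun x => ?_⟩
    have hσx : σ x = αf g₀ x / c₀ := rfl
    rw [hσx, mul_div_cancel₀ _ hc₀ne, he₀symm]
    have hgg : τ β * g₀ = g := by rw [hg₀]; group
    have : g • τ x • a = τ (αf g₀ x + β) • a := by
      rw [add_comm, hτadd, hαf, mul_smul, hconj g₀ hg₀a, ← mul_smul (τ β) g₀, hgg]
    rw [this, he₀]
  -- the two-point stabilizer
  have hDcases : Nat.card D = 1 ∨ Fintype.card K = 2 ^ Nat.card D := by
    by_cases hD1 : Nat.card D = 1
    · exact Or.inl hD1
    right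
    have hDH : ∀ d ∈ D, d ∈ H := fun d hd => (hmemH d).mpr ((hmemD d).mp hd).1
    have hαmulD : ∀ d ∈ D, ∀ x y, αf d (x * y) = αf d x * αf d y := by
      intro d hd x y
      have := hαmul d (hDH d hd) x y
      rw [hα1 d hd, mul_one] at this
      exact this
    let σD : D → (K ≃+* K) := fun d => RingEquiv.ofBijective
      ({ toFun := αf (d : G)
         map_one' := hα1 d d.2
         map_mul' := hαmulD d d.2
         map_zero' := hα0 d
         map_add' := hαadd d } : K →+* K)
      ⟨hαinj d, Finite.injective_iff_surjective.mp (hαinj d)⟩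
    have hσD : ∀ (d : D) (x : K), σD d x = αf (d : G) x := fun d x => rfl
    let φ : D →* (K ≃+* K) :=
      { toFun := σD
        map_one' := by
          ext x
          rw [hσD]
          exact hαone x
        map_mul' := by
          intro d d'
          ext x
          rw [hσD]
          show αf ((d : G) * (d' : G)) x = _
          rw [hαcomp]
          rfl }
    have hφ : ∀ (d : D) (x : K), φ d x = αf (d : G) x := fun d x => rfl
    have hφinj : Function.Injective φ := by
      rw [injective_iff_map_eq_one]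
      intro d hd
      apply Subtype.ext
      apply hfaith
      intro c
      obtain ⟨n, hn, rfl⟩ := hNex c
      obtain ⟨x, rfl⟩ := hτsurj n hn
      have hda : (d : G) • a = a := ((hmemD d).mp d.2).1
      apply (hfixcomm d hda _ (hτN x)).mpr
      rw [← hαf, ← hφ, hd]
      rfl
    let Z : Subgroup (K ≃+* K) := φ.range
    have hfinAut : Finite (K ≃+* K) :=
      Finite.of_injective (fun e : K ≃+* K => (e : K → K)) DFunLike.coe_injective
    have hZfin : Fintype Z := Fintype.ofFinite Z
    have hrank := FixedPoints.finrank_eq_card Z K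
    have hcardZ : Fintype.card Z = Nat.card D := by
      rw [← Nat.card_eq_fintype_card]
      exact (Nat.card_congr (MonoidHom.ofInjective hφinj).toEquiv).symm
    obtain ⟨d, hd1⟩ : ∃ d : D, d ≠ 1 := by
      by_contra hcon
      push Not at hcon
      apply hD1
      rw [Nat.card_eq_one_iff_unique]
      exact ⟨⟨fun x y => (hcon x).trans (hcon y).symm⟩, ⟨1⟩⟩
    have hF : ∀ x : K, x ∈ FixedPoints.subfield Z K → x = 0 ∨ x = 1 := by
      intro x hx
      have hσx : φ d x = x := hx ⟨φ d, ⟨d, rfl⟩⟩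
      by_contra hcon
      push Not at hcon
      apply hd1
      apply Subtype.ext
      obtain ⟨hda, hdb⟩ := (hmemD d).mp d.2
      have hcomm : (d : G) * τ x * (d : G)⁻¹ = τ x := by
        rw [← hαf, ← hφ, hσx]
      have hfix : (d : G) • τ x • a = τ x • a := (hfixcomm d hda _ (hτN x)).mpr hcomm
      apply h3 (d : G) (τ x • a) ?_ ?_ hda hdb hfix
      · intro h
        apply hcon.1
        apply hτinj
        rw [hτ0]
        exact hNuniq _ (hτN x) 1 N.one_mem (by rw [h, one_smul])
      · intro h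
        apply hcon.2
        apply hτinj
        rw [hτ1]
        exact hNuniq _ (hτN x) ε hεN (by rw [h, hεb])
    have hFfin : Fintype (FixedPoints.subfield Z K) := Fintype.ofFinite _
    have hcardF : Fintype.card (FixedPoints.subfield Z K) = 2 := by
      rw [← Nat.card_eq_fintype_card, Nat.card_eq_two_iff]
      refine ⟨0, 1, zero_ne_one, ?_⟩
      ext x
      simp only [Set.mem_insert_iff, Set.mem_singleton_iff, Set.mem_univ, iff_true]
      rcases hF (x : K) x.2 with h | h
      · left
        exact Subtype.ext h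
      · right
        exact Subtype.ext h
    rw [Module.card_eq_pow_finrank (K := FixedPoints.subfield Z K) (V := K), hcardF, hrank,
      hcardZ]
  -- assembly
  have := hchar
  obtain ⟨n, -, hn⟩ := FiniteField.card K 2
  have hq0 : (n : ℕ) ≠ 0 := n.pos.ne'
  have hcardα : Fintype.card α = 2 ^ (n : ℕ) := by rw [← hcardN, ← hcardK, hn]
  refine ⟨n, hq0, hcardα, ?_, ?_⟩
  · rcases hDcases with h | h
    · exact Or.inl h
    · right
      rw [hn] at h
      exact (Nat.pow_right_injective (le_refl 2) h).symm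
  · haveI : Fintype (GaloisField 2 n) := Fintype.ofFinite _
    have hcardGF : Fintype.card K = Fintype.card (GaloisField 2 n) := by
      rw [hn, ← Nat.card_eq_fintype_card, GaloisField.card 2 n hq0]
    let ρ : K ≃+* GaloisField 2 n := FiniteField.ringEquivOfCardEq hcardGF
    refine ⟨e₀.trans ρ.toEquiv, fun g => ?_⟩
    obtain ⟨c₀, β, σ, hc₀, hg⟩ := hsemi g
    refine ⟨Units.mk0 (ρ c₀) (by simpa using hc₀), ρ β, ρ.symm.trans (σ.trans ρ), fun y => ?_⟩
    show ρ (e₀ (g • e₀.symm (ρ.symm y))) = ρ c₀ * ρ (σ (ρ.symm y)) + ρ β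
    rw [hg, map_add, map_mul]

end Cfsg.Agent.Lib.Helper15
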