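import Cfsg.Agent.Lib.Helper15.BG11Aux2
import Cfsg.Agent.Lib.Helper8.BG12xT0b

/-!
# B&G Section 12, piece T11A (first half of B&G 12.5(e)) (helper15, for helper41)
-/

set_option autoImplicit false

open Cfsg Cfsg.Agent.Lib.Helper32 Cfsg.Agent.Lib.Helper32.BG10 Cfsg.Agent.Lib.Helper3.BG12
open Cfsg.Agent.Lib.Helper41.BG11

namespace Cfsg.Agent.Lib.Helper15.BG11

universe u

/-- T11A -/
def PE1 (G : Type u) [Group G] : Prop :=
  ∀ (M : Subgroup G) (p : ℕ) (A A₀ : Subgroup G), Exc M p A A₀ → ∀ H : Subgroup G, IsCoatom H →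
    H ≠ M → A ≤ H → sigmaCore M ⊓ H ≠ ⊥ →
    H ⊓ Subgroup.normalizer (A : Set G) ≤ M ∧ p ∉ sigma H

variable {G : Type u} [Group G] [Finite G]

theorem t11a (hG : IsMinSimpleOddOrder G) (hTr : PTr G) (hNil : PNil G) (hSyl : PSyl G)
    (hBSB : PBSB G) : PE1 G := by
  intro M p A A₀ hE H hH hHM hAH hD
  obtain ⟨hM, hp, hσ, hAM, hmax, hAc, hpid, hA₀, hA₀c, hN⟩ := id hE
  have : Fact p.Prime := ⟨hp⟩
  have hAp : IsPGroup p A := IsPGroup.of_card hAc
  have hAe : IsElementaryAbelian p A := hmax.1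
  have hD1 : Nat.card ↥(sigmaCore M ⊓ H) ≠ 1 := fun h => hD (Subgroup.card_eq_one.mp h)
  obtain ⟨q, hq, hqD⟩ := Nat.exists_prime_and_dvd hD1
  have : Fact q.Prime := ⟨hq⟩
  have hqM : q ∈ sigma M :=
    Cfsg.Agent.Lib.Helper32.BG12.mem_sigma_of_dvd_sigmaCore hq
      (hqD.trans (Subgroup.card_dvd_of_le inf_le_left))
  have hqp : q ≠ p := fun h => hσ (h ▸ hqM)
  obtain ⟨x, hx⟩ := exists_prime_orderOf_dvd_card' (G := ↥(sigmaCore M ⊓ H)) q hqD
  have hxS : (x : G) ∈ sigmaCore M := x.2.1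
  have hxH : (x : G) ∈ H := x.2.2
  have hx1 : (x : G) ≠ 1 := by
    intro h
    have h2 : x = 1 := Subtype.ext h
    rw [h2, orderOf_one] at hx
    exact hq.one_lt.ne hx
  have hXq : IsPGroup q ↥(Subgroup.zpowers (x : G)) := by
    apply IsPGroup.of_card (n := 1)
    rw [Nat.card_zpowers, Subgroup.orderOf_coe, hx, pow_one]
  have hnil := hNil M p A A₀ hE
  obtain ⟨Q, hQ, hXQ, hMQ⟩ := aux_exists_normal_sylow hnil (aux_le_normalizer_sigmaCore M) hXq
    (Subgroup.zpowers_le.mpr hxS)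
  obtain ⟨hQM, hQtop, hNQ⟩ := aux_f3 hG hM hqM hQ
  have hxQ : (x : G) ∈ Q := hXQ (Subgroup.mem_zpowers _)
  have hHQ : H ⊓ Q ≠ ⊥ := by
    intro h
    have h2 : (x : G) ∈ H ⊓ Q := Subgroup.mem_inf.mpr ⟨hxH, hxQ⟩
    rw [h, Subgroup.mem_bot] at h2
    exact hx1 h2
  -- (1)
  have h1 : H ⊓ Subgroup.normalizer (A : Set G) ≤ M := by
    intro g hg
    have hgH : g ∈ H := (Subgroup.mem_inf.mp hg).1
    have hgA : g ∈ Subgroup.normalizer (A : Set G) := (Subgroup.mem_inf.mp hg).2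
    by_contra hgM
    have hQ2top : cj g Q ∈ sylSet q ⊤ := ⟨le_top, by rw [card_cj]; exact hQtop.2⟩
    have hAQ2 : A ≤ Subgroup.normalizer ((cj g Q : Subgroup G) : Set G) := by
      intro a ha
      rw [mem_normalizer_cj]
      have h2 : g⁻¹ * a * g ∈ A := by
        have h3 := (Subgroup.mem_normalizer_iff.mp (Subgroup.inv_mem _ hgA) a).mp ha
        simpa using h3
      exact hMQ (hAM h2)
    have hHQ2 : H ⊓ cj g Q ≠ ⊥ := by
      intro h
      have h2 : g * (x : G) * g⁻¹ ∈ H ⊓ cj g Q := by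
        have ha : g * (x : G) * g⁻¹ ∈ H := H.mul_mem (H.mul_mem hgH hxH) (H.inv_mem hgH)
        have hb : g * (x : G) * g⁻¹ ∈ cj g Q := by
          rw [mem_cj]
          have e : g⁻¹ * (g * (x : G) * g⁻¹) * g = x := by group
          rw [e]
          exact hxQ
        exact Subgroup.mem_inf.mpr ⟨ha, hb⟩
      rw [h, Subgroup.mem_bot] at h2
      apply hx1
      have e : (x : G) = g⁻¹ * (g * (x : G) * g⁻¹) * g := by group
      rw [e, h2]
      group
    obtain ⟨k, hk, hkQ⟩ := hTr p A hp hmax hAc q hq hqp Q (cj g Q) hQtop hQ2top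
      (hAM.trans hMQ) hAQ2 H hH.1 hAH hHQ hHQ2
    have hkM : k ∈ M := hE.cent_le hk
    have h3 : cj g Q = Q := by
      rw [hkQ]
      exact cj_eq_self_iff.mpr (hMQ hkM)
    exact hgM (hNQ (cj_eq_self_iff.mp h3))
  refine ⟨h1, ?_⟩
  -- (2)
  intro hpH
  obtain ⟨PH, hPH, hAPH⟩ := exists_sylSet_ge hAp hAH
  obtain ⟨hNPH, hPHtop⟩ := sigma_sylSet hpH hPH
  have hPHp : IsPGroup p PH := isPGroup_of_mem_sylSet hPH
  have hΩ : ∀ y ∈ PH ⊓ Subgroup.centralizer (A : Set G), y ^ p = 1 → y ∈ A := by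
    intro y hy hyp
    have hyC : y ∈ Subgroup.centralizer (A : Set G) := (Subgroup.mem_inf.mp hy).2
    exact Cfsg.Agent.Lib.Helper8.BG12x.t0b_mem_of_comm hAe hmax.2
      (fun a ha => Subgroup.mem_centralizer_iff.mp hyC a ha) hyp
  by_cases hPC : PH ≤ Subgroup.centralizer (A : Set G)
  · have hNN : Subgroup.normalizer (PH : Set G) ≤ Subgroup.normalizer (A : Set G) := by
      have key : ∀ g ∈ Subgroup.normalizer (PH : Set G), ∀ a ∈ A, g * a * g⁻¹ ∈ A := by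
        intro g hg a ha
        have h3 : g * a * g⁻¹ ∈ PH := (Subgroup.mem_normalizer_iff.mp hg a).mp (hAPH ha)
        refine hΩ _ (Subgroup.mem_inf.mpr ⟨h3, hPC h3⟩) ?_
        rw [conj_pow, hAe.2 a ha]
        simp
      intro g hg
      rw [Subgroup.mem_normalizer_iff]
      intro a
      constructor
      · exact key g hg a
      · intro h
        have h4 := key g⁻¹ (Subgroup.inv_mem _ hg) _ h
        simpa [mul_assoc] using h4
    have hNM : Subgroup.normalizer (PH : Set G) ≤ M :=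
      fun g hg => h1 (Subgroup.mem_inf.mpr ⟨hNPH hg, hNN hg⟩)
    have hPHM : PH ≤ M := Subgroup.le_normalizer.trans hNM
    obtain ⟨R, hR, hPHR⟩ := exists_sylSet_ge hPHp hPHM
    have hRe : R = PH := sylSet_eq_of_le hPHtop (isPGroup_of_mem_sylSet hR) le_top hPHR
    rw [hRe] at hR
    have hPH1 : PH ≠ ⊥ := by
      intro h
      rw [h] at hAPH
      have h5 := le_bot_iff.mp hAPH
      rw [h5, Subgroup.card_bot] at hAc
      have := hp.one_lt
      nlinarith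
    exact hσ (mem_sigma_of_normalizer_le hR hPH1 hNM)
  · obtain ⟨Z₀, -, -, -, -, ⟨u, hu, huC⟩, -⟩ := hBSB p A PH hp hPHp hAPH hAe hAc hΩ hPC
    have hu1 : u ∈ PH := (Subgroup.mem_inf.mp hu).1
    have hu2 : u ∈ Subgroup.normalizer (A : Set G) := (Subgroup.mem_inf.mp hu).2
    have huM : u ∈ M := h1 (Subgroup.mem_inf.mpr ⟨hPH.1 hu1, hu2⟩)
    have hUp : IsPGroup p ↥(A ⊔ Subgroup.zpowers u) :=
      hPHp.to_le (sup_le hAPH (Subgroup.zpowers_le.mpr hu1))
    have hUM : A ⊔ Subgroup.zpowers u ≤ M := sup_le hAM (Subgroup.zpowers_le.mpr huM)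
    obtain ⟨P', hP', hUP'⟩ := exists_sylSet_ge hUp hUM
    have hcomm := (hSyl M p A A₀ hE P' hP').1
    apply huC
    refine Subgroup.mem_centralizer_iff.mpr (fun a ha => ?_)
    have h6 := hcomm.is_comm.comm ⟨a, hUP' (Subgroup.mem_sup_left ha)⟩
      ⟨u, hUP' (Subgroup.mem_sup_right (Subgroup.mem_zpowers u))⟩
    exact congrArg Subtype.val h6

end Cfsg.Agent.Lib.Helper15.BG11
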