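import Cfsg.Agent.Lib.Helper15.BG11T11A

/-!
# B&G Section 12, piece T11B (B&G 12.5(e)) (helper15, for helper41)
-/

set_option autoImplicit false

open Cfsg Cfsg.Agent.Lib.Helper32 Cfsg.Agent.Lib.Helper32.BG10 Cfsg.Agent.Lib.Helper3.BG12
open Cfsg.Agent.Lib.Helper41.BG11

namespace Cfsg.Agent.Lib.Helper15.BG11

universe u

variable {G : Type u} [Group G] [Finite G]

theorem t11b (hG : IsMinSimpleOddOrder G) (h16 : H16 G) (hE1 : PE1 G) (hTr : PTr G)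
    (hNil : PNil G) (hFpf : PFpf G) (hNorm : PNorm G) : PE G := by
  intro M p A A₀ hE H hH hHM hAH
  by_contra hD
  obtain ⟨hM, hp, hσ, hAM, hmax, hAc, hpid, hA₀, hA₀c, hN⟩ := id hE
  have : Fact p.Prime := ⟨hp⟩
  have hAp : IsPGroup p A := IsPGroup.of_card hAc
  have hAe : IsElementaryAbelian p A := hmax.1
  obtain ⟨hHNA, hpH⟩ := hE1 M p A A₀ hE H hH hHM hAH hD
  have hex : ∃ A₀' : Subgroup G, A₀' ≤ A ∧ Nat.card A₀' = p ∧
      Subgroup.normalizer (A₀' : Set G) ≤ H := by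
    by_contra hne
    push Not at hne
    exact hpH ((h16 H hH p A ⟨hAH, hAe, hAc⟩).2 (fun B hB hc hh => hne B hB hc hh.1)).1
  obtain ⟨A₀', hA₀', hA₀'c, hN'⟩ := hex
  have hExcH : Exc H p A A₀' := exc_mk hG hH hp hpH hAH hAe hAc hA₀' hA₀'c hN'
  -- `q`, `x`, `Q` as in T11A
  have hD1 : Nat.card ↥(sigmaCore M ⊓ H) ≠ 1 := fun h => hD (Subgroup.card_eq_one.mp h)
  obtain ⟨q, hq, hqD⟩ := Nat.exists_prime_and_dvd hD1
  have : Fact q.Prime := ⟨hq⟩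
  have hqM : q ∈ sigma M :=
    Cfsg.Agent.Lib.Helper32.BG12.mem_sigma_of_dvd_sigmaCore hq
      (hqD.trans (Subgroup.card_dvd_of_le inf_le_left))
  have hqp : q ≠ p := fun h => hσ (h ▸ hqM)
  obtain ⟨x, hx⟩ := exists_prime_orderOf_dvd_card' (G := ↥(sigmaCore M ⊓ H)) q hqD
  have hxS : (x : G) ∈ sigmaCore M := x.2.1
  have hxH : (x : G) ∈ H := x.2.2
  have hx1 : (x : G) ≠ 1 := by
    intro h
    have h2 : x = 1 := Subtype.ext h
    rw [h2, orderOf_one] at hx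
    exact hq.one_lt.ne hx
  have hXq : IsPGroup q ↥(Subgroup.zpowers (x : G)) := by
    apply IsPGroup.of_card (n := 1)
    rw [Nat.card_zpowers, Subgroup.orderOf_coe, hx, pow_one]
  have hnil := hNil M p A A₀ hE
  obtain ⟨Q, hQ, hXQ, hMQ⟩ := aux_exists_normal_sylow hnil (aux_le_normalizer_sigmaCore M) hXq
    (Subgroup.zpowers_le.mpr hxS)
  obtain ⟨hQM, hQtop, hNQ⟩ := aux_f3 hG hM hqM hQ
  have hxQ : (x : G) ∈ Q := hXQ (Subgroup.mem_zpowers _)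
  have hxHQ : (x : G) ∈ H ⊓ Q := Subgroup.mem_inf.mpr ⟨hxH, hxQ⟩
  have hHQ : H ⊓ Q ≠ ⊥ := by
    intro h
    have h2 := hxHQ
    rw [h, Subgroup.mem_bot] at h2
    exact hx1 h2
  -- (4) `q ∉ σ(H)`
  have hqH : q ∉ sigma H := by
    intro hqH
    have hqdH : q ∣ Nat.card H := hqH.2.1
    have hnilH := hNil H p A A₀' hExcH
    obtain ⟨QH, hQH, -, hHQH⟩ := aux_exists_normal_sylow hnilH (aux_le_normalizer_sigmaCore H)
      (IsPGroup.of_bot (p := q)) bot_le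
    obtain ⟨hQHH, hQHtop, hNQH⟩ := aux_f3 hG hH hqH hQH
    have hQH1 : QH ≠ ⊥ := aux_sylSet_ne_bot hq hQHH hqdH
    have hHQH' : H ⊓ QH ≠ ⊥ := by
      rw [inf_eq_right.mpr hQHH.1]
      exact hQH1
    obtain ⟨k, hk, hkQ⟩ := hTr p A hp hmax hAc q hq hqp Q QH hQtop hQHtop (hAM.trans hMQ)
      (hAH.trans hHQH) H hH.1 hAH hHQ hHQH'
    have hkM : k ∈ M := hE.cent_le hk
    have hQeq : QH = Q := by
      rw [hkQ]
      exact cj_eq_self_iff.mpr (hMQ hkM)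
    have hHM' : H ≤ M := by
      calc H ≤ Subgroup.normalizer (QH : Set G) := hHQH
        _ = Subgroup.normalizer (Q : Set G) := by rw [hQeq]
        _ ≤ M := hNQ
    exact hHM (coatom_eq_of_le hH hM hHM')
  -- `T := A ⊔ Σ_H`, with Sylow `p`-subgroup `A`
  have hSH := aux_sigmaCore_le H
  have hAnS : A ≤ Subgroup.normalizer (sigmaCore H : Set G) :=
    hAH.trans (aux_le_normalizer_sigmaCore H)
  have hcopH : (Nat.card ↥(sigmaCore H)).Coprime p := aux_coprime hp hpH le_rfl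
  have hdisj : A ⊓ sigmaCore H = ⊥ :=
    (Subgroup.disjoint_of_coprime_natCard
      (by rw [hAc]; exact Nat.Coprime.pow_left 2 hcopH.symm)).eq_bot
  have hcardT : Nat.card ↥(A ⊔ sigmaCore H) = Nat.card ↥(sigmaCore H) * p ^ 2 := by
    rw [Cfsg.Agent.Lib.Helper76.CS.card_sup_of_disjoint hAnS hdisj, hAc]
  have hAT : A ∈ sylSet p (A ⊔ sigmaCore H) := by
    refine ⟨le_sup_left, ?_⟩
    rw [hcardT, hAc]
    congr 1
    rw [Nat.factorization_mul Nat.card_pos.ne' (pow_ne_zero 2 hp.pos.ne'), Finsupp.add_apply,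
      Nat.Prime.factorization_pow hp, Finsupp.single_eq_same,
      Nat.factorization_eq_zero_of_not_dvd ((Nat.Prime.coprime_iff_not_dvd hp).mp hcopH.symm)]
  have hnormT : H ≤ Subgroup.normalizer ((A ⊔ sigmaCore H : Subgroup G) : Set G) := by
    have h0 := hNorm H p A A₀' hExcH
    rwa [sup_comm] at h0
  have hSq : IsPGroup q ↥(H ⊓ Q) := (isPGroup_of_mem_sylSet hQtop).to_le inf_le_right
  have hST : H ⊓ Q ≤ Subgroup.normalizer ((A ⊔ sigmaCore H : Subgroup G) : Set G) :=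
    inf_le_left.trans hnormT
  have hcopST : (Nat.card ↥(H ⊓ Q)).Coprime (Nat.card ↥(A ⊔ sigmaCore H)) := by
    obtain ⟨k, hk⟩ := IsPGroup.iff_card.mp hSq
    rw [hk, hcardT]
    apply Nat.Coprime.pow_left
    apply Nat.Coprime.mul_right
    · exact (aux_coprime hq hqH le_rfl).symm
    · exact Nat.Coprime.pow_right 2 ((Nat.coprime_primes hq hp).mpr hqp)
  have hSsol : Group.IsSolvable ↥(H ⊓ Q) :=
    minSimple_solvable hG (fun h => hH.1 (top_le_iff.mp (h ▸ (inf_le_left : H ⊓ Q ≤ H))))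
  obtain ⟨R, hR, hSR⟩ := exists_invariant_sylow (q := p) (H ⊓ Q) (A ⊔ sigmaCore H) hST hcopST
    hSsol
  obtain ⟨n, hnT, hnR⟩ := sylSet_conj hAT hR
  have hnH : n ∈ H := (sup_le hAH hSH) hnT
  -- the conjugate `cj n⁻¹ (H ⊓ Q)` lies in `H ⊓ N(A) ≤ M`
  have hS'mem : ∀ y ∈ cj n⁻¹ (H ⊓ Q), y ∈ H ∧ y ∈ Subgroup.normalizer (A : Set G) := by
    intro y hy
    rw [mem_cj, inv_inv] at hy
    have hyH : y ∈ H := by
      have h3 := H.mul_mem (H.mul_mem (H.inv_mem hnH) ((Subgroup.mem_inf.mp hy).1)) hnH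
      have e : n⁻¹ * (n * y * n⁻¹) * n = y := by group
      rwa [e] at h3
    refine ⟨hyH, ?_⟩
    have h4 := hSR hy
    rw [← hnR, mem_normalizer_cj] at h4
    have e : n⁻¹ * (n * y * n⁻¹) * n = y := by group
    rwa [e] at h4
  have hS'M : cj n⁻¹ (H ⊓ Q) ≤ M := fun y hy =>
    hHNA (Subgroup.mem_inf.mpr (hS'mem y hy))
  have hS'S : cj n⁻¹ (H ⊓ Q) ≤ sigmaCore M :=
    Cfsg.Agent.Lib.Helper32.BG12.pgroup_le_sigmaCore hG hM hqM (isPGroup_cj hSq) hS'M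
  have hAS : A ⊓ sigmaCore M = ⊥ :=
    (Subgroup.disjoint_of_coprime_natCard
      (by rw [hAc]; exact Nat.Coprime.pow_left 2 (aux_coprime hp hσ le_rfl).symm)).eq_bot
  have hS'C : cj n⁻¹ (H ⊓ Q) ≤ sigmaCore M ⊓ Subgroup.centralizer (A : Set G) := by
    intro y hy
    refine Subgroup.mem_inf.mpr ⟨hS'S hy, Subgroup.mem_centralizer_iff.mpr (fun a ha => ?_)⟩
    have hyN := (hS'mem y hy).2
    have hyS := hS'S hy
    have hc1 : y * a * y⁻¹ * a⁻¹ ∈ A :=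
      A.mul_mem ((Subgroup.mem_normalizer_iff.mp hyN a).mp ha) (A.inv_mem ha)
    have hc2 : y * a * y⁻¹ * a⁻¹ ∈ sigmaCore M := by
      have h5 : a * y⁻¹ * a⁻¹ ∈ sigmaCore M :=
        (Subgroup.mem_normalizer_iff.mp (aux_le_normalizer_sigmaCore M (hAM ha)) y⁻¹).mp
          (Subgroup.inv_mem _ hyS)
      have e : y * a * y⁻¹ * a⁻¹ = y * (a * y⁻¹ * a⁻¹) := by group
      rw [e]
      exact Subgroup.mul_mem _ hyS h5
    have hc3 : y * a * y⁻¹ * a⁻¹ ∈ A ⊓ sigmaCore M := Subgroup.mem_inf.mpr ⟨hc1, hc2⟩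
    rw [hAS, Subgroup.mem_bot] at hc3
    calc a * y = (y * a * y⁻¹ * a⁻¹)⁻¹ * (y * a) := by group
      _ = y * a := by rw [hc3, inv_one, one_mul]
  rw [(hFpf M p A A₀ hE).1] at hS'C
  -- so `x = 1`
  have hx' : n⁻¹ * (x : G) * n ∈ cj n⁻¹ (H ⊓ Q) := by
    rw [mem_cj, inv_inv]
    have e : n * (n⁻¹ * (x : G) * n) * n⁻¹ = x := by group
    rw [e]
    exact hxHQ
  have hx'1 := hS'C hx'
  rw [Subgroup.mem_bot] at hx'1
  apply hx1
  have e : (x : G) = n * (n⁻¹ * (x : G) * n) * n⁻¹ := by group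
  rw [e, hx'1]
  group

end Cfsg.Agent.Lib.Helper15.BG11
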