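import Cfsg.Agent.Lib.Helper15.BG12Defs3
import Cfsg.Agent.Lib.Helper56.BG12xPNB
import Cfsg.Agent.Lib.Helper4.BG12xT0a
import Cfsg.Agent.Lib.Helper8.BG12xT0b
import Cfsg.Agent.Lib.Helper12.BG12xT1
import Cfsg.Agent.Lib.Helper2.BG12xT2
import Cfsg.Agent.Lib.Helper64.BG12xT3

/-!
# B&G Corollary 12.9 (S1419) from 12.4, 12.5 and 12.8: assembly (helper15)

The pieces: `sigmaCore_ne_bot` (helper56), `exists_transv` (helper4), `pow_mem_omegaZ`
(helper8), `tau2_eq_singleton` (helper12), `fix_points` (helper2), `fitting_eq` (helper64).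
-/

set_option autoImplicit false

open Cfsg Cfsg.Agent.Lib.Helper32 Cfsg.Agent.Lib.Helper32.BG10 Cfsg.Agent.Lib.Helper3.BG12

namespace Cfsg.Agent.Lib.Helper15.BG12

universe u

variable {G : Type u} [Group G] [Finite G]

theorem h19_of (hG : IsMinSimpleOddOrder G) (h16 : H16 G) (h17 : H17 G) (h18 : H18 G) :
    H19 G := by
  intro M hM E hE p _ hp hS A hA
  have h : Ctx7 M E p A := ⟨hM, hE, hp, hA.1, hA.2.1, hA.2.2⟩
  obtain ⟨P, S, x, hP, hAP, hPS, hSs, hxS, hxM, hxA, hZA, hZ, htr⟩ :=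
    Cfsg.Agent.Lib.Helper4.BG12x.exists_transv hG h16 h17 h hS
  have hSna : ¬ IsMulCommutative S := by
    have hcard : Nat.card S = p ^ (Nat.card G).factorization p := by
      have := hSs.2
      rwa [Subgroup.card_top] at this
    exact hS (Sylow.ofCard S hcard)
  have hSp : IsPGroup p S := isPGroup_of_mem_sylSet hSs
  have hpow := Cfsg.Agent.Lib.Helper8.BG12x.pow_mem_omegaZ hG h16 h17 h hP hAP hPS hSs hSna
  have ht := Cfsg.Agent.Lib.Helper12.BG12x.tau2_eq_singleton hG h16 h17 h18 h hSs hxS hxM hxA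
    hZA hZ
  obtain ⟨h1, h2, h3⟩ := Cfsg.Agent.Lib.Helper2.BG12x.fix_points hG h16 h17 h18 h hSp
    (hAP.trans hPS) hxS hxM hxA hZA hZ htr (Cfsg.Agent.Lib.Helper56.BG12x.sigmaCore_ne_bot hG hM)
  exact ⟨ht, ⟨h1, Cfsg.Agent.Lib.Helper64.BG12x.fitting_eq hG h16 h17 h18 h ht hP hAP hpow hZ
    h1 h2⟩, h3⟩

end Cfsg.Agent.Lib.Helper15.BG12
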