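import Cfsg.Agent.Lib.Helper15.BG14b
import Cfsg.Agent.Lib.Helper15.BG12Defs3
import Cfsg.Agent.Lib.Helper15.BG11Aux2
import Cfsg.Agent.Lib.Helper32.BG11BETA
import Cfsg.Agent.Lib.Helper32.FitSub
import Cfsg.Agent.Lib.Helper32.BnR
import Cfsg.Agent.Lib.Helper3.BG11T6
import Cfsg.Agent.Lib.Helper37.BG13P27N

/-!
# B&G: Sylow `p`-subgroups of a complement `E` of `M_σ` are normal in `E` for `p ∈ τ₂(M)` with
abelian Sylow `p`-subgroups in `G` (helper15)

`sylow_le_centralizer_cyclic`: a Sylow subgroup of `G` centralizes every cyclic subgroup that its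
normalizer normalizes (B&G 10.8 = S1411 and the commutativity of the automorphism group of a
cyclic group).

`sylow_tau2_normal`: for `p ∈ τ₂(M)` such that the Sylow `p`-subgroups of `G` are abelian, the
Sylow `p`-subgroups of `E` are normal in `E`.
-/

set_option autoImplicit false

open Cfsg Cfsg.Agent.Lib.Helper32 Cfsg.Agent.Lib.Helper32.BG10 Cfsg.Agent.Lib.Helper3.BG12
open scoped commutatorElement

namespace Cfsg.Agent.Lib.Helper15.BG14

universe u

variable {G : Type u} [Group G] [Finite G]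

omit [Finite G] in
/-- commutators of elements normalizing a cyclic subgroup centralize it -/
theorem commutator_mem_centralizer_of_cyclic {C : Subgroup G} (hC : IsCyclic ↥C) {a b : G}
    (ha : a ∈ Subgroup.normalizer (C : Set G)) (hb : b ∈ Subgroup.normalizer (C : Set G)) :
    ⁅a, b⁆ ∈ Subgroup.centralizer (C : Set G) := by
  obtain ⟨⟨c, hcC⟩, hc⟩ := hC.exists_generator
  have hgen : ∀ x ∈ C, ∃ k : ℤ, x = c ^ k := by
    intro x hx
    obtain ⟨k, hk⟩ := Subgroup.mem_zpowers_iff.mp (hc ⟨x, hx⟩)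
    refine ⟨k, ?_⟩
    have := congrArg Subtype.val hk
    simpa using this.symm
  have hconj : ∀ g ∈ Subgroup.normalizer (C : Set G), ∃ k : ℤ, g * c * g⁻¹ = c ^ k := by
    intro g hg
    exact hgen _ ((Subgroup.mem_normalizer_iff.mp hg c).mp hcC)
  obtain ⟨i, hi⟩ := hconj a⁻¹ (Subgroup.inv_mem _ ha)
  obtain ⟨j, hj⟩ := hconj b⁻¹ (Subgroup.inv_mem _ hb)
  rw [inv_inv] at hi hj
  have hab : a⁻¹ * b⁻¹ * c * b * a = c ^ (j * i) := by
    calc a⁻¹ * b⁻¹ * c * b * a = a⁻¹ * (b⁻¹ * c * b) * a⁻¹⁻¹ := by group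
      _ = a⁻¹ * c ^ j * a⁻¹⁻¹ := by rw [hj]
      _ = (a⁻¹ * c * a⁻¹⁻¹) ^ j := by rw [conj_zpow]
      _ = c ^ (j * i) := by rw [inv_inv, hi, ← zpow_mul, mul_comm]
  have hba : b⁻¹ * a⁻¹ * c * a * b = c ^ (j * i) := by
    calc b⁻¹ * a⁻¹ * c * a * b = b⁻¹ * (a⁻¹ * c * a) * b⁻¹⁻¹ := by group
      _ = b⁻¹ * c ^ i * b⁻¹⁻¹ := by rw [hi]
      _ = (b⁻¹ * c * b⁻¹⁻¹) ^ i := by rw [conj_zpow]
      _ = c ^ (j * i) := by rw [inv_inv, hj, ← zpow_mul]
  have hcomm : ⁅a, b⁆ * c = c * ⁅a, b⁆ := by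
    have h1 : a⁻¹ * b⁻¹ * c * b * a = b⁻¹ * a⁻¹ * c * a * b := by rw [hab, hba]
    rw [commutatorElement_def]
    calc a * b * a⁻¹ * b⁻¹ * c = a * b * (a⁻¹ * b⁻¹ * c * b * a) * (a⁻¹ * b⁻¹) := by group
      _ = a * b * (b⁻¹ * a⁻¹ * c * a * b) * (a⁻¹ * b⁻¹) := by rw [h1]
      _ = c * (a * b * a⁻¹ * b⁻¹) := by group
  rw [Subgroup.mem_centralizer_iff]
  intro x hx
  obtain ⟨k, rfl⟩ := hgen x hx
  exact ((Commute.zpow_right (show Commute ⁅a, b⁆ c from hcomm) k).eq).symm

/-- a Sylow `p`-subgroup of `G` centralizes every cyclic subgroup normalized by its normalizer -/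
theorem sylow_le_centralizer_cyclic (hG : IsMinSimpleOddOrder G) {p : ℕ} [Fact p.Prime]
    {P C : Subgroup G} (hP : P ∈ sylSet p (⊤ : Subgroup G)) (hC : IsCyclic ↥C)
    (hN : Subgroup.normalizer (P : Set G) ≤ Subgroup.normalizer (C : Set G)) :
    P ≤ Subgroup.centralizer (C : Set G) := by
  classical
  have h8 : H8 G := h8_of hG
  have hcard : Nat.card P = p ^ (Nat.card G).factorization p := by
    have := hP.2
    rwa [Subgroup.card_top] at this
  set S : Sylow p G := Sylow.ofCard P hcard with hS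
  have hSP : (S : Subgroup G) = P := rfl
  have hQN : (S : Subgroup G) ≤ Subgroup.normalizer ((S : Subgroup G) : Set G) :=
    Subgroup.le_normalizer
  have hcardHn : Nat.card ((S : Subgroup G).subgroupOf
      (Subgroup.normalizer ((S : Subgroup G) : Set G))) = Nat.card (S : Subgroup G) :=
    Nat.card_congr (Subgroup.subgroupOfEquivOfLe hQN).toEquiv
  have hidxdvd : ((S : Subgroup G).subgroupOf
      (Subgroup.normalizer ((S : Subgroup G) : Set G))).index ∣ (S : Subgroup G).index :=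
    Dvd.intro _ (Subgroup.relIndex_mul_index hQN)
  have hcop0 : (Nat.card ((S : Subgroup G).subgroupOf
      (Subgroup.normalizer ((S : Subgroup G) : Set G)))).Coprime
      ((S : Subgroup G).subgroupOf (Subgroup.normalizer ((S : Subgroup G) : Set G))).index := by
    rw [hcardHn]
    exact Nat.Coprime.coprime_dvd_right hidxdvd S.card_coprime_index
  obtain ⟨K0, hK0⟩ := Subgroup.exists_right_complement'_of_coprime hcop0
  have hVN : K0.map (Subgroup.normalizer ((S : Subgroup G) : Set G)).subtype ≤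
      Subgroup.normalizer ((S : Subgroup G) : Set G) := by
    rintro _ ⟨y, -, rfl⟩; exact y.2
  have hcompl : IsComplIn (S : Subgroup G)
      (K0.map (Subgroup.normalizer ((S : Subgroup G) : Set G)).subtype)
      (Subgroup.normalizer ((S : Subgroup G) : Set G)) := by
    refine ⟨hQN, hVN, ?_, ?_⟩
    · rw [eq_bot_iff]
      intro z hz
      obtain ⟨hzP, hzV⟩ := Subgroup.mem_inf.mp hz
      obtain ⟨y, hy, rfl⟩ := hzV
      have hy1 : y ∈ (S : Subgroup G).subgroupOf
          (Subgroup.normalizer ((S : Subgroup G) : Set G)) ⊓ K0 :=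
        Subgroup.mem_inf.mpr ⟨Subgroup.mem_subgroupOf.mpr hzP, hy⟩
      rw [hK0.disjoint.eq_bot] at hy1
      have hy2 : y = 1 := Subgroup.mem_bot.mp hy1
      rw [hy2]
      simp
    · intro m hm
      obtain ⟨⟨a, b⟩, hab⟩ := hK0.2 ⟨m, hm⟩
      refine ⟨((a : ↥(Subgroup.normalizer ((S : Subgroup G) : Set G))) : G),
        Subgroup.mem_subgroupOf.mp a.2,
        ((b : ↥(Subgroup.normalizer ((S : Subgroup G) : Set G))) : G), ⟨b, b.2, rfl⟩, ?_⟩
      have h := congrArg Subtype.val hab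
      simpa using h.symm
  have h1 : (S : Subgroup G) ≤ ⁅Subgroup.normalizer ((S : Subgroup G) : Set G),
      Subgroup.normalizer ((S : Subgroup G) : Set G)⁆ := (h8 p S _ hcompl).2
  have h2 : ⁅Subgroup.normalizer ((S : Subgroup G) : Set G),
      Subgroup.normalizer ((S : Subgroup G) : Set G)⁆ ≤ Subgroup.centralizer (C : Set G) := by
    rw [Subgroup.commutator_le]
    intro a ha b hb
    rw [hSP] at ha hb
    exact commutator_mem_centralizer_of_cyclic hC (hN ha) (hN hb)
  rw [← hSP]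
  exact h1.trans h2

/-- every `p`-subgroup of `G` is abelian when some Sylow `p`-subgroup of `G` is -/
theorem pgroup_comm_of_sylow_comm {p : ℕ} [Fact p.Prime]
    (hab : ∃ S : Sylow p G, IsMulCommutative (S : Subgroup G)) {Q : Subgroup G}
    (hQ : IsPGroup p Q) : ∀ a ∈ Q, ∀ b ∈ Q, a * b = b * a := by
  obtain ⟨S, hS⟩ := hab
  obtain ⟨T, hT⟩ := hQ.exists_le_sylow
  obtain ⟨g, hg⟩ := MulAction.exists_smul_eq G S T
  have key : ∀ x ∈ Q, g⁻¹ * x * g ∈ (S : Subgroup G) := by
    intro x hx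
    have hx' : x ∈ ((g • S : Sylow p G) : Subgroup G) := by rw [hg]; exact hT hx
    rw [Sylow.coe_subgroup_smul, Subgroup.mem_pointwise_smul_iff_inv_smul_mem] at hx'
    simpa [MulAut.smul_def, MulAut.conj_inv_apply] using hx'
  intro a ha b hb
  have h := hS.is_comm.comm ⟨_, key a ha⟩ ⟨_, key b hb⟩
  have h' := congrArg Subtype.val h
  simp only [Subgroup.coe_mul] at h'
  calc a * b = g * ((g⁻¹ * a * g) * (g⁻¹ * b * g)) * g⁻¹ := by group
    _ = g * ((g⁻¹ * b * g) * (g⁻¹ * a * g)) * g⁻¹ := by rw [h']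
    _ = b * a := by group

/-- **B&G (towards 12.1 / 14.x)**: for `p ∈ τ₂(M)` such that the Sylow `p`-subgroups of `G` are
abelian, the Sylow `p`-subgroups of a complement `E` of `M_σ` in `M` are normal in `E` -/
theorem sylow_tau2_normal (hG : IsMinSimpleOddOrder G) (h14 : H14 G) (h17 : H17 G) (h18 : H18 G)
    {M E : Subgroup G} {p : ℕ} [Fact p.Prime] {A : Subgroup G}
    (c : Cfsg.Agent.Lib.Helper15.BG12.Ctx7 M E p A)
    (hab : ∃ S : Sylow p G, IsMulCommutative (S : Subgroup G))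
    {P : Subgroup G} (hP : P ∈ sylSet p E) : E ≤ Subgroup.normalizer (P : Set G) := by
  classical
  have hpp : p.Prime := Fact.out
  obtain ⟨hM, hE, hp, hAE, hA, hA2⟩ := c
  have hEM : E ≤ M := hE.1
  obtain ⟨-, hpσ, hr2, hr1⟩ := hp
  have hp' : p ∈ tau2 M := ⟨hpp, hpσ, hr2, hr1⟩
  obtain ⟨⟨hEA, -⟩, ⟨hCA, hMNA, hNAM⟩, -⟩ := h18 M hM E hE p hp' A ⟨hAE, hA, hA2⟩
  obtain ⟨-, hsyl, -⟩ := h17 M hM p hp' A ⟨hAE.trans hEM, hA, hA2⟩
  have hPp : IsPGroup p P := isPGroup_of_mem_sylSet hP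
  -- `P` is a Sylow `p`-subgroup of `M`
  have hPM : P ∈ sylSet p M := by
    apply Cfsg.Agent.Lib.Helper78.BG12.sylSet_of_not_dvd hEM _ hP
    intro hd
    have h1 := card_of_isComplIn hE
    have h2 := Cfsg.Agent.Lib.Helper78.BG12.card_mul_relIndex' hEM
    have h3 : E.relIndex M = Nat.card (sigmaCore M) := by
      have hpos : 0 < Nat.card E := Nat.card_pos
      rw [h1] at h2
      exact Nat.eq_of_mul_eq_mul_left hpos h2
    rw [h3] at hd
    exact hpσ (Cfsg.Agent.Lib.Helper32.BG12.mem_sigma_of_dvd_sigmaCore hpp hd)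
  -- `A ≤ P`, `P` abelian, `Ω₁(P) = A`
  have hAp : IsPGroup p A := IsPGroup.of_card hA2
  have hAP : A ≤ P := normal_pgroup_le_sylSet hP hAE hAp hEA
  have hPc : IsMulCommutative ↥P :=
    Cfsg.Agent.Lib.Helper3.BG12T.pgroup_comm_of_not_sigma hG h17 hM hpσ hPp (hP.1.trans hEM)
  have hPcomm : ∀ a ∈ P, ∀ b ∈ P, a * b = b * a := fun a ha b hb =>
    congrArg Subtype.val (hPc.is_comm.comm ⟨a, ha⟩ ⟨b, hb⟩)
  obtain ⟨S, hS⟩ := exists_sylow_of_mem_sylSet hPM
  have hΩ : ∀ x ∈ P, x ^ p = 1 ↔ x ∈ A := by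
    have := ((hsyl S).2 (by rw [hS]; exact hAP)).1
    rwa [hS] at this
  have hNPA : Subgroup.normalizer (P : Set G) ≤ Subgroup.normalizer (A : Set G) :=
    Cfsg.Agent.Lib.Helper3.BG11.normalizer_le_of_omega hΩ hAP
  -- a maximal subgroup `Ms ⊇ N(A)`
  have hA1 : A ≠ ⊥ := by
    intro h
    rw [h, Subgroup.card_bot] at hA2
    exact (Nat.one_lt_pow (by norm_num) hpp.one_lt).ne hA2
  have hAtop : A ≠ ⊤ := fun h => hM.1 (top_le_iff.mp (h ▸ hAE.trans hEM))
  have hP1 : P ≠ ⊥ := fun h => hA1 (eq_bot_iff.mpr (h ▸ hAP))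
  obtain ⟨Ms, hMs, hNMs⟩ := exists_coatom_ge (minSimple_normalizer_ne_top hG hA1 hAtop)
  have hENA : E ≤ Subgroup.normalizer (A : Set G) := hEA
  have hCE : Subgroup.centralizer (A : Set G) ≤ E := hCA.trans hMNA.le
  have hPMs : P ∈ sylSet p Ms := by
    have hPle : P ≤ Ms := hP.1.trans (hENA.trans hNMs)
    obtain ⟨S', hS', hPS'⟩ := exists_sylSet_ge hPp hPle
    have hS'p : IsPGroup p S' := isPGroup_of_mem_sylSet hS'
    have hS'c := pgroup_comm_of_sylow_comm hab hS'p
    have hS'E : S' ≤ E := by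
      refine le_trans ?_ hCE
      intro s hs
      rw [Subgroup.mem_centralizer_iff]
      intro a ha
      exact hS'c a (hPS' (hAP ha)) s hs
    have : S' = P := sylSet_eq_of_le hP hS'p hS'E hPS'
    rwa [this] at hS'
  have hσs : p ∈ sigma Ms := mem_sigma_of_normalizer_le hPMs hP1 (hNPA.trans hNMs)
  have hPG : P ∈ sylSet p (⊤ : Subgroup G) := (sigma_sylSet hσs hPMs).2
  have hni : ¬ IsIdealPrime p G :=
    (Cfsg.Agent.Lib.Helper41.BG11.h5_of hG M hM p hpσ hr2 hr1).1
  -- the subgroup `D = (Ms)_σ ∩ C(A)`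
  set D : Subgroup G := sigmaCore Ms ⊓ Subgroup.centralizer (A : Set G) with hD
  have hPσ : P ≤ sigmaCore Ms :=
    Cfsg.Agent.Lib.Helper32.BG12.pgroup_le_sigmaCore hG hMs hσs hPp hPMs.1
  have hPCA : P ≤ Subgroup.centralizer (A : Set G) := by
    intro x hx
    rw [Subgroup.mem_centralizer_iff]
    intro a ha
    exact hPcomm a (hAP ha) x hx
  have hPD : P ≤ D := le_inf hPσ hPCA
  have hDE : D ≤ E := inf_le_right.trans hCE
  have hDtop : D ≠ ⊤ := fun h => hM.1 (top_le_iff.mp (h ▸ hDE.trans hEM))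
  have hNAD : Subgroup.normalizer (A : Set G) ≤ Subgroup.normalizer (D : Set G) :=
    Cfsg.Agent.Lib.Helper29.le_normalizer_inf'
      (hNMs.trans (Cfsg.Agent.Lib.Helper15.BG11.aux_le_normalizer_sigmaCore Ms))
      (Cfsg.Agent.Lib.Helper29.normalizer_le_normalizer_centralizer A)
  have hPDs : P ∈ sylSet p D := Cfsg.Agent.Lib.Helper78.BG12.sylSet_of_le hP hPD hDE
  have hOpP : pCoreOf p D ≤ P :=
    normal_pgroup_le_sylSet hPDs (pCoreOf_le p D) (isPGroup_pCoreOf p D) (le_normalizer_pCoreOf p D)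
  have hodd : ∀ r : ℕ, r.Prime → r ∣ Nat.card G → r ≠ 2 := by
    rintro r hr hrG rfl
    exact (Nat.not_even_iff_odd.mpr hG.1) (even_iff_two_dvd.mpr hrG)
  -- `P` centralizes every `O_r(D)`
  have hcent : ∀ r : ℕ, r.Prime → pCoreOf r D ≤ Subgroup.centralizer (P : Set G) := by
    intro r hr
    haveI : Fact r.Prime := ⟨hr⟩
    by_cases hrp : r = p
    · subst hrp
      intro x hx
      rw [Subgroup.mem_centralizer_iff]
      intro y hy
      exact hPcomm y hy x (hOpP hx)
    by_cases hri : IsIdealPrime r G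
    · -- `O_r(D)` is cyclic
      by_cases hbot : pCoreOf r D = ⊥
      · rw [hbot]; exact bot_le
      have hrE : r ∣ Nat.card E := by
        obtain ⟨k, hk⟩ := IsPGroup.iff_card.mp (isPGroup_pCoreOf r D)
        have hk0 : k ≠ 0 := by
          rintro rfl
          exact hbot (Subgroup.card_eq_one.mp (by simpa using hk))
        have h1 : r ∣ Nat.card (pCoreOf r D) := by rw [hk]; exact dvd_pow_self r hk0
        exact h1.trans (Subgroup.card_dvd_of_le ((pCoreOf_le r D).trans hDE))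
      have hrσ : r ∉ sigma M :=
        Cfsg.Agent.Lib.Helper3.BG12T.not_mem_sigma_of_dvd_compl hG hM hE hr hrE
      have hr2' : PRankLE r 2 ↥M := by
        by_contra h
        exact hrσ (alpha_sub_sigma hG (ut_of hG) hM ⟨hr, h⟩)
      have hr1' : PRankLE r 1 ↥M := by
        by_contra h
        exact (Cfsg.Agent.Lib.Helper41.BG11.h5_of hG M hM r hrσ hr2' h).1 hri
      have hrG : r ∣ Nat.card G := hrE.trans (Subgroup.card_subgroup_dvd_card E)
      have hcyc : IsCyclic ↥(pCoreOf r D) :=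
        Cfsg.Agent.Lib.Helper15.BG13.cyclic_of_prankLE_one (hodd r hr hrG) hr1'
          (isPGroup_pCoreOf r D) ((pCoreOf_le r D).trans (hDE.trans hEM))
      have hN : Subgroup.normalizer (P : Set G) ≤
          Subgroup.normalizer ((pCoreOf r D : Subgroup G) : Set G) :=
        hNPA.trans (hNAD.trans (Cfsg.Agent.Lib.Helper32.Bn.normalizer_le_normalizer_pCoreOf r D))
      have h1 := sylow_le_centralizer_cyclic hG hPG hcyc hN
      intro x hx
      rw [Subgroup.mem_centralizer_iff]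
      intro y hy
      exact (Subgroup.mem_centralizer_iff.mp (h1 hy) x hx).symm
    · -- `P O_r(D)` is nilpotent
      have hPN : P ≤ Subgroup.normalizer ((pCoreOf r D : Subgroup G) : Set G) :=
        hPD.trans (le_normalizer_pCoreOf r D)
      have hXσ : P ⊔ pCoreOf r D ≤ sigmaCore Ms :=
        sup_le hPσ ((pCoreOf_le r D).trans inf_le_left)
      have hnil : Group.IsNilpotent ↥(P ⊔ pCoreOf r D) := by
        apply Cfsg.Agent.Lib.Helper32.BG11.beta hG h14 Ms _ hMs hXσ
        intro q hq hqd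
        have h1 := hqd.trans (Cfsg.Agent.Lib.Helper76.CS.card_sup_dvd hPN)
        rcases (Nat.Prime.dvd_mul hq).mp h1 with h | h
        · have : q = r := by
            obtain ⟨k, hk⟩ := IsPGroup.iff_card.mp (isPGroup_pCoreOf r D)
            rw [hk] at h
            exact (Nat.prime_dvd_prime_iff_eq hq hr).mp (hq.dvd_of_dvd_pow h)
          rw [this]; exact hri
        · have : q = p := by
            obtain ⟨k, hk⟩ := IsPGroup.iff_card.mp hPp
            rw [hk] at h
            exact (Nat.prime_dvd_prime_iff_eq hq hpp).mp (hq.dvd_of_dvd_pow h)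
          rw [this]; exact hni
      have h1 := Cfsg.Agent.Lib.Helper15.BG11.aux_commute_of_nilpotent hnil hpp hr hrp
        (isPGroup_pCoreOf r D) hPp le_sup_right le_sup_left
      intro x hx
      rw [Subgroup.mem_centralizer_iff]
      intro y hy
      exact (h1 x hx y hy)
  -- hence `P ≤ F(D)`, so `P = O_p(D)`
  have hF : fittingOf D ≤ Subgroup.centralizer (P : Set G) := fittingOf_le_of_pCoreOf_le hcent
  have hPF : P ≤ fittingOf D := by
    refine le_trans ?_ (centralizer_fittingOf_le (minSimple_solvable hG hDtop))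
    refine le_inf hPD ?_
    intro x hx
    rw [Subgroup.mem_centralizer_iff]
    intro y hy
    exact (Subgroup.mem_centralizer_iff.mp (hF hy) x hx).symm
  have hPOp : P ≤ pCoreOf p D := by
    intro x hx
    obtain ⟨k, hk⟩ := exists_orderOf_eq_of_mem hPp hx
    exact mem_pCoreOf_of_mem_fittingOf p (hPF hx) hk
  have hPeq : P = pCoreOf p D := le_antisymm hPOp hOpP
  rw [hPeq]
  exact hENA.trans (hNAD.trans (Cfsg.Agent.Lib.Helper32.Bn.normalizer_le_normalizer_pCoreOf p D))

end Cfsg.Agent.Lib.Helper15.BG14
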