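import Cfsg.Agent.Lib.Helper15.BG12Asm
import Cfsg.Agent.Lib.Helper15.BG14c

/-!
# B&G: the nonabelian case of B&G 12.7: no element of order `p ^ 2` over `A ∩ C(M_σ)` (helper15)

`pow_p_eq_one_of_pow_mem`: if the Sylow `p`-subgroups of `G` are nonabelian (`p ∈ τ₂(M)`), then
an element `y ∈ M` with `y ^ p ^ 2 = 1` and `y ^ p ∈ A ∩ C(M_σ)` satisfies `y ^ p = 1`.

`pelt_mem_of_fixed`: hence every `p`-element of `E` with a nontrivial fixed point on `M_σ` lies
in `A ∩ C(M_σ)`.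
-/

set_option autoImplicit false

open Cfsg Cfsg.Agent.Lib.Helper32 Cfsg.Agent.Lib.Helper32.BG10 Cfsg.Agent.Lib.Helper3.BG12
open Cfsg.Agent.Lib.Helper15.BG12

namespace Cfsg.Agent.Lib.Helper15.BG14

universe u

variable {G : Type u} [Group G] [Finite G]

omit [Finite G] in
/-- `M` normalizes `A ∩ C(M_σ)` -/
theorem le_normalizer_inf_cent (h18 : H18 G) {M E : Subgroup G} {p : ℕ} [Fact p.Prime]
    {A : Subgroup G} (h : Ctx7 M E p A) :
    M ≤ Subgroup.normalizer ((A ⊓ Subgroup.centralizer (sigmaCore M : Set G) : Subgroup G) :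
      Set G) := by
  have hEA : E ≤ Subgroup.normalizer (A : Set G) :=
    (h18 M h.hM E h.hE p h.hp A ⟨h.hAE, h.hA, h.hA2⟩).1.1
  have hE1 : E ≤ Subgroup.normalizer ((A ⊓ Subgroup.centralizer (sigmaCore M : Set G) :
      Subgroup G) : Set G) :=
    Cfsg.Agent.Lib.Helper29.le_normalizer_inf' hEA
      ((h.hE.1.trans (Cfsg.Agent.Lib.Helper15.BG11.aux_le_normalizer_sigmaCore M)).trans
        (Cfsg.Agent.Lib.Helper29.normalizer_le_normalizer_centralizer (sigmaCore M)))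
  have hS1 : sigmaCore M ≤ Subgroup.normalizer ((A ⊓ Subgroup.centralizer (sigmaCore M : Set G) :
      Subgroup G) : Set G) := by
    intro s hs
    rw [Subgroup.mem_normalizer_iff]
    intro z
    have key : ∀ w ∈ A ⊓ Subgroup.centralizer (sigmaCore M : Set G), s * w * s⁻¹ = w := by
      intro w hw
      have := Subgroup.mem_centralizer_iff.mp hw.2 s hs
      rw [this, mul_inv_cancel_right]
    constructor
    · intro hz
      rw [key z hz]; exact hz
    · intro hz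
      have h1 := key _ hz
      have h2 : z = s * z * s⁻¹ := by
        calc z = s⁻¹ * (s * z * s⁻¹) * s := by group
          _ = s⁻¹ * (s * (s * z * s⁻¹) * s⁻¹) * s := by rw [h1]
          _ = s * z * s⁻¹ := by group
      rw [h2]; exact hz
  intro m hm
  obtain ⟨e, he, s, hs, rfl⟩ := h.hE.2.2.2 m hm
  exact Subgroup.mul_mem _ (hE1 he) (hS1 hs)

/-- in the nonabelian case there is no element of order `p ^ 2` over `A ∩ C(M_σ)` -/
theorem pow_p_eq_one_of_pow_mem (hG : IsMinSimpleOddOrder G) (h16 : H16 G) (h17 : H17 G)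
    (h18 : H18 G) {M E : Subgroup G} {p : ℕ} [Fact p.Prime] {A : Subgroup G} (h : Ctx7 M E p A)
    (hS : ∀ S : Sylow p G, ¬ IsMulCommutative (S : Subgroup G)) {y : G} (hyM : y ∈ M)
    (hy2 : y ^ p ^ 2 = 1) (hyp : y ^ p ∈ A ⊓ Subgroup.centralizer (sigmaCore M : Set G)) :
    y ^ p = 1 := by
  have hpp : p.Prime := Fact.out
  have hM := h.hM
  obtain ⟨P, S, x, hP, hAP, hPS, hSs, hxS, hxM, hxA, hZA, hZ, htr⟩ :=
    Cfsg.Agent.Lib.Helper4.BG12x.exists_transv hG h16 h17 h hS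
  have hSna : ¬ IsMulCommutative S := by
    have hcard : Nat.card S = p ^ (Nat.card G).factorization p := by
      have := hSs.2
      rwa [Subgroup.card_top] at this
    exact hS (Sylow.ofCard S hcard)
  have hSp : IsPGroup p S := isPGroup_of_mem_sylSet hSs
  have hpow := Cfsg.Agent.Lib.Helper8.BG12x.pow_mem_omegaZ hG h16 h17 h hP hAP hPS hSs hSna
  obtain ⟨h1, h2, -⟩ := Cfsg.Agent.Lib.Helper2.BG12x.fix_points hG h16 h17 h18 h hSp
    (hAP.trans hPS) hxS hxM hxA hZA hZ htr (Cfsg.Agent.Lib.Helper56.BG12x.sigmaCore_ne_bot hG hM)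
  have hYp : IsPGroup p (Subgroup.zpowers y) := by
    obtain ⟨k, -, hk⟩ := (Nat.dvd_prime_pow hpp).mp (orderOf_dvd_of_pow_eq_one hy2)
    exact IsPGroup.of_card (n := k) (by rw [Nat.card_zpowers, hk])
  obtain ⟨P₁, hP₁, hyP₁⟩ := exists_sylSet_ge hYp (Subgroup.zpowers_le.mpr hyM)
  obtain ⟨m, hm, hmP⟩ := sylSet_conj hP hP₁
  have hy' : m⁻¹ * y * m ∈ P := by
    rw [← mem_cj, hmP]; exact hyP₁ (Subgroup.mem_zpowers y)
  have hconj : (m⁻¹ * y * m) ^ p = m⁻¹ * y ^ p * m := by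
    have := conj_pow (a := m⁻¹) (b := y) (i := p)
    rwa [inv_inv] at this
  have hconj2 : (m⁻¹ * y * m) ^ p ^ 2 = 1 := by
    have := conj_pow (a := m⁻¹) (b := y) (i := p ^ 2)
    rw [inv_inv] at this
    rw [this, hy2]; group
  have hz : m⁻¹ * y ^ p * m ∈ omegaZ p S := by
    rw [← hconj]; exact hpow _ hy' hconj2
  have hz' : m⁻¹ * y ^ p * m ∈ A ⊓ Subgroup.centralizer (sigmaCore M : Set G) := by
    have hn := le_normalizer_inf_cent h18 h (M.inv_mem hm)
    have := (Subgroup.mem_normalizer_iff.mp hn (y ^ p)).mp hyp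
    rwa [inv_inv] at this
  by_contra hne
  have hz1 : m⁻¹ * y ^ p * m ≠ 1 := by
    intro h0
    apply hne
    calc y ^ p = m * (m⁻¹ * y ^ p * m) * m⁻¹ := by group
      _ = 1 := by rw [h0]; group
  have hzp : (m⁻¹ * y ^ p * m) ^ p = 1 := (mem_omegaZ.mp hz).2.2
  have hord : orderOf (m⁻¹ * y ^ p * m) = p := orderOf_eq_prime hzp hz1
  have hc : Nat.card (Subgroup.zpowers (m⁻¹ * y ^ p * m)) = p := by rw [Nat.card_zpowers, hord]
  have e1 : Subgroup.zpowers (m⁻¹ * y ^ p * m) = A ⊓ Subgroup.centralizer (sigmaCore M : Set G) :=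
    Subgroup.eq_of_le_of_card_ge (Subgroup.zpowers_le.mpr hz') (by rw [hc, h1])
  have e2 : Subgroup.zpowers (m⁻¹ * y ^ p * m) = omegaZ p S :=
    Subgroup.eq_of_le_of_card_ge (Subgroup.zpowers_le.mpr hz) (by rw [hc, hZ])
  exact h2 (e1.symm.trans e2)

/-- in the nonabelian case every `p`-element of `E` with a nontrivial fixed point on `M_σ` lies
in `A ∩ C(M_σ)` -/
theorem pelt_mem_of_fixed (hG : IsMinSimpleOddOrder G) (h16 : H16 G) (h17 : H17 G)
    (h18 : H18 G) {M E : Subgroup G} {p : ℕ} [Fact p.Prime] {A : Subgroup G} (h : Ctx7 M E p A)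
    (hS : ∀ S : Sylow p G, ¬ IsMulCommutative (S : Subgroup G)) :
    ∀ (k : ℕ) (x : G), x ∈ E → orderOf x = p ^ k →
      (∃ s ∈ sigmaCore M, s ≠ 1 ∧ x * s = s * x) →
      x ∈ A ⊓ Subgroup.centralizer (sigmaCore M : Set G) := by
  have hpp : p.Prime := Fact.out
  have h19 := h19_of hG h16 h17 h18 M h.hM E h.hE p h.hp hS A ⟨h.hAE, h.hA, h.hA2⟩
  obtain ⟨-, -, h19c⟩ := h19
  have case1 : ∀ x : G, x ∈ E → orderOf x = p →
      (∃ s ∈ sigmaCore M, s ≠ 1 ∧ x * s = s * x) →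
      x ∈ A ⊓ Subgroup.centralizer (sigmaCore M : Set G) := by
    intro x hxE hx ⟨s, hs, hs1, hxs⟩
    by_contra hne
    have hX : Subgroup.zpowers x ≠ A ⊓ Subgroup.centralizer (sigmaCore M : Set G) := by
      intro h0
      exact hne (h0 ▸ Subgroup.mem_zpowers x)
    have hb := (h19c (Subgroup.zpowers x) (Subgroup.zpowers_le.mpr hxE)
      (by rw [Nat.card_zpowers, hx]) hX).1
    have hsc : s ∈ sigmaCore M ⊓ Subgroup.centralizer ((Subgroup.zpowers x : Subgroup G) : Set G) := by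
      refine Subgroup.mem_inf.mpr ⟨hs, ?_⟩
      rw [Subgroup.mem_centralizer_iff]
      intro z hz
      obtain ⟨n, rfl⟩ := Subgroup.mem_zpowers_iff.mp hz
      exact ((Commute.zpow_left (show Commute x s from hxs) n).eq)
    rw [hb, Subgroup.mem_bot] at hsc
    exact hs1 hsc
  intro k
  match k with
  | 0 =>
    intro x _ hx _
    rw [pow_zero, orderOf_eq_one_iff] at hx
    rw [hx]; exact Subgroup.one_mem _
  | 1 =>
    intro x hxE hx hfix
    rw [pow_one] at hx
    exact case1 x hxE hx hfix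
  | (k + 2) =>
    intro x hxE hx ⟨s, hs, hs1, hxs⟩
    exfalso
    have hz : orderOf (x ^ p ^ (k + 1)) = p := by
      rw [orderOf_pow_of_dvd (pow_pos hpp.pos _).ne' (by rw [hx]; exact pow_dvd_pow p (by omega)),
        hx, Nat.pow_div (by omega) hpp.pos]
      have : k + 2 - (k + 1) = 1 := by omega
      rw [this, pow_one]
    have hzA := case1 (x ^ p ^ (k + 1)) (E.pow_mem hxE _) hz
      ⟨s, hs, hs1, ((Commute.pow_left (show Commute x s from hxs) _).eq)⟩
    have hyp : (x ^ p ^ k) ^ p = x ^ p ^ (k + 1) := by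
      rw [← pow_mul, ← pow_succ]
    have hy2 : (x ^ p ^ k) ^ p ^ 2 = 1 := by
      rw [← pow_mul, ← pow_add, ← hx, pow_orderOf_eq_one]
    have h1 := pow_p_eq_one_of_pow_mem hG h16 h17 h18 h hS (h.hE.1 (E.pow_mem hxE (p ^ k))) hy2
      (by rw [hyp]; exact hzA)
    rw [hyp] at h1
    rw [h1, orderOf_one] at hz
    exact hpp.one_lt.ne hz

omit [Finite G] in
/-- the closure of a set of pairwise commuting elements is commutative -/
theorem closure_comm_of_comm {k : Set G} (hk : ∀ a ∈ k, ∀ b ∈ k, a * b = b * a) :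
    IsMulCommutative ↥(Subgroup.closure k) := by
  have h1 : Subgroup.closure k ≤ Subgroup.centralizer k := by
    rw [Subgroup.closure_le]
    intro a ha
    rw [SetLike.mem_coe, Subgroup.mem_centralizer_iff]
    intro b hb
    exact hk b hb a ha
  have h2 : Subgroup.closure k ≤
      Subgroup.centralizer ((Subgroup.closure k : Subgroup G) : Set G) := by
    rw [Subgroup.closure_le]
    intro a ha
    rw [SetLike.mem_coe, Subgroup.mem_centralizer_iff]
    intro b hb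
    exact (Subgroup.mem_centralizer_iff.mp (h1 hb) a ha).symm
  refine ⟨⟨fun a b => ?_⟩⟩
  have := Subgroup.mem_centralizer_iff.mp (h2 a.2) b b.2
  exact Subtype.ext this.symm

/-- if all `τ₂(M)`-primes have abelian Sylow subgroups in `G`, the `τ₂(M)`-elements of `E`
lie in an abelian normal subgroup of `E` -/
theorem exists_normal_abelian_of_abelian (hG : IsMinSimpleOddOrder G) (h14 : H14 G)
    (h17 : H17 G) (h18 : H18 G) {M E : Subgroup G} (hM : IsCoatom M)
    (hE : IsComplIn E (sigmaCore M) M)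
    (hab : ∀ p ∈ tau2 M, ∃ S : Sylow p G, IsMulCommutative (S : Subgroup G)) :
    ∃ A₀ : Subgroup G, A₀ ≤ E ∧ E ≤ Subgroup.normalizer (A₀ : Set G) ∧ IsMulCommutative ↥A₀ ∧
      ∀ x ∈ E, (∀ r : ℕ, r.Prime → r ∣ orderOf x → r ∈ tau2 M) → x ∈ A₀ := by
  classical
  set k : Set G := {c | c ∈ E ∧ ∃ r ∈ tau2 M, ∃ j : ℕ, orderOf c = r ^ j} with hk
  have key : ∀ r ∈ tau2 M, ∃ P : Subgroup G, P ≤ E ∧ IsPGroup r P ∧
      E ≤ Subgroup.normalizer (P : Set G) ∧ (∀ a ∈ P, ∀ b ∈ P, a * b = b * a) ∧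
      ∀ c ∈ E, (∃ j : ℕ, orderOf c = r ^ j) → c ∈ P := by
    intro r hr
    have hrp : r.Prime := hr.1
    have : Fact r.Prime := ⟨hrp⟩
    obtain ⟨A, hAE, hA, hA2⟩ := Cfsg.Agent.Lib.Helper3.BG12T.exists_tau2_elemAb hG hM hE hr
    obtain ⟨P, hP⟩ := sylSet_nonempty r E
    have hPp := isPGroup_of_mem_sylSet hP
    have hN := sylow_tau2_normal hG h14 h17 h18 ⟨hM, hE, hr, hAE, hA, hA2⟩ (hab r hr) hP
    have hPc : IsMulCommutative ↥P :=
      Cfsg.Agent.Lib.Helper3.BG12T.pgroup_comm_of_not_sigma hG h17 hM hr.2.1 hPp (hP.1.trans hE.1)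
    refine ⟨P, hP.1, hPp, hN,
      fun a ha b hb => congrArg Subtype.val (hPc.is_comm.comm ⟨a, ha⟩ ⟨b, hb⟩), ?_⟩
    rintro c hcE ⟨j, hj⟩
    have hcp : IsPGroup r (Subgroup.zpowers c) :=
      IsPGroup.of_card (n := j) (by rw [Nat.card_zpowers, hj])
    obtain ⟨S', hS', hcS'⟩ := exists_sylSet_ge hcp (Subgroup.zpowers_le.mpr hcE)
    obtain ⟨e, he, heP⟩ := sylSet_conj hP hS'
    have h1 : cj e P = P := cj_eq_self_iff.mpr (hN he)
    rw [h1] at heP
    rw [heP]; exact hcS' (Subgroup.mem_zpowers c)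
  have hcomm : ∀ a ∈ k, ∀ b ∈ k, a * b = b * a := by
    rintro a ⟨haE, r, hr, i, hi⟩ b ⟨hbE, q, hq, j, hj⟩
    obtain ⟨P, hPE, hPp, hPN, hPc, hPall⟩ := key r hr
    obtain ⟨Q, hQE, hQp, hQN, hQc, hQall⟩ := key q hq
    have haP := hPall a haE ⟨i, hi⟩
    have hbQ := hQall b hbE ⟨j, hj⟩
    by_cases hrq : r = q
    · subst hrq
      exact hPc a haP b (hPall b hbE ⟨j, hj⟩)
    · have : Fact r.Prime := ⟨hr.1⟩
      have : Fact q.Prime := ⟨hq.1⟩
      have h1 : a * b * a⁻¹ * b⁻¹ ∈ Q := by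
        have := (Subgroup.mem_normalizer_iff.mp (hQN haE) b).mp hbQ
        exact Q.mul_mem this (Q.inv_mem hbQ)
      have h2 : a * b * a⁻¹ * b⁻¹ ∈ P := by
        have := (Subgroup.mem_normalizer_iff.mp (hPN hbE) a⁻¹).mp (P.inv_mem haP)
        have h3 : a * b * a⁻¹ * b⁻¹ = a * (b * a⁻¹ * b⁻¹) := by group
        rw [h3]; exact P.mul_mem haP this
      have h3 := eq_one_of_mem_pgroups hrq hPp hQp h2 h1
      calc a * b = (a * b * a⁻¹ * b⁻¹) * (b * a) := by group
        _ = b * a := by rw [h3, one_mul]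
  refine ⟨Subgroup.closure k, ?_, ?_, closure_comm_of_comm hcomm, ?_⟩
  · rw [Subgroup.closure_le]; exact fun c hc => hc.1
  · intro g hg
    rw [← cj_eq_self_iff]
    apply Subgroup.eq_of_le_of_card_ge
    · unfold cj
      rw [MonoidHom.map_closure, Subgroup.closure_le]
      rintro _ ⟨c, ⟨hcE, r, hr, j, hj⟩, rfl⟩
      apply Subgroup.subset_closure
      refine ⟨?_, r, hr, j, ?_⟩
      · show g * c * g⁻¹ ∈ E
        exact E.mul_mem (E.mul_mem hg hcE) (E.inv_mem hg)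
      · show orderOf (g * c * g⁻¹) = r ^ j
        rw [← hj]
        exact orderOf_injective (MulAut.conj g).toMonoidHom (MulAut.conj g).injective c
    · rw [card_cj]
  · intro x hxE hx
    apply Cfsg.Agent.Lib.Helper34.mem_of_prime_pow_mem'
    rintro c hc ⟨r, j, hr, hcj⟩
    by_cases hj0 : j = 0
    · subst hj0
      rw [pow_zero, orderOf_eq_one_iff] at hcj
      rw [hcj]; exact Subgroup.one_mem _
    apply Subgroup.subset_closure
    have hcE : c ∈ E := (Subgroup.zpowers_le.mpr hxE) hc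
    have hrx : r ∣ orderOf x := by
      have h1 : r ∣ orderOf c := by rw [hcj]; exact dvd_pow_self r hj0
      exact h1.trans (orderOf_dvd_of_mem_zpowers hc)
    exact ⟨hcE, r, hx r hr hrx, j, hcj⟩

/-- **B&G, common core of 12.x / 14.x**: the `τ₂(M)`-elements of a complement `E` of `M_σ` in
`M` with a nontrivial fixed point on `M_σ` lie in an abelian normal subgroup of `E` -/
theorem exists_normal_abelian_tau2 (hG : IsMinSimpleOddOrder G) (h14 : H14 G) (h16 : H16 G)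
    (h17 : H17 G) (h18 : H18 G) {M E : Subgroup G} (hM : IsCoatom M)
    (hE : IsComplIn E (sigmaCore M) M) :
    ∃ A₀ : Subgroup G, A₀ ≤ E ∧ E ≤ Subgroup.normalizer (A₀ : Set G) ∧ IsMulCommutative ↥A₀ ∧
      ∀ x ∈ E, (∀ r : ℕ, r.Prime → r ∣ orderOf x → r ∈ tau2 M) →
        (∃ s ∈ sigmaCore M, s ≠ 1 ∧ x * s = s * x) → x ∈ A₀ := by
  by_cases hab : ∀ p ∈ tau2 M, ∃ S : Sylow p G, IsMulCommutative (S : Subgroup G)
  · obtain ⟨A₀, h1, h2, h3, h4⟩ := exists_normal_abelian_of_abelian hG h14 h17 h18 hM hE hab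
    exact ⟨A₀, h1, h2, h3, fun x hx hx2 _ => h4 x hx hx2⟩
  · obtain ⟨p, hp, hS⟩ : ∃ p ∈ tau2 M, ∀ S : Sylow p G, ¬ IsMulCommutative (S : Subgroup G) := by
      by_contra h
      apply hab
      intro p hp
      by_contra h2
      exact h ⟨p, hp, fun S hS => h2 ⟨S, hS⟩⟩
    have : Fact p.Prime := ⟨hp.1⟩
    obtain ⟨A, hAE, hA, hA2⟩ := Cfsg.Agent.Lib.Helper3.BG12T.exists_tau2_elemAb hG hM hE hp
    have c : Ctx7 M E p A := ⟨hM, hE, hp, hAE, hA, hA2⟩
    have hτ : tau2 M = {p} := (h19_of hG h16 h17 h18 M hM E hE p hp hS A ⟨hAE, hA, hA2⟩).1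
    refine ⟨A ⊓ Subgroup.centralizer (sigmaCore M : Set G), inf_le_left.trans hAE,
      hE.1.trans (le_normalizer_inf_cent h18 c), ?_, ?_⟩
    · refine ⟨⟨fun a b => ?_⟩⟩
      have := congrArg Subtype.val (hA.1.is_comm.comm ⟨a, a.2.1⟩ ⟨b, b.2.1⟩)
      exact Subtype.ext this
    · intro x hxE hx hfix
      have hord : ∃ k, orderOf x = p ^ k := by
        refine ⟨_, Nat.eq_prime_pow_of_unique_prime_dvd (orderOf_pos x).ne' ?_⟩
        intro d hd hdx
        have := hx d hd hdx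
        rw [hτ] at this
        exact this
      obtain ⟨k, hk⟩ := hord
      exact pelt_mem_of_fixed hG h16 h17 h18 c hS k x hxE hk hfix

end Cfsg.Agent.Lib.Helper15.BG14
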