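import Cfsg.Agent.Lib.Helper32.BG12XDefs
import Cfsg.Agent.Lib.Helper15.BG14d

/-!
# BGX (helper32's skeleton for S1421 / S1359 / S1360): the statements of the pieces SYL-NORMAL,
NA-LINE, NA-KEY, NA-FIX, proved from `Lib/Helper15/BG14c.lean`, `BG14d.lean` (helper15)

Same statements as the placeholders `Cfsg.Agent.Lib.Helper32.BG12X.sylow_normal_of_abelian`,
`na_line_normal`, `na_key`, `na_fixed_mem`, in the namespace `Cfsg.Agent.Lib.Helper15.BGX`.
-/

set_option autoImplicit false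

open Cfsg Cfsg.Agent.Lib.Helper32 Cfsg.Agent.Lib.Helper32.BG10 Cfsg.Agent.Lib.Helper3.BG12
  Cfsg.Agent.Lib.Helper15.BG12 Cfsg.Agent.Lib.Helper15.BG14 Cfsg.Agent.Lib.Helper32.BG12X

namespace Cfsg.Agent.Lib.Helper15.BGX

universe u

variable {G : Type u} [Group G] [Finite G]

/-- a `p`-subgroup of `E` of index prime to `p` is a member of `sylSet p E` -/
theorem mem_sylSet_of_not_dvd_relIndex {p : ℕ} [Fact p.Prime] {P E : Subgroup G} (hPE : P ≤ E)
    (hPp : IsPGroup p P) (hnd : ¬ p ∣ P.relIndex E) : P ∈ sylSet p E := by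
  have hpp : p.Prime := Fact.out
  refine ⟨hPE, ?_⟩
  obtain ⟨k, hk⟩ := IsPGroup.iff_card.mp hPp
  have h1 := Cfsg.Agent.Lib.Helper78.BG12.card_mul_relIndex' hPE
  have hr0 : P.relIndex E ≠ 0 := by
    intro h0
    rw [h0, mul_zero] at h1
    exact Nat.card_pos.ne' h1.symm
  rw [← h1, hk, Nat.factorization_mul (pow_pos hpp.pos k).ne' hr0,
    Nat.Prime.factorization_pow hpp]
  simp [Nat.factorization_eq_zero_of_not_dvd hnd]

/-- BGX piece SYL-NORMAL -/
theorem sylow_normal_of_abelian (hG : IsMinSimpleOddOrder G) (R : Rows G)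
    {M E A S : Subgroup G} {p : ℕ} [Fact p.Prime] (cs : CtxS M E p A S) :
    E ≤ Subgroup.normalizer (S : Set G) :=
  sylow_tau2_normal hG R.h14 R.h17 R.h18 cs.c cs.hab
    (mem_sylSet_of_not_dvd_relIndex cs.hSE cs.hSp cs.hSyl)

omit [Finite G] in
/-- BGX piece NA-LINE -/
theorem na_line_normal (R : Rows G) {M E A : Subgroup G} {p : ℕ}
    [Fact p.Prime] (c : Ctx7 M E p A) :
    M ≤ Subgroup.normalizer ((lineNA M A : Subgroup G) : Set G) :=
  le_normalizer_inf_cent R.h18 c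

/-- BGX piece NA-KEY -/
theorem na_key (hG : IsMinSimpleOddOrder G) (R : Rows G) {M E A : Subgroup G} {p : ℕ}
    [Fact p.Prime] (c : Ctx7 M E p A)
    (hna : ∀ T : Sylow p G, ¬ IsMulCommutative (T : Subgroup G)) {x : G} (hxE : x ∈ E)
    (hxp : ∃ k : ℕ, x ^ p ^ k = 1) (hx : x ^ p ≠ 1) :
    ¬ lineNA M A ≤ Subgroup.zpowers x := by
  have hpp : p.Prime := Fact.out
  intro hle
  obtain ⟨k, hk⟩ := hxp
  obtain ⟨j, -, hj⟩ := (Nat.dvd_prime_pow hpp).mp (orderOf_dvd_of_pow_eq_one hk)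
  have hj2 : 2 ≤ j := by
    by_contra h
    apply hx
    have h1 : orderOf x ∣ p := by
      rw [hj]
      exact (pow_dvd_pow p (by omega : j ≤ 1)).trans (by rw [pow_one])
    exact orderOf_dvd_iff_pow_eq_one.mp h1
  have hcard : Nat.card (lineNA M A) = p :=
    (R.h19 M c.hM E c.hE p c.hp hna A ⟨c.hAE, c.hA, c.hA2⟩).2.1.1
  have hall : ∀ a ∈ lineNA M A, a = 1 := by
    intro a ha
    have hax : a ∈ Subgroup.zpowers x := hle ha
    rw [← mem_powers_iff_mem_zpowers] at hax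
    obtain ⟨n, rfl⟩ := hax
    have hap : (x ^ n) ^ p = 1 := c.hA.2 _ ha.1
    have hdvd : p ^ j ∣ n * p := by
      rw [← hj]
      apply orderOf_dvd_of_pow_eq_one
      rw [pow_mul]; exact hap
    obtain ⟨i, rfl⟩ : ∃ i, j = i + 2 := ⟨j - 2, by omega⟩
    have hdvd2 : p ^ (i + 1) ∣ n := by
      have h1 : p ^ (i + 1) * p ∣ n * p := by rwa [← pow_succ]
      exact Nat.dvd_of_mul_dvd_mul_right hpp.pos h1
    obtain ⟨m, rfl⟩ := hdvd2
    have hyp : (x ^ (p ^ i * m)) ^ p = x ^ (p ^ (i + 1) * m) := by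
      rw [← pow_mul]
      congr 1
      rw [pow_succ]; ring
    have hy2 : (x ^ (p ^ i * m)) ^ p ^ 2 = 1 := by
      rw [pow_two, pow_mul, hyp]; exact hap
    have h1 := pow_p_eq_one_of_pow_mem hG R.h16 R.h17 R.h18 c hna
      (c.hE.1 (E.pow_mem hxE (p ^ i * m))) hy2 (by rw [hyp]; exact ha)
    rw [hyp] at h1
    exact h1
  have hbot : lineNA M A = ⊥ := by
    rw [eq_bot_iff]
    intro a ha
    exact Subgroup.mem_bot.mpr (hall a ha)
  rw [hbot, Subgroup.card_bot] at hcard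
  exact hpp.one_lt.ne hcard

/-- BGX piece NA-FIX -/
theorem na_fixed_mem (hG : IsMinSimpleOddOrder G) (R : Rows G) {M E A : Subgroup G} {p : ℕ}
    [Fact p.Prime] (c : Ctx7 M E p A)
    (hna : ∀ T : Sylow p G, ¬ IsMulCommutative (T : Subgroup G)) {e : G} (heE : e ∈ E)
    (hep : ∃ k : ℕ, e ^ p ^ k = 1)
    (hfix : sigmaCore M ⊓ Subgroup.centralizer ({e} : Set G) ≠ ⊥) :
    e ∈ lineNA M A := by
  have hpp : p.Prime := Fact.out
  obtain ⟨k, hk⟩ := hep
  obtain ⟨j, -, hj⟩ := (Nat.dvd_prime_pow hpp).mp (orderOf_dvd_of_pow_eq_one hk)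
  obtain ⟨⟨s, hs⟩, hs1⟩ := (Subgroup.ne_bot_iff_exists_ne_one).mp hfix
  obtain ⟨hsσ, hsc⟩ := Subgroup.mem_inf.mp hs
  have hcomm : e * s = s * e := Subgroup.mem_centralizer_iff.mp hsc e rfl
  have hs1' : s ≠ 1 := fun h => hs1 (Subtype.ext h)
  exact pelt_mem_of_fixed hG R.h16 R.h17 R.h18 c hna j e heE hj ⟨s, hsσ, hs1', hcomm⟩

end Cfsg.Agent.Lib.Helper15.BGX
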