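import Cfsg.Agent.Lib.Helper15.FT12A

/-!
# B&G Theorem 12.12 (S1421), piece NONAB of helper92's skeleton (helper15)

`nonab : NonabStmt`: in the nonabelian Sylow case the `p`-elements of `E` with a fixed point on
`M_σ` lie in `A₀ = A ∩ C(M_σ)`, and `A₀` has a complement in every Sylow `p`-subgroup `P` of `E`
containing an element of maximal order of `P`.
-/

set_option autoImplicit false

open Cfsg Cfsg.Agent.Lib.Helper32 Cfsg.Agent.Lib.Helper32.BG10 Cfsg.Agent.Lib.Helper3.BG12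
open Cfsg.Agent.Lib.Helper15.BG12 Cfsg.Agent.Lib.Helper15.BG14 Cfsg.Agent.Lib.Helper92.FT

namespace Cfsg.Agent.Lib.Helper15.FT12

universe u

variable {G : Type u} [Group G] [Finite G]

omit [Finite G] in
theorem conj_eq_of_comm {a k : G} (h : k * a = a * k) : a⁻¹ * k * a = k := by
  rw [mul_assoc, h, inv_mul_cancel_left]

/-- in an abelian `p`-group `P`, a subgroup `A₀` of order `p` containing no nontrivial `p`-th
power has a complement, which contains an element of maximal order of `P` -/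
theorem exists_compl_of_pow_free {p : ℕ} [Fact p.Prime] {P A₀ : Subgroup G} (hPp : IsPGroup p P)
    (hPc : ∀ a ∈ P, ∀ b ∈ P, a * b = b * a) (hA₀P : A₀ ≤ P) (hA₀ : Nat.card A₀ = p)
    (hlt : p < Nat.card P) (hfree : ∀ y ∈ P, y ^ p ∈ A₀ → y ^ p = 1) :
    ∃ C : Subgroup G, C ≤ P ∧ A₀ ⊓ C = ⊥ ∧ A₀ ⊔ C = P ∧
      ∃ c ∈ C, ∀ x ∈ P, orderOf x ∣ orderOf c := by
  classical
  have hpp : p.Prime := Fact.out
  have hA₀p : ∀ a ∈ A₀, a ^ p = 1 := by
    intro a ha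
    have h := pow_card_eq_one' (G := ↥A₀) (x := ⟨a, ha⟩)
    rw [hA₀] at h
    have h' := congrArg Subtype.val h
    simpa using h'
  -- the subgroup of `p`-th powers
  let Q : Subgroup G :=
    { carrier := {z | ∃ x ∈ P, x ^ p = z}
      mul_mem' := by
        rintro _ _ ⟨x, hx, rfl⟩ ⟨y, hy, rfl⟩
        exact ⟨x * y, P.mul_mem hx hy, (show Commute x y from hPc x hx y hy).mul_pow p⟩
      one_mem' := ⟨1, P.one_mem, one_pow p⟩
      inv_mem' := by
        rintro _ ⟨x, hx, rfl⟩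
        exact ⟨x⁻¹, P.inv_mem hx, inv_pow x p⟩ }
  have hQmem : ∀ x ∈ P, x ^ p ∈ Q := fun x hx => ⟨x, hx, rfl⟩
  have hQP : Q ≤ P := by rintro _ ⟨x, hx, rfl⟩; exact P.pow_mem hx p
  have hQA₀ : A₀ ⊓ Q = ⊥ := by
    rw [eq_bot_iff]
    rintro z ⟨hzA, x, hx, rfl⟩
    exact Subgroup.mem_bot.mpr (hfree x hx hzA)
  -- a subgroup `C` of maximal order with `Q ≤ C ≤ P`, `A₀ ⊓ C = ⊥`
  have : Nonempty {C : Subgroup G // Q ≤ C ∧ C ≤ P ∧ A₀ ⊓ C = ⊥} :=
    ⟨⟨Q, le_refl Q, hQP, hQA₀⟩⟩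
  obtain ⟨⟨C, hQC, hCP, hAC⟩, hmax⟩ := Finite.exists_max
    (fun C : {C : Subgroup G // Q ≤ C ∧ C ≤ P ∧ A₀ ⊓ C = ⊥} => Nat.card (C.1 : Subgroup G))
  have hPN : P ≤ Subgroup.normalizer (C : Set G) := by
    intro g hg
    rw [Subgroup.mem_normalizer_iff]
    intro h
    constructor
    · intro hh
      have : g * h * g⁻¹ = h := by rw [hPc g hg h (hCP hh), mul_inv_cancel_right]
      rw [this]; exact hh
    · intro hh
      have h1 := conj_eq_of_comm (hPc _ (hCP hh) g hg)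
      have h2 : h = g⁻¹ * (g * h * g⁻¹) * g := by group
      rw [h2, h1]; exact hh
  have hsup : A₀ ⊔ C = P := by
    apply le_antisymm (sup_le hA₀P hCP)
    intro x hx
    by_contra hxD
    have hxC : x ∉ C := fun h => hxD ((le_sup_right : C ≤ A₀ ⊔ C) h)
    have hC'P : C ⊔ Subgroup.zpowers x ≤ P := sup_le hCP (Subgroup.zpowers_le.mpr hx)
    have hne : A₀ ⊓ (C ⊔ Subgroup.zpowers x) ≠ ⊥ := by
      intro hbot
      have h1 := hmax ⟨C ⊔ Subgroup.zpowers x, hQC.trans le_sup_left, hC'P, hbot⟩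
      have h2 : C = C ⊔ Subgroup.zpowers x := Subgroup.eq_of_le_of_card_ge le_sup_left h1
      apply hxC
      rw [h2]
      exact (le_sup_right : Subgroup.zpowers x ≤ C ⊔ Subgroup.zpowers x) (Subgroup.mem_zpowers x)
    obtain ⟨⟨w, hw⟩, hw1⟩ := (Subgroup.ne_bot_iff_exists_ne_one).mp hne
    obtain ⟨hwA, hwC'⟩ := Subgroup.mem_inf.mp hw
    have hw1' : w ≠ 1 := fun h => hw1 (Subtype.ext h)
    rw [sup_comm] at hwC'
    obtain ⟨a, ha, b, hb, rfl⟩ :=
      mem_sup_of_le_normalizer ((Subgroup.zpowers_le.mpr hx).trans hPN) hwC'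
    obtain ⟨i, rfl⟩ := Subgroup.mem_zpowers_iff.mp ha
    have hnd : ¬ (p : ℤ) ∣ i := by
      rintro ⟨j, rfl⟩
      have h3 : x ^ ((p : ℤ) * j) ∈ C := by
        rw [zpow_mul, zpow_natCast]
        exact C.zpow_mem (hQC (hQmem x hx)) j
      have h4 : x ^ ((p : ℤ) * j) * b ∈ A₀ ⊓ C := Subgroup.mem_inf.mpr ⟨hwA, C.mul_mem h3 hb⟩
      rw [hAC, Subgroup.mem_bot] at h4
      exact hw1' h4
    obtain ⟨u, v, huv⟩ : IsCoprime (p : ℤ) i :=
      (Prime.coprime_iff_not_dvd (Nat.prime_iff_prime_int.mp hpp)).mpr hnd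
    apply hxD
    have hxi : x ^ i ∈ A₀ ⊔ C := by
      have h5 : x ^ i = (x ^ i * b) * b⁻¹ := by group
      rw [h5]
      exact Subgroup.mul_mem _ ((le_sup_left : A₀ ≤ A₀ ⊔ C) hwA)
        ((le_sup_right : C ≤ A₀ ⊔ C) (C.inv_mem hb))
    have hxp : x ^ (p : ℤ) ∈ A₀ ⊔ C := by
      rw [zpow_natCast]; exact (le_sup_right : C ≤ A₀ ⊔ C) (hQC (hQmem x hx))
    have h6 : x = (x ^ (p : ℤ)) ^ u * (x ^ i) ^ v := by
      rw [← zpow_mul, ← zpow_mul, ← zpow_add, mul_comm (p : ℤ) u, mul_comm i v, huv, zpow_one]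
    rw [h6]
    exact Subgroup.mul_mem _ (Subgroup.zpow_mem _ hxp u) (Subgroup.zpow_mem _ hxi v)
  refine ⟨C, hCP, hAC, hsup, ?_⟩
  -- an element of maximal order of `P`
  have : Nonempty ↥P := ⟨1⟩
  obtain ⟨c₀, hc₀⟩ := Finite.exists_max (fun x : ↥P => orderOf (x : G))
  have hdiv : ∀ x ∈ P, orderOf x ∣ orderOf (c₀ : G) := by
    intro x hx
    obtain ⟨k, hk⟩ := exists_orderOf_eq_of_mem hPp hx
    obtain ⟨a, ha⟩ := exists_orderOf_eq_of_mem hPp c₀.2
    have hle : orderOf x ≤ orderOf (c₀ : G) := hc₀ ⟨x, hx⟩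
    rw [hk, ha] at hle ⊢
    exact pow_dvd_pow p ((Nat.pow_le_pow_iff_right hpp.one_lt).mp hle)
  have hc₀D : (c₀ : G) ∈ A₀ ⊔ C := by rw [hsup]; exact c₀.2
  obtain ⟨a, ha, c, hc, hac⟩ := mem_sup_of_le_normalizer (hA₀P.trans hPN) hc₀D
  obtain ⟨n, hn⟩ := exists_orderOf_eq_of_mem hPp c₀.2
  by_cases hn1 : n ≤ 1
  · have hCne : C ≠ ⊥ := by
      intro hbot
      rw [hbot, sup_bot_eq] at hsup
      rw [← hsup, hA₀] at hlt
      exact lt_irrefl _ hlt
    obtain ⟨⟨c', hc'⟩, hc'1⟩ := (Subgroup.ne_bot_iff_exists_ne_one).mp hCne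
    have hexp : orderOf (c₀ : G) ∣ p := by
      rw [hn]; exact (pow_dvd_pow p hn1).trans (by rw [pow_one])
    refine ⟨c', hc', fun x hx => ?_⟩
    have h2 : orderOf c' = p := by
      rcases (Nat.dvd_prime hpp).mp ((hdiv c' (hCP hc')).trans hexp) with h | h
      · exact absurd (orderOf_eq_one_iff.mp h) (fun h => hc'1 (Subtype.ext h))
      · exact h
    rw [h2]; exact (hdiv x hx).trans hexp
  · refine ⟨c, hc, fun x hx => ?_⟩
    have hcp : (c₀ : G) ^ p = c ^ p := by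
      have hcomm : Commute a c := hPc a (hA₀P ha) c (hCP hc)
      rw [hac, hcomm.mul_pow, hA₀p a ha, one_mul]
    obtain ⟨m, hm⟩ := exists_orderOf_eq_of_mem hPp (hCP hc)
    have hm0 : m ≠ 0 := by
      rintro rfl
      rw [pow_zero, orderOf_eq_one_iff] at hm
      rw [hm, one_pow] at hcp
      have h3 : orderOf (c₀ : G) ∣ p := orderOf_dvd_of_pow_eq_one hcp
      rw [hn] at h3
      have h4 : p ^ n ∣ p ^ 1 := by rwa [pow_one]
      exact hn1 ((Nat.pow_dvd_pow_iff_le_right hpp.one_lt).mp h4)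
    have h1 : orderOf (c₀ : G) ∣ orderOf c := by
      apply orderOf_dvd_of_pow_eq_one
      obtain ⟨m', rfl⟩ : ∃ m', m = m' + 1 := ⟨m - 1, by omega⟩
      rw [hm, pow_succ', pow_mul, hcp, ← pow_mul, ← pow_succ', ← hm, pow_orderOf_eq_one]
    exact (hdiv x hx).trans h1

/-- NONAB -/
theorem nonab : NonabStmt.{u} := by
  intro G _ _ hG M E hM hE p _ A hT hS _
  have hpp : p.Prime := Fact.out
  obtain ⟨h14, h16, h17, h18⟩ := hyps hG
  have c : Ctx7 M E p A := ⟨hM, hE, hT.hp, hT.hAE, hT.hA, hT.hA2⟩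
  have hA₀card : Nat.card ↥(A ⊓ Subgroup.centralizer (sigmaCore M : Set G)) = p :=
    (h19_of hG h16 h17 h18 M hM E hE p hT.hp hS A ⟨hT.hAE, hT.hA, hT.hA2⟩).2.1.1
  refine ⟨?_, ?_⟩
  · rintro e heE ⟨k, hk⟩ hfix
    obtain ⟨⟨s, hs⟩, hs1⟩ := (Subgroup.ne_bot_iff_exists_ne_one).mp hfix
    obtain ⟨hsσ, hsc⟩ := Subgroup.mem_inf.mp hs
    have hcomm : e * s = s * e := Subgroup.mem_centralizer_iff.mp hsc e rfl
    exact pelt_mem_of_fixed hG h16 h17 h18 c hS k e heE hk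
      ⟨s, hsσ, fun h => hs1 (Subtype.ext h), hcomm⟩
  · intro P hP
    have hPs : P ∈ sylSet p E := mem_sylSet_of_sylIn hP
    obtain ⟨hPE, hPp, -⟩ := hP
    have hEA : E ≤ Subgroup.normalizer (A : Set G) :=
      (h18 M hM E hE p hT.hp A ⟨hT.hAE, hT.hA, hT.hA2⟩).1.1
    have hAp : IsPGroup p A := IsPGroup.of_card hT.hA2
    have hAP : A ≤ P := normal_pgroup_le_sylSet hPs hT.hAE hAp hEA
    have hPc : IsMulCommutative ↥P :=
      Cfsg.Agent.Lib.Helper3.BG12T.pgroup_comm_of_not_sigma hG h17 hM hT.hp.2.1 hPp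
        (hPE.trans hE.1)
    have hlt : p < Nat.card P := by
      have h1 : Nat.card A ≤ Nat.card P := Subgroup.card_le_of_le hAP
      rw [hT.hA2] at h1
      have h2 : p < p ^ 2 := by
        have := hpp.one_lt
        nlinarith
      omega
    apply exists_compl_of_pow_free hPp
      (fun a ha b hb => congrArg Subtype.val (hPc.is_comm.comm ⟨a, ha⟩ ⟨b, hb⟩))
      (inf_le_left.trans hAP) hA₀card hlt
    intro y hy hyp
    have hy2 : y ^ p ^ 2 = 1 := by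
      rw [pow_two, pow_mul]
      exact hT.hA.2 _ hyp.1
    exact pow_p_eq_one_of_pow_mem hG h16 h17 h18 c hS (hE.1 (hPE hy)) hy2 hyp

end Cfsg.Agent.Lib.Helper15.FT12
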