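import Cfsg.Agent.Lib.Helper32.BG12XDefs
import Cfsg.Agent.Lib.Helper15.FT12Nonab

/-!
# BGX (helper32's skeleton): the statement of the piece GEN-CPL, from
`Lib/Helper15/FT12Nonab.exists_compl_of_pow_free` (helper15)
-/

set_option autoImplicit false

open Cfsg Cfsg.Agent.Lib.Helper32

namespace Cfsg.Agent.Lib.Helper15.BGX

universe u

variable {G : Type u} [Group G] [Finite G]

/-- BGX piece GEN-CPL -/
theorem exists_compl_of_not_pow {p : ℕ} [Fact p.Prime] {S' A₀ : Subgroup G}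
    (hS : IsMulCommutative S') (hSp : IsPGroup p S') (hA₀ : A₀ ≤ S') (hc : Nat.card A₀ = p)
    (hpow : ∀ x ∈ S', x ^ p ∈ A₀ → x ^ p = 1) :
    ∃ S₀ : Subgroup G, S₀ ≤ S' ∧ S₀ ⊓ A₀ = ⊥ ∧ A₀ ⊔ S₀ = S' := by
  have hpp : p.Prime := Fact.out
  by_cases hlt : p < Nat.card S'
  · obtain ⟨C, hCP, hAC, hsup, -⟩ := Cfsg.Agent.Lib.Helper15.FT12.exists_compl_of_pow_free hSp
      (fun a ha b hb => congrArg Subtype.val (hS.is_comm.comm ⟨a, ha⟩ ⟨b, hb⟩)) hA₀ hc hlt hpow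
    exact ⟨C, hCP, by rw [inf_comm]; exact hAC, hsup⟩
  · have hle : Nat.card S' ≤ Nat.card A₀ := by rw [hc]; exact not_lt.mp hlt
    have heq : A₀ = S' := Subgroup.eq_of_le_of_card_ge hA₀ hle
    exact ⟨⊥, bot_le, bot_inf_eq _, by rw [sup_bot_eq, heq]⟩

end Cfsg.Agent.Lib.Helper15.BGX
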