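import Cfsg.Agent.Lib.Helper32.BG12XDefs
import Cfsg.Agent.Lib.Helper32.BG12XSylG

/-!
# BGX (helper32's skeleton): the statements of the pieces MSTAR and NOT-BETA (helper15)
-/

set_option autoImplicit false

open Cfsg Cfsg.Agent.Lib.Helper32 Cfsg.Agent.Lib.Helper32.BG10 Cfsg.Agent.Lib.Helper3.BG12
  Cfsg.Agent.Lib.Helper15.BG12 Cfsg.Agent.Lib.Helper32.BG12X

namespace Cfsg.Agent.Lib.Helper15.BGX

universe u

variable {G : Type u} [Group G] [Finite G]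

/-- BGX piece MSTAR -/
theorem exists_Mstar (hG : IsMinSimpleOddOrder G) (R : Rows G) {M E A : Subgroup G} {p : ℕ}
    [Fact p.Prime] (c : Ctx7 M E p A) :
    ∃ L : Subgroup G, IsCoatom L ∧ Subgroup.normalizer (A : Set G) ≤ L ∧ L ≠ M ∧ E ≤ L := by
  have hpp : p.Prime := Fact.out
  obtain ⟨⟨hEA, -⟩, ⟨-, -, hNAM⟩, -⟩ := R.h18 M c.hM E c.hE p c.hp A ⟨c.hAE, c.hA, c.hA2⟩
  have hA1 : A ≠ ⊥ := by
    intro h
    have h2 := c.hA2
    rw [h, Subgroup.card_bot] at h2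
    exact (Nat.one_lt_pow (by norm_num) hpp.one_lt).ne h2
  have hAtop : A ≠ ⊤ := fun h => c.hM.1 (top_le_iff.mp (h ▸ c.hAE.trans c.hE.1))
  obtain ⟨L, hL, hNL⟩ := exists_coatom_ge (minSimple_normalizer_ne_top hG hA1 hAtop)
  exact ⟨L, hL, hNL, fun h => hNAM (h ▸ hNL), hEA.trans hNL⟩

/-- BGX piece NOT-BETA -/
theorem not_beta (hG : IsMinSimpleOddOrder G) (R : Rows G) {M E A S : Subgroup G} {p : ℕ}
    [Fact p.Prime] (cs : CtxS M E p A S) (L : Subgroup G) : p ∉ beta L := by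
  intro hβ
  obtain ⟨B, -, hBc, hBe, hBcard⟩ := exists_of_not_prankLE hβ.1.2
  have hBp : IsPGroup p B := fun g => ⟨1, by rw [pow_one]; exact Subtype.ext (hBe g.1 g.2)⟩
  have hmax := sylow_of_G hG R cs
  obtain ⟨T₀, hT₀⟩ := cs.hSp.exists_le_sylow
  have hT₀S : (T₀ : Subgroup G) = S := hmax _ T₀.isPGroup' hT₀
  obtain ⟨T', hT'⟩ := hBp.exists_le_sylow
  obtain ⟨g, hg⟩ := MulAction.exists_smul_eq G T' T₀
  have hBS : cj g B ≤ S := by
    intro x hx
    rw [mem_cj] at hx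
    have h1 : g⁻¹ * x * g ∈ (T' : Subgroup G) := hT' hx
    have h2 : x ∈ ((g • T' : Sylow p G) : Subgroup G) := by
      rw [Sylow.coe_subgroup_smul, Subgroup.mem_pointwise_smul_iff_inv_smul_mem]
      simpa [MulAut.smul_def, MulAut.conj_inv_apply] using h1
    rw [hg, hT₀S] at h2
    exact h2
  have hcard : p ^ 2 < Nat.card (cj g B) := by rw [card_cj]; exact hBcard
  have hcomm : ∀ a ∈ cj g B, ∀ b ∈ cj g B, a * b = b * a := by
    intro a ha b hb
    rw [mem_cj] at ha hb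
    have h := hBc _ ha _ hb
    calc a * b = g * ((g⁻¹ * a * g) * (g⁻¹ * b * g)) * g⁻¹ := by group
      _ = g * ((g⁻¹ * b * g) * (g⁻¹ * a * g)) * g⁻¹ := by rw [h]
      _ = b * a := by group
  have hexp : ∀ a ∈ cj g B, a ^ p = 1 := by
    intro a ha
    rw [mem_cj] at ha
    have h := hBe _ ha
    have h1 : (g⁻¹ * a * g) ^ p = g⁻¹ * a ^ p * g := by
      have := conj_pow (a := g⁻¹) (b := a) (i := p)
      rwa [inv_inv] at this
    rw [h1] at h
    calc a ^ p = g * (g⁻¹ * a ^ p * g) * g⁻¹ := by group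
      _ = 1 := by rw [h]; group
  exact not_prankLE_of_le (hBS.trans (cs.hSE.trans cs.c.hE.1)) hcomm hexp hcard cs.c.hp.2.2.1

end Cfsg.Agent.Lib.Helper15.BGX
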