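import Cfsg.Agent.Lib.Helper15.BG13CDefs2
import Cfsg.Agent.Lib.Helper32.Uniq6
import Cfsg.Agent.S0126
import Cfsg.Agent.S1414
import Cfsg.Agent.S1422

/-!
# B&G Corollary 13.3(b) (row S1428): assembly of the crux from the pieces (helper15)
-/

set_option autoImplicit false

open Cfsg Cfsg.Agent.Lib.Helper32 Cfsg.Agent.Lib.Helper32.BG10 Cfsg.Agent.Lib.Helper3.BG12
  Cfsg.Agent.Lib.Helper3.BG13T Cfsg.Agent.Lib.Helper3.BG13 Cfsg.Agent.Lib.Helper3.BG12S

namespace Cfsg.Agent.Lib.Helper15.BG13C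

universe u

variable {G : Type u} [Group G] [Finite G]

omit [Finite G] in
theorem asm_le_normalizer_inf {A B T : Subgroup G} (hA : T ≤ Subgroup.normalizer (A : Set G))
    (hB : T ≤ Subgroup.normalizer (B : Set G)) :
    T ≤ Subgroup.normalizer ((A ⊓ B : Subgroup G) : Set G) := by
  intro t ht
  rw [Subgroup.mem_normalizer_iff]
  intro x
  rw [Subgroup.mem_inf, Subgroup.mem_inf,
    ← (Subgroup.mem_normalizer_iff.mp (hA ht)) x, ← (Subgroup.mem_normalizer_iff.mp (hB ht)) x]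

omit [Finite G] in
theorem asm_le_centralizer_bot (T : Subgroup G) :
    T ≤ Subgroup.centralizer ((⊥ : Subgroup G) : Set G) := by
  intro a _
  rw [Subgroup.mem_centralizer_iff]
  intro g hg
  have : g = 1 := Subgroup.mem_bot.mp hg
  subst this
  simp

omit [Finite G] in
theorem asm_comm_of_le {A Q : Subgroup G} (hQ : IsMulCommutative Q) (h : A ≤ Q) :
    IsMulCommutative A :=
  ⟨⟨fun a b => Subtype.ext (by
    have h1 := congrArg Subtype.val (hQ.is_comm.comm ⟨a.1, h a.2⟩ ⟨b.1, h b.2⟩)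
    exact h1)⟩⟩

omit [Finite G] in
theorem asm_le_centralizer_of_comm {Q A B : Subgroup G} (hQ : IsMulCommutative Q) (hA : A ≤ Q)
    (hB : B ≤ Q) : A ≤ Subgroup.centralizer (B : Set G) := by
  intro a ha
  rw [Subgroup.mem_centralizer_iff]
  intro b hb
  exact congrArg Subtype.val (hQ.is_comm.comm ⟨b, hB hb⟩ ⟨a, hA ha⟩)

theorem asm_sylSet_of_le {q : ℕ} [Fact q.Prime] {Q H K : Subgroup G} (hQ : Q ∈ sylSet q K)
    (hQH : Q ≤ H) (hHK : H ≤ K) : Q ∈ sylSet q H := by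
  have hq : q.Prime := Fact.out
  refine ⟨hQH, ?_⟩
  have h1 : Nat.card Q ∣ Nat.card H := Subgroup.card_dvd_of_le hQH
  have h2 : Nat.card H ∣ Nat.card K := Subgroup.card_dvd_of_le hHK
  have hH0 : Nat.card H ≠ 0 := Nat.card_pos.ne'
  have hK0 : Nat.card K ≠ 0 := Nat.card_pos.ne'
  rw [hQ.2] at h1 ⊢
  have h3 : (Nat.card K).factorization q ≤ (Nat.card H).factorization q :=
    (hq.pow_dvd_iff_le_factorization hH0).mp h1
  have h4 : (Nat.card H).factorization q ≤ (Nat.card K).factorization q :=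
    ((Nat.factorization_le_iff_dvd hH0 hK0).mpr h2) q
  rw [le_antisymm h3 h4]

theorem asm_cyclic_of_prank1 (hG : IsMinSimpleOddOrder G) {q : ℕ} [Fact q.Prime]
    {H Q : Subgroup G} (hQH : Q ≤ H) (hQq : IsPGroup q Q) (h1 : PRankLE q 1 H) : IsCyclic Q := by
  have hq : q.Prime := Fact.out
  by_contra hnc
  have hq2 : q ≠ 2 := by
    rintro rfl
    obtain ⟨n, hn⟩ := hQq.exists_card_eq
    have hodd : Odd (Nat.card Q) := minSimple_odd_sub hG Q
    have hn0 : n = 0 := by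
      by_contra h0
      rw [hn] at hodd
      exact (Nat.not_even_iff_odd.mpr hodd) ((Nat.even_pow' h0).mpr even_two)
    rw [hn0, pow_zero] at hn
    have hbot : Q = ⊥ := Subgroup.card_eq_one.mp hn
    apply hnc
    rw [hbot]
    infer_instance
  obtain ⟨A, -, hAe, hAc⟩ := Cfsg.Agent.S0126.result (R := ↥Q) hq2 hQq hnc
  have hAmap : A.map Q.subtype ≤ H := (Subgroup.map_subtype_le A).trans hQH
  refine not_prankLE_of_le (p := q) (k := 1) hAmap ?_ ?_ ?_ h1
  · rintro _ ⟨a, ha, rfl⟩ _ ⟨b, hb, rfl⟩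
    have h2 := congrArg Subtype.val (hAe.1.is_comm.comm ⟨a, ha⟩ ⟨b, hb⟩)
    have h3 := congrArg (fun x : ↥Q => (x : G)) h2
    simpa using h3
  · rintro _ ⟨a, ha, rfl⟩
    have h2 := congrArg Subtype.val (hAe.2 a ha)
    simpa using h2
  · rw [Subgroup.card_map_of_injective Q.subtype_injective, hAc, pow_one]
    nth_rewrite 1 [← pow_one q]
    exact Nat.pow_lt_pow_right hq.one_lt (by norm_num)

/-- the common end: one application of `KB` with `A₂ = ⊥` -/
theorem asm_fin (hNCPB : NCPBStmt G) (hCS : CSStmt G) (hKB : KBStmt G)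
    (hG : IsMinSimpleOddOrder G) {H : Subgroup G} (hH : IsCoatom H) {p : ℕ} [Fact p.Prime]
    (hβ : p ∈ beta H) {P : Subgroup G} (hPH : P ≤ H) (hPc : Nat.card P = p)
    {r : ℕ} [Fact r.Prime] {R : Subgroup G} (hRH : R ≤ H) (hRc : Nat.card R = r)
    (hrσ : r ∉ sigma H) (hr1 : PRankLE r 1 H)
    (hRP : R ≤ Subgroup.centralizer (P : Set G))
    {q : ℕ} [Fact q.Prime] (hqβ : q ∉ beta H) {A : Subgroup G} (hAH : A ≤ H)
    (hAq : IsPGroup q A) (hAab : IsMulCommutative A)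
    (hPA : P ≤ Subgroup.centralizer (A : Set G))
    (hRA : R ≤ Subgroup.normalizer (A : Set G)) (hfree : FreeOn R A) (hcyc : Cyc H p A) :
    False := by
  have hq : q.Prime := Fact.out
  have hr : r.Prime := Fact.out
  have h14 : H14 G := fun M hM => Cfsg.Agent.S1414.result hG M hM
  have hPp : IsPGroup p P := IsPGroup.of_card (n := 1) (by rw [hPc, pow_one])
  obtain ⟨hnc, hPβ'⟩ := hNCPB hG H hH p hβ
  have hPβ := hPβ' P hPH hPp
  have hBpi : ∀ ℓ : ℕ, ℓ.Prime → ℓ ∣ Nat.card ↥(piCoreOf (beta H) H) → ℓ ∈ beta H :=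
    (h14 H hH).1.2.1
  have hcopq : q.Coprime (Nat.card ↥(piCoreOf (beta H) H)) :=
    (Nat.Prime.coprime_iff_not_dvd hq).mpr (fun hd => hqβ (hBpi q hq hd))
  have hcopA : (Nat.card A).Coprime (Nat.card ↥(piCoreOf (beta H) H)) := by
    obtain ⟨n, hn⟩ := hAq.exists_card_eq
    rw [hn]
    exact Nat.Coprime.pow_left n hcopq
  have hrβ : r ∉ beta H := fun h => hrσ (alpha_sub_sigma hG (ut_of hG) hH h.1)
  have hcopr : r.Coprime (Nat.card ↥(piCoreOf (beta H) H)) :=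
    (Nat.Prime.coprime_iff_not_dvd hr).mpr (fun hd => hrβ (hBpi r hr hd))
  have hcop1 : (Nat.card (⊥ : Subgroup G)).Coprime (Nat.card ↥(piCoreOf (beta H) H)) := by
    rw [Subgroup.card_bot]
    exact Nat.coprime_one_left _
  have hcycR : Cyc H p R := hCS hG H hH p hβ r hrσ hr1 R hRH hRc
  have hcyc' : Cyc H p (A ⊔ ⊥) := by rwa [sup_bot_eq]
  exact hnc (hKB hG H hH p hβ P A ⊥ R r hPβ hPc hAH bot_le hRH hAab
    (asm_le_centralizer_bot A) (asm_le_centralizer_bot R) hRc hRA hfree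
    (Subgroup.le_centralizer_iff.mp hPA) bot_le hRP hcopA hcop1 hcopr
    hcyc' hcycR)

omit [Finite G] in
theorem asm_comm_of_cyclic {Q : Subgroup G} (h : IsCyclic Q) : IsMulCommutative Q := by
  obtain ⟨g, hg⟩ := h.exists_generator
  refine ⟨⟨fun a b => ?_⟩⟩
  obtain ⟨m, rfl⟩ := Subgroup.mem_zpowers_iff.mp (hg a)
  obtain ⟨n, rfl⟩ := Subgroup.mem_zpowers_iff.mp (hg b)
  rw [← zpow_add, ← zpow_add, add_comm]

theorem asm_cop (hG : IsMinSimpleOddOrder G) {H : Subgroup G} (hH : IsCoatom H) {q : ℕ}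
    [Fact q.Prime] (hqβ : q ∉ beta H) {A : Subgroup G} (hAq : IsPGroup q A) :
    (Nat.card A).Coprime (Nat.card ↥(piCoreOf (beta H) H)) := by
  have hq : q.Prime := Fact.out
  have h14 : H14 G := fun M hM => Cfsg.Agent.S1414.result hG M hM
  have hBpi : ∀ ℓ : ℕ, ℓ.Prime → ℓ ∣ Nat.card ↥(piCoreOf (beta H) H) → ℓ ∈ beta H :=
    (h14 H hH).1.2.1
  obtain ⟨n, hn⟩ := hAq.exists_card_eq
  rw [hn]
  exact Nat.Coprime.pow_left n
    ((Nat.Prime.coprime_iff_not_dvd hq).mpr (fun hd => hqβ (hBpi q hq hd)))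

/-- the crux, from the pieces -/
theorem crux (hPick : PickStmt G) (hCycFree : CycFreeStmt G) (hCommFree : CommFreeStmt G)
    (hC0c : C0CycStmt G) (hBurn : BurnStmt G) (hNCPB : NCPBStmt G) (hCS : CSStmt G)
    (hCA : CAStmt G) (hKB : KBStmt G) (hBetaA : BetaAStmt G) (hBetaD : BetaDStmt G)
    (hNT2 : NT2Stmt G) (hG1a : G1aStmt G) (hG1b : G1bStmt G) (hG1c : G1cStmt G)
    (hGam : GamStmt G) : CruxStmt G := by
  intro hG M H hM hH p _ hp1 hpH P hPM hPH hPc r _ R hRM hRH hRP hRc hrM hr1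
  by_contra hcon
  have hpp : p.Prime := Fact.out
  have hrp : r.Prime := Fact.out
  have h14 : H14 G := fun M hM => Cfsg.Agent.S1414.result hG M hM
  have hpM : p ∉ sigma M := hp1.2.1
  have hrσ : r ∉ sigma H := hr1.2.1
  have hrk1 : PRankLE r 1 H := hr1.2.2.2.2
  have hPp : IsPGroup p P := IsPGroup.of_card (n := 1) (by rw [hPc, pow_one])
  have hRr : IsPGroup r R := IsPGroup.of_card (n := 1) (by rw [hRc, pow_one])
  have hRprime : (Nat.card R).Prime := by rw [hRc]; exact hrp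
  have hP1 : P ≠ ⊥ := by
    rintro rfl
    rw [Subgroup.card_bot] at hPc
    exact hpp.one_lt.ne hPc
  have hσM : sigmaCore M ≤ M := Subgroup.map_subtype_le _
  have hMσn : M ≤ Subgroup.normalizer ((sigmaCore M : Subgroup G) : Set G) :=
    le_normalizer_map_subtype M _
  set Y : Subgroup G := sigmaCore M ⊓ H with hYdef
  have hYM : Y ≤ sigmaCore M := inf_le_left
  have hYH : Y ≤ H := inf_le_right
  have hRY : R ≤ Subgroup.normalizer (Y : Set G) :=
    asm_le_normalizer_inf (hRM.trans hMσn) (hRH.trans Subgroup.le_normalizer)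
  have hPYn : P ≤ Subgroup.normalizer (Y : Set G) :=
    asm_le_normalizer_inf (hPM.trans hMσn) (hPH.trans Subgroup.le_normalizer)
  have hcopR : (Nat.card R).Coprime (Nat.card Y) := coprime_of_sigma hG hrM hRr hYM
  have hcopP : (Nat.card P).Coprime (Nat.card Y) := coprime_of_sigma hG hpM hPp hYM
  have hPH' : P ≤ ⁅H, H⁆ :=
    (pgroup_le_sigmaCore hG hH hpH hPp hPH).trans (sigmaCore_le_comm hG hH)
  have hPY : P ≤ Subgroup.centralizer (Y : Set G) :=
    sigArg hG h14 hM hH hpH hpM hPH' hYM hYH hPYn hcopP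
  obtain ⟨q, hqF, Q, hQ, hRQ, hRQc⟩ := hPick Y R hRprime hRY hcopR hcon
  haveI := hqF
  have hq : q.Prime := Fact.out
  have hQY : Q ≤ Y := hQ.1
  have hQH : Q ≤ H := hQY.trans hYH
  have hQσ : Q ≤ sigmaCore M := hQY.trans hYM
  have hQM : Q ≤ M := hQσ.trans hσM
  have hQq : IsPGroup q Q := isPGroup_of_mem_sylSet hQ
  have hPQ : P ≤ Subgroup.centralizer (Q : Set G) :=
    hPY.trans (Subgroup.centralizer_le (SetLike.coe_subset_coe.mpr hQY))
  -- a non-commuting pair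
  have hex : ∃ z ∈ R, ∃ y ∈ Q, z * y ≠ y * z := by
    by_contra hno
    push_neg at hno
    apply hRQc
    intro z hz
    rw [Subgroup.mem_centralizer_iff]
    intro y hy
    exact (hno z hz y hy).symm
  obtain ⟨z₀, hz₀, y₀, hy₀, hzy⟩ := hex
  have hy₀1 : y₀ ≠ 1 := by
    rintro rfl
    simp at hzy
  obtain ⟨X, hXz, hXc⟩ := exists_card_prime_le_zpowers hQq hy₀ hy₀1
  have hXQ : X ≤ Q := hXz.trans (Subgroup.zpowers_le.mpr hy₀)
  have hqdvdQ : q ∣ Nat.card Q := by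
    rw [← hXc]
    exact Subgroup.card_dvd_of_le hXQ
  have hqM : q ∈ sigma M :=
    mem_sigma_of_dvd_sigmaCore hq (hqdvdQ.trans (Subgroup.card_dvd_of_le hQσ))
  have hne : M ≠ H := fun h => hpM (h ▸ hpH)
  have hncj : ∀ g : G, M ≠ cj g H := by
    intro g hg
    apply hpM
    rw [hg]
    exact sigma_cj hpH g
  have hqα : q ∉ alpha H := by
    intro hα
    obtain ⟨g, hg⟩ := exists_cj_of_sigma_alpha hG hM hH hqM hα
    have h1 : p ∈ sigma (cj g⁻¹ H) := sigma_cj hpH g⁻¹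
    rw [hg, cj_inv_cj] at h1
    exact hpM h1
  have hqβ : q ∉ beta H := fun h => hqα h.1
  have hq2 : PRankLE q 2 H := by
    by_contra h
    exact hqα ⟨hq, h⟩
  have hqQα : ∀ A : Subgroup G, A ≤ Q → ∀ ℓ : ℕ, ℓ.Prime → ℓ ∣ Nat.card A → ℓ ∉ alpha H := by
    intro A hA ℓ hℓ hd
    obtain ⟨n, hn⟩ := (hQq.to_le hA).exists_card_eq
    rw [hn] at hd
    have : ℓ = q := (Nat.prime_dvd_prime_iff_eq hℓ hq).mp (hℓ.dvd_of_dvd_pow hd)
    rw [this]
    exact hqα
  have hX1 : X ≠ ⊥ := by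
    rintro rfl
    rw [Subgroup.card_bot] at hXc
    exact hq.one_lt.ne hXc
  have hXtop : X ≠ ⊤ := by
    rintro rfl
    exact hM.1 (top_le_iff.mp (hXQ.trans hQM))
  have hPX : P ≤ Subgroup.centralizer (X : Set G) :=
    hPQ.trans (Subgroup.centralizer_le (SetLike.coe_subset_coe.mpr hXQ))
  have hcycR : ∀ hβ : p ∈ beta H, Cyc H p R := fun hβ => hCS hG H hH p hβ r hrσ hrk1 R hRH hRc
  by_cases hqH : q ∈ sigma H
  · -- Case A: `q ∈ σ(H)`
    have hβ : p ∈ beta H := hBetaA hG M H hM hH p hp1 hpH q hqM hqH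
    have hQab : IsMulCommutative Q := by
      by_contra hna
      obtain ⟨L, -, hu⟩ := Cfsg.Agent.S1422.result hG q Q hQq hna
      exact hne ((hu M ⟨hM, hQM⟩).trans (hu H ⟨hH, hQH⟩).symm)
    have hcopRQ : (Nat.card R).Coprime (Nat.card Q) :=
      Nat.Coprime.coprime_dvd_right (Subgroup.card_dvd_of_le hQY) hcopR
    obtain ⟨hRQ1, hQ1Q, hfree1, hdec, hdisj, hQ1ne⟩ := hCommFree Q R hQab hRprime hcopRQ hRQ
    have hQ1 : (⁅Q, R⁆ : Subgroup G) ≠ ⊥ := hQ1ne hRQc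
    have hQ1q : IsPGroup q (⁅Q, R⁆ : Subgroup G) := hQq.to_le hQ1Q
    have hQ1ab : IsMulCommutative (⁅Q, R⁆ : Subgroup G) := asm_comm_of_le hQab hQ1Q
    have hPQ1 : P ≤ Subgroup.centralizer ((⁅Q, R⁆ : Subgroup G) : Set G) :=
      hPQ.trans (Subgroup.centralizer_le (SetLike.coe_subset_coe.mpr hQ1Q))
    obtain ⟨⟨x, hx⟩, hx1'⟩ := (Subgroup.ne_bot_iff_exists_ne_one).mp hQ1
    have hx1 : x ≠ 1 := fun h => hx1' (Subtype.ext h)
    obtain ⟨X1, hX1z, hX1c⟩ := exists_card_prime_le_zpowers hQ1q hx hx1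
    have hX1Q1 : X1 ≤ (⁅Q, R⁆ : Subgroup G) := hX1z.trans (Subgroup.zpowers_le.mpr hx)
    have hX1ne : X1 ≠ ⊥ := by
      rintro rfl
      rw [Subgroup.card_bot] at hX1c
      exact hq.one_lt.ne hX1c
    have hX1top : X1 ≠ ⊤ := by
      rintro rfl
      exact hM.1 (top_le_iff.mp ((hX1Q1.trans hQ1Q).trans hQM))
    obtain ⟨L, hL, hNL⟩ := exists_coatom_ge (minSimple_normalizer_ne_top hG hX1ne hX1top)
    by_cases hLH : L = H
    · rw [hLH] at hNL
      obtain ⟨hQtop, hNQM, hNQH⟩ :=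
        hGam hG M H hM hH hne q hqM hqH Q X1 hQ (hX1Q1.trans hQ1Q) hX1ne hNL
      have hcycQ : Cyc H p Q := hCA hG H M Q hH hM hne hQH (hqQα Q le_rfl)
        (inf_le_right.trans ((Subgroup.centralizer_le_normalizer _).trans hNQM)) p
      by_cases hC0 : Q ⊓ Subgroup.centralizer (R : Set G) = ⊥
      · have hQQ1 : (⁅Q, R⁆ : Subgroup G) = Q := by
          rw [hC0, bot_sup_eq] at hdec
          exact hdec
        have hfreeQ : FreeOn R Q := by
          rw [← hQQ1]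
          exact hfree1
        exact asm_fin hNCPB hCS hKB hG hH hβ hPH hPc hRH hRc hrσ hrk1 hRP hqβ hQH hQq hQab
          hPQ hRQ hfreeQ hcycQ
      · have hC0Q : Q ⊓ Subgroup.centralizer (R : Set G) ≤ Q := inf_le_left
        have hC0cyc : IsCyclic ↥(Q ⊓ Subgroup.centralizer (R : Set G)) :=
          hC0c hG q H Q _ _ hQH hq2 hQq hQab hC0Q hQ1Q hdisj hQ1
        have hQsylH : Q ∈ sylSet q H := asm_sylSet_of_le hQtop hQH le_top
        have hg1a := hG1a hG H hH q hqH hqβ Q hQsylH hQab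
        have hburn := hBurn hG q Q hQtop hQab
        obtain ⟨hnc, hPβ'⟩ := hNCPB hG H hH p hβ
        have hPβ := hPβ' P hPH hPp
        have hg1b := hG1b hG M H hM hH p hp1 P Q hPc hPβ hPQ hNQM hNQH hcycQ
        obtain ⟨t, htF, V, hVH, hVc, htσ, htr, hVP, hVN, hVfree⟩ :=
          hG1c hG M H hM hH hncj q hqM hqH P Q R hQtop hQab hNQH hRprime hRQ hC0 hC0cyc
            hg1a hburn hg1b
        haveI := htF
        have hPC0 : P ≤ Subgroup.centralizer
            ((Q ⊓ Subgroup.centralizer (R : Set G) : Subgroup G) : Set G) :=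
          hPQ.trans (Subgroup.centralizer_le (SetLike.coe_subset_coe.mpr hC0Q))
        have hrβ : r ∉ beta H := fun h => hrσ (alpha_sub_sigma hG (ut_of hG) hH h.1)
        have hcopr : r.Coprime (Nat.card ↥(piCoreOf (beta H) H)) := by
          have := asm_cop hG hH hrβ hRr
          rwa [hRc] at this
        have hcyc' : Cyc H p ((⁅Q, R⁆ : Subgroup G) ⊔ (Q ⊓ Subgroup.centralizer (R : Set G))) := by
          rw [sup_comm, hdec]
          exact hcycQ
        have hcycC0 : Cyc H p (Q ⊓ Subgroup.centralizer (R : Set G)) :=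
          hKB hG H hH p hβ P ⁅Q, R⁆ (Q ⊓ Subgroup.centralizer (R : Set G)) R r hPβ hPc
            (hQ1Q.trans hQH) (hC0Q.trans hQH) hRH hQ1ab
            (asm_le_centralizer_of_comm hQab hQ1Q hC0Q)
            (Subgroup.le_centralizer_iff.mp inf_le_right) hRc hRQ1 hfree1
            (Subgroup.le_centralizer_iff.mp hPQ1) (Subgroup.le_centralizer_iff.mp hPC0) hRP
            (asm_cop hG hH hqβ hQ1q) (asm_cop hG hH hqβ (hQq.to_le hC0Q)) hcopr hcyc'
            (hcycR hβ)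
        exact asm_fin hNCPB hCS hKB hG hH hβ hPH hPc hVH hVc htσ htr hVP hqβ (hC0Q.trans hQH)
          (hQq.to_le hC0Q) (asm_comm_of_le hQab hC0Q) hPC0 hVN hVfree hcycC0
    · have hcycQ1 : Cyc H p (⁅Q, R⁆ : Subgroup G) :=
        hCA hG H L ⁅Q, R⁆ hH hL hLH (hQ1Q.trans hQH) (hqQα _ hQ1Q)
          (inf_le_right.trans ((Subgroup.centralizer_le
            (SetLike.coe_subset_coe.mpr hX1Q1)).trans
            ((Subgroup.centralizer_le_normalizer _).trans hNL))) p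
      exact asm_fin hNCPB hCS hKB hG hH hβ hPH hPc hRH hRc hrσ hrk1 hRP hqβ (hQ1Q.trans hQH)
        hQ1q hQ1ab hPQ1 hRQ1 hfree1 hcycQ1
  · by_cases hq1 : PRankLE q 1 H
    · -- Case D: `q ∈ τ₃(H)`
      have hc : z₀ * y₀ * z₀⁻¹ * y₀⁻¹ ∈ ⁅H, H⁆ :=
        Subgroup.commutator_mem_commutator (hRH hz₀) (hQH hy₀)
      have hcQ : z₀ * y₀ * z₀⁻¹ * y₀⁻¹ ∈ Q :=
        Q.mul_mem ((Subgroup.mem_normalizer_iff.mp (hRQ hz₀) y₀).mp hy₀) (Q.inv_mem hy₀)
      have hc1 : z₀ * y₀ * z₀⁻¹ * y₀⁻¹ ≠ 1 := by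
        intro h
        apply hzy
        have h3 : z₀ * y₀ * z₀⁻¹ * y₀⁻¹ * (y₀ * z₀) = y₀ * z₀ := by rw [h, one_mul]
        rw [← h3]
        group
      have hqdvd : q ∣ Nat.card ↥⁅H, H⁆ := by
        obtain ⟨n, hn⟩ := hQq.exists_card_eq
        have h1 : orderOf (z₀ * y₀ * z₀⁻¹ * y₀⁻¹) ∣ q ^ n := by
          rw [← hn]
          exact Subgroup.orderOf_dvd_natCard Q hcQ
        obtain ⟨m, -, hm⟩ := (Nat.dvd_prime_pow hq).mp h1
        have hm0 : m ≠ 0 := by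
          rintro rfl
          rw [pow_zero] at hm
          exact hc1 (orderOf_eq_one_iff.mp hm)
        have h2 : q ∣ orderOf (z₀ * y₀ * z₀⁻¹ * y₀⁻¹) := by
          rw [hm]
          exact dvd_pow_self q hm0
        exact h2.trans (Subgroup.orderOf_dvd_natCard _ hc)
      have hq3 : q ∈ tau3 H := ⟨hq, hqH, hqdvd, hq1⟩
      have hβ : p ∈ beta H :=
        hBetaD hG M H hM hH p hp1 hpH q hqM hq3 P X hPM hPc (hXQ.trans hQσ) (hXQ.trans hQH)
          hXc hPX
      have hQcyc : IsCyclic Q := asm_cyclic_of_prank1 hG hQH hQq hq1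
      have hcopRq : (Nat.card R).Coprime q := by
        rw [hRc]
        exact (Nat.coprime_primes hrp hq).mpr (fun h => hrM (h ▸ hqM))
      have hfree : FreeOn R Q := hCycFree q Q R hQq hQcyc hRprime hcopRq hRQ hRQc
      obtain ⟨L, hL, hNL⟩ := exists_coatom_ge (minSimple_normalizer_ne_top hG hX1 hXtop)
      have hLH : L ≠ H := by
        intro hLH
        rw [hLH] at hNL
        exact (h6_of hG H hH q hqH X hXc hNL).1.2 hq1
      have hQab : IsMulCommutative Q := asm_comm_of_cyclic hQcyc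
      have hcycQ : Cyc H p Q := hCA hG H L Q hH hL hLH hQH (hqQα Q le_rfl)
        (inf_le_right.trans ((Subgroup.centralizer_le
          (SetLike.coe_subset_coe.mpr hXQ)).trans
          ((Subgroup.centralizer_le_normalizer _).trans hNL))) p
      exact asm_fin hNCPB hCS hKB hG hH hβ hPH hPc hRH hRc hrσ hrk1 hRP hqβ hQH hQq hQab hPQ
        hRQ hfree hcycQ
    · exact hNT2 hG M H hM hH hne q hqM ⟨hq, hqH, hq2, hq1⟩ P X hP1
        (pgroup_le_sigmaCore hG hH hpH hPp hPH) hPM (hXQ.trans hQM) (hXQ.trans hQH) hXc hPX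

end Cfsg.Agent.Lib.Helper15.BG13C
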