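import Cfsg.Agent.Lib.Helper15.BG13CNC15
import Cfsg.Agent.Lib.Helper66.EqOrd
import Cfsg.Agent.S1407

/-!
# S1428 piece CS (copy by helper15)
-/

set_option autoImplicit false

open Cfsg Cfsg.Agent.Lib.Helper32 Cfsg.Agent.Lib.Helper32.BG10 Cfsg.Agent.Lib.Helper3.BG12

namespace Cfsg.Agent.Lib.Helper15.BG13C

universe u

variable {G : Type u} [Group G] [Finite G]

theorem cs15 : CSStmt G := by
  intro hG H hH p _ hβ t _ htσ hrk Z hZH hZt T hT hTp
  have htp : t.Prime := Fact.out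
  have hBA : piCoreOf (beta H) H ≤ alphaCore H := by
    unfold piCoreOf alphaCore
    apply Subgroup.map_mono
    unfold piCore
    apply sSup_le_sSup
    intro N hN
    exact ⟨hN.1, fun q hq hqd => (hN.2 q hq hqd).1⟩
  by_cases hα : alphaCore H = ⊥
  · have h1 : T ≤ ⊥ := by rw [← hα]; exact (hT.trans inf_le_left).trans hBA
    have hT' : T = ⊥ := le_bot_iff.mp h1
    rw [hT']
    infer_instance
  have htH : t ∣ Nat.card H := by rw [← hZt]; exact Subgroup.card_dvd_of_le hZH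
  obtain ⟨S⟩ := (inferInstance : Nonempty (Sylow t H))
  obtain ⟨x, hxS, hxo, hZG, -⟩ := Cfsg.Agent.S1407.result hG H hH hα t htH htσ S
  have hS' : ((S : Subgroup H).map H.subtype) ∈ sylSet t H := by
    refine ⟨?_, ?_⟩
    · rintro _ ⟨y, -, rfl⟩; exact y.2
    · rw [← Nat.card_congr
        ((S : Subgroup H).equivMapOfInjective H.subtype H.subtype_injective).toEquiv]
      exact S.card_eq_multiplicity
  have hZp : IsPGroup t Z := IsPGroup.of_card (n := 1) (by rw [hZt, pow_one])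
  obtain ⟨R, hR, hZR⟩ := exists_sylSet_ge hZp hZH
  obtain ⟨n, hn, hnR⟩ := sylSet_conj hS' hR
  have hRc : IsCyclic R := asm_cyclic_of_prank1 hG hR.1 (isPGroup_of_mem_sylSet hR) hrk
  have hxS' : x ∈ (S : Subgroup H).map H.subtype := by
    obtain ⟨y, hy, rfl⟩ := hxS
    obtain ⟨z, hz, rfl⟩ := hy
    exact ⟨z.1, z.2, rfl⟩
  have h1 : cj n (Subgroup.zpowers x) ≤ R := by
    rw [← hnR]
    apply cj_mono
    rw [Subgroup.zpowers_le]
    exact hxS'
  have h2 : Nat.card (cj n (Subgroup.zpowers x)) = Nat.card Z := by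
    rw [card_cj, Nat.card_zpowers, hxo, hZt]
  have hZeq : cj n (Subgroup.zpowers x) = Z :=
    have := hRc
    Cfsg.Agent.Lib.Helper66.eq_of_le_cyclic R h1 hZR h2
  have hnα : n ∈ Subgroup.normalizer ((alphaCore H : Subgroup G) : Set G) :=
    le_normalizer_map_subtype H (piCore (alpha H) ↥H) hn
  have hxZ : n * x * n⁻¹ ∈ Z := by
    rw [← hZeq, mem_cj]
    have : n⁻¹ * (n * x * n⁻¹) * n = x := by group
    rw [this]
    exact Subgroup.mem_zpowers x
  have hTα : cj n⁻¹ T ≤ alphaCore H ⊓ Subgroup.centralizer ({x} : Set G) := by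
    refine le_inf ?_ ?_
    · have h3 := cj_mono n⁻¹ ((hT.trans inf_le_left).trans hBA)
      rwa [cj_eq_self_iff.mpr (Subgroup.inv_mem _ hnα)] at h3
    · intro g hg
      rw [mem_cj] at hg
      have hgc : n⁻¹⁻¹ * g * n⁻¹ ∈ Subgroup.centralizer (Z : Set G) := (hT hg).2
      rw [Subgroup.mem_centralizer_iff] at hgc
      have h4 := hgc _ hxZ
      rw [Subgroup.mem_centralizer_iff]
      intro y hy
      rw [Set.mem_singleton_iff] at hy
      subst hy
      have h5 : n⁻¹ * (n * y * n⁻¹ * (n⁻¹⁻¹ * g * n⁻¹)) * n = y * g := by group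
      have h6 : n⁻¹ * (n⁻¹⁻¹ * g * n⁻¹ * (n * y * n⁻¹)) * n = g * y := by group
      rw [← h5, ← h6, h4]
  have : IsZGroup ↥(alphaCore H ⊓ Subgroup.centralizer ({x} : Set G)) := hZG
  have : IsZGroup ↥(cj n⁻¹ T) :=
    IsZGroup.of_injective (f := Subgroup.inclusion hTα) (Subgroup.inclusion_injective hTα)
  have hTp' : IsPGroup p ↥(cj n⁻¹ T) := isPGroup_cj hTp
  have hc : IsCyclic ↥(cj n⁻¹ T) := by
    have h7 : IsPGroup p ↥(⊤ : Subgroup ↥(cj n⁻¹ T)) := hTp'.to_subgroup _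
    have := IsPGroup.isCyclic_of_isZGroup h7
    exact isCyclic_of_surjective (Subgroup.topEquiv (G := ↥(cj n⁻¹ T))).toMonoidHom
      (Subgroup.topEquiv (G := ↥(cj n⁻¹ T))).surjective
  have hc' : IsCyclic ↥(Subgroup.map (MulAut.conj n⁻¹).toMonoidHom T) := hc
  exact isCyclic_of_surjective
    ((T.equivMapOfInjective (MulAut.conj n⁻¹).toMonoidHom (MulAut.conj n⁻¹).injective).symm).toMonoidHom
    (T.equivMapOfInjective (MulAut.conj n⁻¹).toMonoidHom (MulAut.conj n⁻¹).injective).symm.surjective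

end Cfsg.Agent.Lib.Helper15.BG13C
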