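import Cfsg.Agent.Lib.Helper3.BG13a

/-!
# B&G Corollary 13.3(b) (row S1428): statements of the job pieces (helper15)

Every piece is a `Prop` about a fixed finite group `G`; the pieces prove `theorem xxx : XxxStmt G`
(possibly from other pieces given as hypotheses).  The paper proof is in the job descriptions
(team note "S1428 plan").
-/

set_option autoImplicit false

open Cfsg Cfsg.Agent.Lib.Helper32 Cfsg.Agent.Lib.Helper32.BG10 Cfsg.Agent.Lib.Helper3.BG12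

namespace Cfsg.Agent.Lib.Helper15.BG13C

universe u

/-- `Z` acts freely on `A` (by conjugation) -/
def FreeOn {G : Type u} [Group G] (Z A : Subgroup G) : Prop :=
  ∀ a ∈ A, ∀ z ∈ Z, z ≠ 1 → z * a = a * z → a = 1

/-- every `p`-subgroup of `C_{H_β}(A)` is cyclic -/
def Cyc {G : Type u} [Group G] (H : Subgroup G) (p : ℕ) (A : Subgroup G) : Prop :=
  ∀ T : Subgroup G, T ≤ piCoreOf (beta H) H ⊓ Subgroup.centralizer (A : Set G) → IsPGroup p T →
    IsCyclic T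

variable (G : Type u) [Group G] [Finite G]

/-! ## generic pieces -/

/-- FQ: Frobenius fixed points in an abelian section `T / Z₁` -/
def FQStmt : Prop :=
  ∀ (q : ℕ) [Fact q.Prime] (A T Z₁ : Subgroup G) (z : G),
    IsMulCommutative A → Z₁ ≤ T → T ≤ Subgroup.normalizer (Z₁ : Set G) → ⁅T, T⁆ ≤ Z₁ → ¬ T ≤ Z₁ →
    A ≤ Subgroup.normalizer (T : Set G) → A ≤ Subgroup.normalizer (Z₁ : Set G) →
    z ∈ Subgroup.normalizer (T : Set G) → z ∈ Subgroup.normalizer (Z₁ : Set G) →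
    z ∈ Subgroup.normalizer (A : Set G) → orderOf z = q →
    (∀ a ∈ A, z * a = a * z → a = 1) →
    (Nat.card A).Coprime (Nat.card T) → q.Coprime (Nat.card T) →
    T ⊓ Subgroup.centralizer (A : Set G) ≤ Z₁ →
    ¬ T ⊓ Subgroup.centralizer ({z} : Set G) ≤ Z₁

/-- K: the key lemma -/
def KStmt : Prop :=
  ∀ (p r : ℕ) [Fact p.Prime] [Fact r.Prime] (S A Z P : Subgroup G),
    IsPGroup p S → IsMulCommutative A → (Nat.card A).Coprime p → Nat.card Z = r → r ≠ p →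
    Z ≤ Subgroup.normalizer (A : Set G) → FreeOn Z A →
    A ≤ Subgroup.normalizer (S : Set G) → Z ≤ Subgroup.normalizer (S : Set G) →
    IsCyclic ↥(S ⊓ Subgroup.centralizer (A : Set G)) →
    IsCyclic ↥(S ⊓ Subgroup.centralizer (Z : Set G)) →
    Nat.card P = p → P ≤ S → P ≤ Subgroup.centralizer (A : Set G) →
    P ≤ Subgroup.centralizer (Z : Set G) →
    A ≤ Subgroup.centralizer (S : Set G)

/-- F0: the focal lemma -/
def F0Stmt : Prop :=
  ∀ (p : ℕ) (H B N : Subgroup G), p.Prime → B ≤ H → N ≤ H →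
    H ≤ Subgroup.normalizer (B : Set G) → H ≤ B ⊔ N → (Nat.card B).Coprime p →
    (Nat.card ↥⁅N, N⁆).Coprime p → (Nat.card ↥⁅H, H⁆).Coprime p

/-- PICK: a Sylow subgroup that is not centralized -/
def PickStmt : Prop :=
  ∀ (Y R : Subgroup G), (Nat.card R).Prime → R ≤ Subgroup.normalizer (Y : Set G) →
    (Nat.card R).Coprime (Nat.card Y) → ¬ R ≤ Subgroup.centralizer (Y : Set G) →
    ∃ (q : ℕ) (_ : Fact q.Prime) (Q : Subgroup G), Q ∈ sylSet q Y ∧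
      R ≤ Subgroup.normalizer (Q : Set G) ∧ ¬ R ≤ Subgroup.centralizer (Q : Set G)

/-- CYCFREE: a nontrivial coprime action of a group of prime order on a cyclic `q`-group is free -/
def CycFreeStmt : Prop :=
  ∀ (q : ℕ) [Fact q.Prime] (Q R : Subgroup G), IsPGroup q Q → IsCyclic Q → (Nat.card R).Prime →
    (Nat.card R).Coprime q → R ≤ Subgroup.normalizer (Q : Set G) →
    ¬ R ≤ Subgroup.centralizer (Q : Set G) → FreeOn R Q

/-- COMMFREE: coprime action of a group of prime order on an abelian group -/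
def CommFreeStmt : Prop :=
  ∀ (Q R : Subgroup G), IsMulCommutative Q → (Nat.card R).Prime →
    (Nat.card R).Coprime (Nat.card Q) → R ≤ Subgroup.normalizer (Q : Set G) →
    (R ≤ Subgroup.normalizer ((⁅Q, R⁆ : Subgroup G) : Set G) ∧ ⁅Q, R⁆ ≤ Q ∧ FreeOn R ⁅Q, R⁆ ∧
      (Q ⊓ Subgroup.centralizer (R : Set G)) ⊔ ⁅Q, R⁆ = Q ∧
      (Q ⊓ Subgroup.centralizer (R : Set G)) ⊓ ⁅Q, R⁆ = ⊥ ∧
      (¬ R ≤ Subgroup.centralizer (Q : Set G) → ⁅Q, R⁆ ≠ ⊥))

/-- C0CYC -/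
def C0CycStmt : Prop :=
  IsMinSimpleOddOrder G → ∀ (q : ℕ) [Fact q.Prime] (H Q C₀ Q₁ : Subgroup G), Q ≤ H →
    PRankLE q 2 H → IsPGroup q Q → IsMulCommutative Q → C₀ ≤ Q → Q₁ ≤ Q → C₀ ⊓ Q₁ = ⊥ →
    Q₁ ≠ ⊥ → IsCyclic C₀

/-- BURN: Burnside for an abelian Sylow subgroup -/
def BurnStmt : Prop :=
  IsMinSimpleOddOrder G → ∀ (q : ℕ) [Fact q.Prime] (Q : Subgroup G),
    Q ∈ sylSet q (⊤ : Subgroup G) → IsMulCommutative Q →
    Q ⊓ Subgroup.centralizer ((Subgroup.normalizer (Q : Set G) : Subgroup G) : Set G) = ⊥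

/-! ## pieces on maximal subgroups -/

/-- NCPB -/
def NCPBStmt : Prop :=
  IsMinSimpleOddOrder G → ∀ (H : Subgroup G), IsCoatom H → ∀ (p : ℕ) [Fact p.Prime],
    p ∈ beta H → (¬ Cyc H p ⊥ ∧
      ∀ P : Subgroup G, P ≤ H → IsPGroup p P → P ≤ piCoreOf (beta H) H)

/-- CS -/
def CSStmt : Prop :=
  IsMinSimpleOddOrder G → ∀ (H : Subgroup G), IsCoatom H → ∀ (p : ℕ) [Fact p.Prime],
    p ∈ beta H → ∀ (t : ℕ) [Fact t.Prime], t ∉ sigma H → PRankLE t 1 H →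
    ∀ (Z : Subgroup G), Z ≤ H → Nat.card Z = t → Cyc H p Z

/-- CA -/
def CAStmt : Prop :=
  IsMinSimpleOddOrder G → ∀ (H L A : Subgroup G), IsCoatom H → IsCoatom L → L ≠ H → A ≤ H →
    (∀ ℓ : ℕ, ℓ.Prime → ℓ ∣ Nat.card A → ℓ ∉ alpha H) →
    H ⊓ Subgroup.centralizer (A : Set G) ≤ L → ∀ (p : ℕ) [Fact p.Prime], Cyc H p A

/-- KB -/
def KBStmt : Prop :=
  IsMinSimpleOddOrder G → ∀ (H : Subgroup G), IsCoatom H → ∀ (p : ℕ) [Fact p.Prime],
    p ∈ beta H → ∀ (P A₁ A₂ Z : Subgroup G) (r : ℕ) [Fact r.Prime],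
    P ≤ piCoreOf (beta H) H → Nat.card P = p → A₁ ≤ H → A₂ ≤ H → Z ≤ H → IsMulCommutative A₁ →
    A₁ ≤ Subgroup.centralizer (A₂ : Set G) → Z ≤ Subgroup.centralizer (A₂ : Set G) →
    Nat.card Z = r → Z ≤ Subgroup.normalizer (A₁ : Set G) → FreeOn Z A₁ →
    A₁ ≤ Subgroup.centralizer (P : Set G) → A₂ ≤ Subgroup.centralizer (P : Set G) →
    Z ≤ Subgroup.centralizer (P : Set G) →
    (Nat.card A₁).Coprime (Nat.card (piCoreOf (beta H) H)) →
    (Nat.card A₂).Coprime (Nat.card (piCoreOf (beta H) H)) →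
    r.Coprime (Nat.card (piCoreOf (beta H) H)) →
    Cyc H p (A₁ ⊔ A₂) → Cyc H p Z → Cyc H p A₂

/-- FRAT3 -/
def Frat3Stmt : Prop :=
  IsMinSimpleOddOrder G → ∀ (H : Subgroup G), IsCoatom H → ∀ (q : ℕ) [Fact q.Prime],
    q ∉ beta H → ∀ T : Subgroup G, T ∈ sylSet q ⁅H, H⁆ →
    H ≤ piCoreOf (beta H) H ⊔ (H ⊓ Subgroup.normalizer (T : Set G))

/-- BETA-A -/
def BetaAStmt : Prop :=
  IsMinSimpleOddOrder G → ∀ (M H : Subgroup G), IsCoatom M → IsCoatom H →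
    ∀ (p : ℕ) [Fact p.Prime], p ∈ tau1 M → p ∈ sigma H →
    ∀ (q : ℕ) [Fact q.Prime], q ∈ sigma M → q ∈ sigma H → p ∈ beta H

/-- BETA-D -/
def BetaDStmt : Prop :=
  IsMinSimpleOddOrder G → ∀ (M H : Subgroup G), IsCoatom M → IsCoatom H →
    ∀ (p : ℕ) [Fact p.Prime], p ∈ tau1 M → p ∈ sigma H →
    ∀ (q : ℕ) [Fact q.Prime], q ∈ sigma M → q ∈ tau3 H → ∀ (P X : Subgroup G), P ≤ M →
    Nat.card P = p → X ≤ sigmaCore M → X ≤ H → Nat.card X = q →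
    P ≤ Subgroup.centralizer (X : Set G) → p ∈ beta H

/-- NT2 -/
def NT2Stmt : Prop :=
  IsMinSimpleOddOrder G → ∀ (M H : Subgroup G), IsCoatom M → IsCoatom H → M ≠ H →
    ∀ (q : ℕ) [Fact q.Prime], q ∈ sigma M → q ∈ tau2 H → ∀ (P X : Subgroup G), P ≠ ⊥ →
    P ≤ sigmaCore H → P ≤ M → X ≤ M → X ≤ H → Nat.card X = q →
    P ≤ Subgroup.centralizer (X : Set G) → False

/-- G1a -/
def G1aStmt : Prop :=
  IsMinSimpleOddOrder G → ∀ (H : Subgroup G), IsCoatom H → ∀ (q : ℕ) [Fact q.Prime],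
    q ∈ sigma H → q ∉ beta H → ∀ Q : Subgroup G, Q ∈ sylSet q H → IsMulCommutative Q →
    Subgroup.normalizer (Q : Set G) ⊓ ⁅H, H⁆ ≤ Subgroup.centralizer (Q : Set G)

/-- G1b -/
def G1bStmt : Prop :=
  IsMinSimpleOddOrder G → ∀ (M H : Subgroup G), IsCoatom M → IsCoatom H →
    ∀ (p : ℕ) [Fact p.Prime], p ∈ tau1 M → ∀ (P Q : Subgroup G), Nat.card P = p →
    P ≤ piCoreOf (beta H) H → P ≤ Subgroup.centralizer (Q : Set G) →
    Subgroup.normalizer (Q : Set G) ≤ M → Subgroup.normalizer (Q : Set G) ≤ H → Cyc H p Q →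
    Subgroup.normalizer (Q : Set G) ≤
      (piCoreOf (beta H) H ⊓ Subgroup.centralizer (Q : Set G)) ⊔
        (Subgroup.normalizer (Q : Set G) ⊓ Subgroup.centralizer (P : Set G))

/-- G1c -/
def G1cStmt : Prop :=
  IsMinSimpleOddOrder G → ∀ (M H : Subgroup G), IsCoatom M → IsCoatom H →
    (∀ g : G, M ≠ cj g H) → ∀ (q : ℕ) [Fact q.Prime], q ∈ sigma M → q ∈ sigma H →
    ∀ (P Q R : Subgroup G), Q ∈ sylSet q (⊤ : Subgroup G) → IsMulCommutative Q →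
    Subgroup.normalizer (Q : Set G) ≤ H → (Nat.card R).Prime →
    R ≤ Subgroup.normalizer (Q : Set G) →
    Q ⊓ Subgroup.centralizer (R : Set G) ≠ ⊥ →
    IsCyclic ↥(Q ⊓ Subgroup.centralizer (R : Set G)) →
    Subgroup.normalizer (Q : Set G) ⊓ ⁅H, H⁆ ≤ Subgroup.centralizer (Q : Set G) →
    Q ⊓ Subgroup.centralizer ((Subgroup.normalizer (Q : Set G) : Subgroup G) : Set G) = ⊥ →
    Subgroup.normalizer (Q : Set G) ≤
      (piCoreOf (beta H) H ⊓ Subgroup.centralizer (Q : Set G)) ⊔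
        (Subgroup.normalizer (Q : Set G) ⊓ Subgroup.centralizer (P : Set G)) →
    ∃ (t : ℕ) (_ : Fact t.Prime) (V : Subgroup G), V ≤ H ∧ Nat.card V = t ∧ t ∉ sigma H ∧
      PRankLE t 1 H ∧ V ≤ Subgroup.centralizer (P : Set G) ∧
      V ≤ Subgroup.normalizer ((Q ⊓ Subgroup.centralizer (R : Set G) : Subgroup G) : Set G) ∧
      FreeOn V (Q ⊓ Subgroup.centralizer (R : Set G))

/-! ## the crux and the reduction -/

/-- the crux -/
def CruxStmt : Prop :=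
  IsMinSimpleOddOrder G → ∀ (M H : Subgroup G), IsCoatom M → IsCoatom H →
    ∀ (p : ℕ) [Fact p.Prime], p ∈ tau1 M → p ∈ sigma H → ∀ P : Subgroup G, P ≤ M → P ≤ H →
    Nat.card P = p → ∀ (r : ℕ) [Fact r.Prime] (R : Subgroup G), R ≤ M → R ≤ H →
    R ≤ Subgroup.centralizer (P : Set G) → Nat.card R = r → r ∉ sigma M → r ∈ tau1 H →
    R ≤ Subgroup.centralizer ((sigmaCore M ⊓ H : Subgroup G) : Set G)

/-- RED1 -/
def Red1Stmt : Prop :=
  IsMinSimpleOddOrder G → ∀ (M H : Subgroup G), IsCoatom M → IsCoatom H →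
    ∀ (p : ℕ) [Fact p.Prime], p ∈ tau1 M → p ∈ sigma H → ∀ P : Subgroup G, P ≤ M → P ≤ H →
    Nat.card P = p → ∀ (r : ℕ) [Fact r.Prime] (R : Subgroup G), R ≤ M → R ≤ H →
    R ≤ Subgroup.centralizer (P : Set G) → Nat.card R = r → r ∉ sigma M →
    ∀ Y : Subgroup G, Y ≤ sigmaCore M → Y ≤ H → R ≤ Subgroup.normalizer (Y : Set G) →
    R ≤ Subgroup.centralizer (Y : Set G)

/-- the row S1428 -/
def RowStmt : Prop :=
  IsMinSimpleOddOrder G → ∀ (M : Subgroup G), IsCoatom M → ∀ (E : Subgroup G),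
    IsComplIn E (sigmaCore M) M → ∀ (p : ℕ), p ∈ tau1 M → ∀ (P : Subgroup G), P ≤ E →
    Nat.card P = p → ∀ (R : Subgroup G), R ≤ E ⊓ Subgroup.centralizer (P : Set G) →
    (Nat.card R).Prime →
    sigmaCore M ⊓ Subgroup.centralizer (P : Set G) ≤
      sigmaCore M ⊓ Subgroup.centralizer (R : Set G)

end Cfsg.Agent.Lib.Helper15.BG13C
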