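import Cfsg.Agent.Lib.Helper15.BG13CDefs

/-!
# B&G Corollary 13.3(b) (row S1428): one more piece statement (helper15)
-/

set_option autoImplicit false

open Cfsg Cfsg.Agent.Lib.Helper32 Cfsg.Agent.Lib.Helper32.BG10 Cfsg.Agent.Lib.Helper3.BG12

namespace Cfsg.Agent.Lib.Helper15.BG13C

universe u

variable (G : Type u) [Group G] [Finite G]

/-- GAM: the Sylow transfer in the last case -/
def GamStmt : Prop :=
  IsMinSimpleOddOrder G → ∀ (M H : Subgroup G), IsCoatom M → IsCoatom H → M ≠ H →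
    ∀ (q : ℕ) [Fact q.Prime], q ∈ sigma M → q ∈ sigma H → ∀ (Q X : Subgroup G),
    Q ∈ sylSet q (sigmaCore M ⊓ H) → X ≤ Q → X ≠ ⊥ → Subgroup.normalizer (X : Set G) ≤ H →
    (Q ∈ sylSet q (⊤ : Subgroup G) ∧ Subgroup.normalizer (Q : Set G) ≤ M ∧
      Subgroup.normalizer (Q : Set G) ≤ H)

end Cfsg.Agent.Lib.Helper15.BG13C
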