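import Cfsg.Agent.Lib.Helper15.BG13CAsm
import Cfsg.Agent.Lib.Helper78.BG12P16D

/-!
# S1428 piece NCPB (backup copy by helper15)
-/

set_option autoImplicit false

open Cfsg Cfsg.Agent.Lib.Helper32 Cfsg.Agent.Lib.Helper32.BG10 Cfsg.Agent.Lib.Helper3.BG12

namespace Cfsg.Agent.Lib.Helper15.BG13C

universe u

variable {G : Type u} [Group G] [Finite G]

theorem ncpb15 : NCPBStmt G := by
  intro hG H hH p _ hβ
  have hpp : p.Prime := Fact.out
  have h14 : H14 G := fun M hM => Cfsg.Agent.S1414.result hG M hM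
  obtain ⟨hBhall, -⟩ := h14 H hH
  have hBH : piCoreOf (beta H) H ≤ H := hBhall.1
  have hnd : ¬ p ∣ (piCoreOf (beta H) H).relIndex H := hBhall.2.2 p hpp hβ
  have hHB : H ≤ Subgroup.normalizer ((piCoreOf (beta H) H : Subgroup G) : Set G) :=
    le_normalizer_map_subtype H (piCore (beta H) ↥H)
  obtain ⟨T, hT⟩ := sylSet_nonempty p (piCoreOf (beta H) H)
  have hTH : T ∈ sylSet p H := Cfsg.Agent.Lib.Helper78.BG12.sylSet_of_not_dvd hBH hnd hT
  refine ⟨?_, ?_⟩
  · intro hcyc
    have hTc : IsCyclic T :=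
      hcyc T (le_inf hT.1 (asm_le_centralizer_bot T)) (isPGroup_of_mem_sylSet hT)
    have h1 : PRankLE p 1 ↥T := by
      intro A _ hAp
      haveI : IsCyclic ↥A := Subgroup.isCyclic A
      have hexp : Monoid.exponent ↥A ∣ p := by
        apply Monoid.exponent_dvd_of_forall_pow_eq_one
        intro a
        exact Subtype.ext (hAp a.1 a.2)
      rw [IsCyclic.exponent_eq_card] at hexp
      rw [pow_one]
      exact Nat.le_of_dvd hpp.pos hexp
    have h2 : PRankLE p 1 ↥H := prankLE_of_sylSet hTH 1 h1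
    exact hβ.1.2 (fun A hA hAp =>
      (h2 A hA hAp).trans (Nat.pow_le_pow_right hpp.pos (by norm_num)))
  · intro P hPH hPp
    obtain ⟨S, hS, hPS⟩ := exists_sylSet_ge hPp hPH
    obtain ⟨n, hn, hnS⟩ := sylSet_conj hTH hS
    have hSB : S ≤ piCoreOf (beta H) H := by
      rw [← hnS]
      have h3 := cj_mono n hT.1
      rwa [cj_eq_self_iff.mpr (hHB hn)] at h3
    exact hPS.trans hSB

end Cfsg.Agent.Lib.Helper15.BG13C
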