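import Cfsg.Agent.Lib.Helper3.BG12f
import Cfsg.Agent.Lib.Helper3.BG13a
import Cfsg.Agent.Lib.Helper15.BG13a
import Cfsg.Agent.Lib.Helper32.TypeP
import Cfsg.Agent.Lib.Helper34.Rank2d

/-!
# B&G: the rows S1358 and S1361 (helper15)

For a standard factorisation `M = K U M_σ`: the Sylow subgroups of `U` are abelian of rank at
most two (`h58_of`, from B&G 12.5 = S1417), and `M` is the only maximal subgroup containing
`C_G(X)` for `1 ≠ X ≤ U` with `C_{M_σ}(X) ≠ 1` (`h61_of`, from S1417 and B&G 12.6 = S1418).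
-/

set_option autoImplicit false

open Cfsg Cfsg.Agent.Lib.Helper32 Cfsg.Agent.Lib.Helper32.BG10 Cfsg.Agent.Lib.Helper3.BG12

namespace Cfsg.Agent.Lib.Helper15.BG14

universe u

/-- S1358 -/
def H58 (G : Type u) [Group G] : Prop :=
  ∀ (M : Subgroup G), IsCoatom M → ∀ (K U : Subgroup G), Cfsg.IsSigmaDecomposition M K U →
    ∀ (p : ℕ), p.Prime → ∀ P : Sylow p U,
      IsMulCommutative (P : Subgroup U) ∧ Cfsg.PRankLE p 2 (P : Subgroup U)

/-- S1361 -/
def H61 (G : Type u) [Group G] : Prop :=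
  ∀ (M : Subgroup G), IsCoatom M → ∀ (K U : Subgroup G), Cfsg.IsSigmaDecomposition M K U →
    ∀ (X : Subgroup G), X ≤ U → X ≠ ⊥ →
    Cfsg.sigmaCore M ⊓ Subgroup.centralizer (X : Set G) ≠ ⊥ →
    Subgroup.centralizer (X : Set G) ≤ M ∧
      ∀ L : Subgroup G, IsCoatom L → Subgroup.centralizer (X : Set G) ≤ L → L = M

variable {G : Type u} [Group G] [Finite G]

/-- `p`-subgroups of `U` are trivial for `p ∈ σ(M)` -/
theorem u_pgroup_bot (hG : IsMinSimpleOddOrder G) {M K U : Subgroup G} (hM : IsCoatom M)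
    (hKU : IsSigmaDecomposition M K U) {p : ℕ} [Fact p.Prime] (hp : p ∈ sigma M) {R : Subgroup G}
    (hR : IsPGroup p R) (hRU : R ≤ U) : R = ⊥ := by
  obtain ⟨hUM, -, hd, -⟩ := hKU.compl
  have h1 : R ≤ sigmaCore M :=
    Cfsg.Agent.Lib.Helper32.BG12.pgroup_le_sigmaCore hG hM hp hR (hRU.trans hUM)
  rw [eq_bot_iff, ← hd]
  exact le_inf hRU (h1.trans le_sup_right)

/-- the primes of `U` are not in `σ(M)` -/
theorem u_not_sigma (hG : IsMinSimpleOddOrder G) {M K U : Subgroup G} (hM : IsCoatom M)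
    (hKU : IsSigmaDecomposition M K U) {r : ℕ} (hr : r.Prime) (hrU : r ∣ Nat.card U) :
    r ∉ sigma M := by
  intro hσ
  haveI : Fact r.Prime := ⟨hr⟩
  obtain ⟨x, hx⟩ := exists_prime_orderOf_dvd_card' (G := ↥U) r hrU
  have hx' : orderOf (x : G) = r := by rw [Subgroup.orderOf_coe]; exact hx
  have hR : IsPGroup r (Subgroup.zpowers (x : G)) :=
    IsPGroup.of_card (n := 1) (by rw [Nat.card_zpowers, hx', pow_one])
  have hRU : Subgroup.zpowers (x : G) ≤ U := by rw [Subgroup.zpowers_le]; exact x.2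
  have h0 := u_pgroup_bot hG hM hKU hσ hR hRU
  rw [Subgroup.zpowers_eq_bot] at h0
  rw [h0, orderOf_one] at hx'
  exact hr.one_lt.ne hx'

/-- `|U|` is prime to `|M_σ|` -/
theorem u_coprime (hG : IsMinSimpleOddOrder G) {M K U : Subgroup G} (hM : IsCoatom M)
    (hKU : IsSigmaDecomposition M K U) : (Nat.card U).Coprime (Nat.card (sigmaCore M)) := by
  by_contra h
  obtain ⟨q, hq, hqU, hqS⟩ := Nat.Prime.not_coprime_iff_dvd.mp h
  exact u_not_sigma hG hM hKU hq hqU
    (Cfsg.Agent.Lib.Helper32.BG12.mem_sigma_of_dvd_sigmaCore hq hqS)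

/-- the primes of `U` are not in `κ(M)` -/
theorem u_not_kappa {M K U : Subgroup G} (hKU : IsSigmaDecomposition M K U) {r : ℕ}
    (hr : r.Prime) (hrU : r ∣ Nat.card U) : r ∉ kappa M := by
  intro hk
  apply hKU.hall.2.2 r hr hk
  have hc := card_of_isComplIn hKU.compl
  have hKM : K ≤ M := hKU.hall.1
  have h2 : Nat.card K * K.relIndex M = Nat.card M := card_mul_relIndex_of_le hKM
  obtain ⟨c, hc3⟩ : Nat.card K ∣ Nat.card (K ⊔ sigmaCore M : Subgroup G) :=
    Subgroup.card_dvd_of_le le_sup_left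
  have h4 : K.relIndex M = Nat.card U * c := by
    have hpos : 0 < Nat.card K := Nat.card_pos
    apply Nat.eq_of_mul_eq_mul_left hpos
    rw [h2, hc, hc3]
    ring
  rw [h4]
  exact hrU.trans (dvd_mul_right _ _)

/-- the primes of a subgroup of `U` with a fixed point on `M_σ` are in `τ₂(M)` -/
theorem u_tau2 (hG : IsMinSimpleOddOrder G) {M K U : Subgroup G} (hM : IsCoatom M)
    (hKU : IsSigmaDecomposition M K U) {X : Subgroup G} (hXU : X ≤ U)
    (hXc : sigmaCore M ⊓ Subgroup.centralizer (X : Set G) ≠ ⊥) {r : ℕ} (hr : r.Prime)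
    (hrX : r ∣ Nat.card X) : r ∈ tau2 M := by
  haveI : Fact r.Prime := ⟨hr⟩
  obtain ⟨hUM, -, hd, -⟩ := hKU.compl
  have hrU : r ∣ Nat.card U := hrX.trans (Subgroup.card_dvd_of_le hXU)
  have hrM : r ∣ Nat.card M := hrU.trans (Subgroup.card_dvd_of_le hUM)
  have hrσ := u_not_sigma hG hM hKU hr hrU
  have h2 : PRankLE r 2 ↥M := by
    by_contra h
    exact hrσ (alpha_sub_sigma hG (ut_of hG) hM ⟨hr, h⟩)
  refine ⟨hr, hrσ, h2, fun h1 => ?_⟩
  apply u_not_kappa hKU hr hrU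
  have hr2 : r ≠ 2 := by
    rintro rfl
    exact (Nat.not_even_iff_odd.mpr (minSimple_odd_sub hG M)) (even_iff_two_dvd.mpr hrM)
  obtain ⟨x, hx⟩ := exists_prime_orderOf_dvd_card' (G := ↥X) r hrX
  have hxr : orderOf (x : G) = r := by rw [Subgroup.orderOf_coe]; exact hx
  have hx1 : (x : G) ≠ 1 := by
    intro h
    rw [h, orderOf_one] at hxr
    exact hr.one_lt.ne hxr
  obtain ⟨y, hy, hy1⟩ : ∃ y ∈ sigmaCore M ⊓ Subgroup.centralizer (X : Set G), y ≠ 1 := by
    by_contra hcon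
    push Not at hcon
    exact hXc ((Subgroup.eq_bot_iff_forall _).mpr hcon)
  have hxy : (x : G) * y = y * x := Subgroup.mem_centralizer_iff.mp hy.2 (x : G) x.2
  have hxM : (x : G) ∈ M := hUM (hXU x.2)
  refine ⟨hr, hrM, hrσ, fun P => ?_⟩
  have hPs : (P : Subgroup M).map M.subtype ∈ sylSet r M := mem_sylSet_of_sylow P
  have hPc : IsCyclic ↥((P : Subgroup M).map M.subtype) :=
    Cfsg.Agent.Lib.Helper15.BG13.cyclic_of_prankLE_one hr2 h1 (isPGroup_of_mem_sylSet hPs) hPs.1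
  have hPc' : IsCyclic ↥(P : Subgroup M) :=
    isCyclic_of_surjective
      ((P : Subgroup M).equivMapOfInjective M.subtype M.subtype_injective).symm.toMonoidHom
      ((P : Subgroup M).equivMapOfInjective M.subtype M.subtype_injective).symm.surjective
  refine ⟨hPc', ?_⟩
  have hZ : IsPGroup r (Subgroup.zpowers (x : G)) :=
    IsPGroup.of_card (n := 1) (by rw [Nat.card_zpowers, hxr, pow_one])
  obtain ⟨R, hR, hZR⟩ := exists_sylSet_ge hZ
    (show Subgroup.zpowers (x : G) ≤ M by rw [Subgroup.zpowers_le]; exact hxM)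
  obtain ⟨n, hnM, hn⟩ := sylSet_conj hR hPs
  have hmem : n * (x : G) * n⁻¹ ∈ (P : Subgroup M).map M.subtype := by
    rw [← hn, mem_cj]
    have e : n⁻¹ * (n * (x : G) * n⁻¹) * n = x := by group
    rw [e]
    exact hZR (Subgroup.mem_zpowers _)
  obtain ⟨z, hzP, hz⟩ := hmem
  have hz' : (z : G) = n * (x : G) * n⁻¹ := hz
  have hnn : n ∈ Subgroup.normalizer ((sigmaCore M : Subgroup G) : Set G) :=
    le_normalizer_map_subtype M _ hnM
  refine ⟨z, hzP, ?_, n * y * n⁻¹, (Subgroup.mem_normalizer_iff.mp hnn y).mp hy.1, ?_, ?_⟩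
  · intro h
    apply hx1
    have h2 : (z : G) = 1 := by rw [h]; rfl
    rw [hz'] at h2
    have e : (x : G) = n⁻¹ * (n * (x : G) * n⁻¹) * n := by group
    rw [e, h2]
    group
  · intro h
    apply hy1
    have e : y = n⁻¹ * (n * y * n⁻¹) * n := by group
    rw [e, h]
    group
  · rw [hz']
    have e1 : n * (x : G) * n⁻¹ * (n * y * n⁻¹) = n * ((x : G) * y) * n⁻¹ := by group
    have e2 : n * y * n⁻¹ * (n * (x : G) * n⁻¹) = n * (y * (x : G)) * n⁻¹ := by group
    rw [e1, e2, hxy]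

/-- S1358 from S1417 -/
theorem h58_of (hG : IsMinSimpleOddOrder G) (h17 : H17 G) : H58 G := by
  intro M hM K U hKU p hp P
  haveI : Fact p.Prime := ⟨hp⟩
  obtain ⟨hUM, -, hd, -⟩ := hKU.compl
  have hPp : IsPGroup p ((P : Subgroup U).map U.subtype) := P.isPGroup'.map _
  have hPU : (P : Subgroup U).map U.subtype ≤ U := Subgroup.map_subtype_le _
  by_cases hσ : p ∈ sigma M
  · have h0 := u_pgroup_bot hG hM hKU hσ hPp hPU
    have hsub : ∀ a : ↥(P : Subgroup U), a = 1 := by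
      intro a
      have h1 : ((a : U) : G) ∈ (P : Subgroup U).map U.subtype := ⟨a, a.2, rfl⟩
      rw [h0, Subgroup.mem_bot] at h1
      exact Subtype.ext (Subtype.ext h1)
    refine ⟨⟨⟨fun a b => by rw [hsub a, hsub b]⟩⟩, ?_⟩
    intro A _ _
    have h1 : Nat.card A = 1 := by
      rw [Subgroup.card_eq_one, Subgroup.eq_bot_iff_forall]
      intro a _
      exact hsub a
    rw [h1]
    exact Nat.one_le_pow _ _ hp.pos
  · have hc : IsMulCommutative ↥((P : Subgroup U).map U.subtype) :=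
      Cfsg.Agent.Lib.Helper3.BG12T.pgroup_comm_of_not_sigma hG h17 hM hσ hPp (hPU.trans hUM)
    constructor
    · refine ⟨⟨fun a b => ?_⟩⟩
      apply ((P : Subgroup U).equivMapOfInjective U.subtype U.subtype_injective).injective
      rw [map_mul, map_mul]
      exact hc.is_comm.comm _ _
    · have h2 : PRankLE p 2 ↥M := by
        by_contra h
        exact hσ (alpha_sub_sigma hG (ut_of hG) hM ⟨hp, h⟩)
      exact Cfsg.Agent.Lib.Helper34.prankLE_of_injective p 2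
        ((Subgroup.inclusion hUM).comp (P : Subgroup U).subtype)
        ((Subgroup.inclusion_injective hUM).comp (Subgroup.subtype_injective _)) h2

/-- S1361 from S1417 and S1418 -/
theorem h61_of (hG : IsMinSimpleOddOrder G) (h17 : H17 G) (h18 : H18 G) : H61 G := by
  intro M hM K U hKU X hXU hX1 hXc
  obtain ⟨hUM, -, hd, -⟩ := hKU.compl
  obtain ⟨E₁, hE₁, hUE⟩ :=
    Cfsg.Agent.Lib.Helper3.BG13T.exists_compl_ge hG hM hUM (u_coprime hG hM hKU)
  have hXE : X ≤ E₁ := hXU.trans hUE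
  have hcard1 : Nat.card X ≠ 1 := fun h => hX1 (Subgroup.card_eq_one.mp h)
  have hpp : (Nat.card X).minFac.Prime := Nat.minFac_prime hcard1
  haveI : Fact (Nat.card X).minFac.Prime := ⟨hpp⟩
  have hpd : (Nat.card X).minFac ∣ Nat.card X := Nat.minFac_dvd _
  have hpτ : (Nat.card X).minFac ∈ tau2 M := u_tau2 hG hM hKU hXU hXc hpp hpd
  have hoddX : Odd (Nat.card X) := minSimple_odd_sub hG X
  have hp2 : (Nat.card X).minFac ≠ 2 := by
    intro h
    rw [h] at hpd
    exact (Nat.not_even_iff_odd.mpr hoddX) (even_iff_two_dvd.mpr hpd)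
  obtain ⟨A, hAE, hAel, hAc⟩ := Cfsg.Agent.Lib.Helper3.BG12T.exists_tau2_elemAb hG hM hE₁ hpτ
  have hAM : A ≤ M := hAE.trans hE₁.1
  have hEA := (h18 M hM E₁ hE₁ _ hpτ A ⟨hAE, hAel, hAc⟩).1.1
  have hXA : ∀ x ∈ X, x ∈ Subgroup.centralizer (A : Set G) := by
    intro x hx
    have hxE : x ∈ E₁ := hXE hx
    have hox : orderOf x ∣ Nat.card X := by
      have h1 := orderOf_dvd_natCard (⟨x, hx⟩ : ↥X)
      rwa [Subgroup.orderOf_mk] at h1
    have hodd : Odd (orderOf x) := Odd.of_dvd_nat hoddX hox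
    refine Cfsg.Agent.Lib.Helper3.BG12T.mem_centralizer_of_minFac hp2 hAc (hEA hxE) hodd
      (fun r hr hrd => Nat.minFac_le_of_dvd hr.two_le (hrd.trans hox)) ?_
    intro y hy hyp
    have hyE : y ∈ E₁ := by
      obtain ⟨k, rfl⟩ := Subgroup.mem_zpowers_iff.mp hy
      exact E₁.zpow_mem hxE k
    exact Cfsg.Agent.Lib.Helper3.BG12T.pelt_centralizes h17 hM hE₁.1 hpτ ⟨hAE, hAel, hAc⟩ hEA
      hyE hyp
  obtain ⟨-, -, -, -, he, -⟩ := h17 M hM _ hpτ A ⟨hAM, hAel, hAc⟩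
  obtain ⟨x₀, hx₀, hx₀1⟩ : ∃ x ∈ X, x ≠ 1 := by
    by_contra hcon
    push Not at hcon
    exact hX1 ((Subgroup.eq_bot_iff_forall _).mpr hcon)
  refine Cfsg.Agent.Lib.Helper3.BG12.cent_uniq_of_inf_ne_bot hG ⟨x₀, hx₀, hx₀1⟩ ?_ hXc he
  intro a ha
  rw [Subgroup.mem_centralizer_iff]
  intro z hz
  exact ((Subgroup.mem_centralizer_iff.mp (hXA z hz)) a ha).symm

end Cfsg.Agent.Lib.Helper15.BG14
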