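import Cfsg.Agent.Lib.Helper15.BG14a
import Cfsg.Agent.Lib.Helper12.Subnormal
import Cfsg.Agent.Lib.Helper3.BG11Om

/-!
# B&G: the row S1362 (helper15)

For a standard factorisation `M = K U M_σ`, the set `A(M) ∖ M_σ` is a TI-subset of `G`
(`h62_of`, from S1417 and S1420(d)).
-/

set_option autoImplicit false

open Cfsg Cfsg.Agent.Lib.Helper32 Cfsg.Agent.Lib.Helper32.BG10 Cfsg.Agent.Lib.Helper3.BG12

namespace Cfsg.Agent.Lib.Helper15.BG14

universe u

/-- S1362 -/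
def H62 (G : Type u) [Group G] : Prop :=
  ∀ (M : Subgroup G), IsCoatom M → ∀ (K U : Subgroup G), Cfsg.IsSigmaDecomposition M K U →
    Cfsg.IsTISubset (Cfsg.sigmaA M U \ (Cfsg.sigmaCore M : Set G))

variable {G : Type u} [Group G] [Finite G]

omit [Finite G] in
/-- `U M_σ` is normal in `M` -/
theorem u_sup_normal {M K U : Subgroup G} (hKU : IsSigmaDecomposition M K U) :
    M ≤ Subgroup.normalizer ((U ⊔ sigmaCore M : Subgroup G) : Set G) := by
  obtain ⟨hUM, -, hd, hdec⟩ := hKU.compl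
  have hσn : M ≤ Subgroup.normalizer ((sigmaCore M : Subgroup G) : Set G) :=
    le_normalizer_map_subtype M _
  have hKM : K ≤ M := hKU.hall.1
  have h1 : U ≤ Subgroup.normalizer ((U ⊔ sigmaCore M : Subgroup G) : Set G) :=
    le_sup_left.trans Subgroup.le_normalizer
  have h2 : sigmaCore M ≤ Subgroup.normalizer ((U ⊔ sigmaCore M : Subgroup G) : Set G) :=
    le_sup_right.trans Subgroup.le_normalizer
  have h3 : K ≤ Subgroup.normalizer ((U ⊔ sigmaCore M : Subgroup G) : Set G) :=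
    Cfsg.Agent.Lib.Helper12.le_normalizer_sup hKU.normal (hKM.trans hσn)
  intro m hm
  obtain ⟨a, ha, b, hb, rfl⟩ := hdec m hm
  exact Subgroup.mul_mem _ (h1 ha) ((sup_le h3 h2) hb)

/-- `|U M_σ| = |U| |M_σ|` -/
theorem card_u_sup {M K U : Subgroup G} (hKU : IsSigmaDecomposition M K U) :
    Nat.card (U ⊔ sigmaCore M : Subgroup G) = Nat.card U * Nat.card (sigmaCore M) := by
  obtain ⟨hUM, -, hd, -⟩ := hKU.compl
  have hσn : M ≤ Subgroup.normalizer ((sigmaCore M : Subgroup G) : Set G) :=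
    le_normalizer_map_subtype M _
  apply card_of_isComplIn
  refine ⟨le_sup_left, le_sup_right, ?_, ?_⟩
  · rw [eq_bot_iff, ← hd]
    exact inf_le_inf_left U le_sup_right
  · intro m hm
    exact mem_sup_of_le_normalizer (hUM.trans hσn) hm

/-- an element of prime order `r ∉ σ(M) ∪ κ(M)` of `M` with a fixed point on `M_σ`:
`r ∈ τ₂(M)` -/
theorem tau2_of_fixed (hG : IsMinSimpleOddOrder G) {M : Subgroup G} (hM : IsCoatom M) {r : ℕ}
    (hr : r.Prime) (hrσ : r ∉ sigma M) (hrκ : r ∉ kappa M) {w y : G} (hwM : w ∈ M)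
    (hw : orderOf w = r) (hy : y ∈ sigmaCore M) (hy1 : y ≠ 1) (hwy : w * y = y * w) :
    r ∈ tau2 M := by
  haveI : Fact r.Prime := ⟨hr⟩
  have hrM : r ∣ Nat.card M := by
    have h1 := orderOf_dvd_natCard (⟨w, hwM⟩ : ↥M)
    rwa [Subgroup.orderOf_mk, hw] at h1
  have h2 : PRankLE r 2 ↥M := by
    by_contra h
    exact hrσ (alpha_sub_sigma hG (ut_of hG) hM ⟨hr, h⟩)
  refine ⟨hr, hrσ, h2, fun h1 => ?_⟩
  apply hrκ
  have hr2 : r ≠ 2 := by
    rintro rfl
    exact (Nat.not_even_iff_odd.mpr (minSimple_odd_sub hG M)) (even_iff_two_dvd.mpr hrM)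
  have hw1 : w ≠ 1 := by
    intro h
    rw [h, orderOf_one] at hw
    exact hr.one_lt.ne hw
  refine ⟨hr, hrM, hrσ, fun P => ?_⟩
  have hPs : (P : Subgroup M).map M.subtype ∈ sylSet r M := mem_sylSet_of_sylow P
  have hPc : IsCyclic ↥((P : Subgroup M).map M.subtype) :=
    Cfsg.Agent.Lib.Helper15.BG13.cyclic_of_prankLE_one hr2 h1 (isPGroup_of_mem_sylSet hPs) hPs.1
  have hPc' : IsCyclic ↥(P : Subgroup M) :=
    isCyclic_of_surjective
      ((P : Subgroup M).equivMapOfInjective M.subtype M.subtype_injective).symm.toMonoidHom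
      ((P : Subgroup M).equivMapOfInjective M.subtype M.subtype_injective).symm.surjective
  refine ⟨hPc', ?_⟩
  have hZ : IsPGroup r (Subgroup.zpowers w) :=
    IsPGroup.of_card (n := 1) (by rw [Nat.card_zpowers, hw, pow_one])
  obtain ⟨R, hR, hZR⟩ := exists_sylSet_ge hZ
    (show Subgroup.zpowers w ≤ M by rw [Subgroup.zpowers_le]; exact hwM)
  obtain ⟨n, hnM, hn⟩ := sylSet_conj hR hPs
  have hmem : n * w * n⁻¹ ∈ (P : Subgroup M).map M.subtype := by
    rw [← hn, mem_cj]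
    have e : n⁻¹ * (n * w * n⁻¹) * n = w := by group
    rw [e]
    exact hZR (Subgroup.mem_zpowers _)
  obtain ⟨z, hzP, hz⟩ := hmem
  have hz' : (z : G) = n * w * n⁻¹ := hz
  have hnn : n ∈ Subgroup.normalizer ((sigmaCore M : Subgroup G) : Set G) :=
    le_normalizer_map_subtype M _ hnM
  refine ⟨z, hzP, ?_, n * y * n⁻¹, (Subgroup.mem_normalizer_iff.mp hnn y).mp hy, ?_, ?_⟩
  · intro h
    apply hw1
    have h2 : (z : G) = 1 := by rw [h]; rfl
    rw [hz'] at h2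
    have e : w = n⁻¹ * (n * w * n⁻¹) * n := by group
    rw [e, h2]
    group
  · intro h
    apply hy1
    have e : y = n⁻¹ * (n * y * n⁻¹) * n := by group
    rw [e, h]
    group
  · rw [hz']
    have e1 : n * w * n⁻¹ * (n * y * n⁻¹) = n * (w * y) * n⁻¹ := by group
    have e2 : n * y * n⁻¹ * (n * w * n⁻¹) = n * (y * w) * n⁻¹ := by group
    rw [e1, e2, hwy]

/-- an element of `A(M) ∖ M_σ` has a power of prime order `r ∈ τ₂(M)` -/
theorem exists_tau2_elt (hG : IsMinSimpleOddOrder G) {M K U : Subgroup G} (hM : IsCoatom M)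
    (hKU : IsSigmaDecomposition M K U) {x : G}
    (hx : x ∈ sigmaA M U \ (sigmaCore M : Set G)) :
    ∃ r ∈ tau2 M, ∃ w ∈ Subgroup.zpowers x, orderOf w = r := by
  obtain ⟨⟨⟨hxM, y, hy, hy1, hxy⟩, hxU⟩, hxσ⟩ := hx
  have hxU' : x ∈ U ⊔ sigmaCore M := hxU
  have hxσ' : x ∉ sigmaCore M := hxσ
  obtain ⟨r, hr, hrd, hrσ⟩ : ∃ r : ℕ, r.Prime ∧ r ∣ orderOf x ∧ r ∉ sigma M := by
    by_contra hcon
    push Not at hcon
    apply hxσ'
    have h1 : Subgroup.zpowers x ≤ sigmaCore M := by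
      refine Cfsg.Agent.Lib.Helper32.BG12.le_sigmaCore_of_sigma hG hM
        (by rw [Subgroup.zpowers_le]; exact hxM) ?_
      intro p hp hpd
      rw [Nat.card_zpowers] at hpd
      exact hcon p hp hpd
    exact h1 (Subgroup.mem_zpowers x)
  have hrU : r ∣ Nat.card U := by
    have h1 : orderOf x ∣ Nat.card (U ⊔ sigmaCore M : Subgroup G) := by
      have h2 := orderOf_dvd_natCard (⟨x, hxU'⟩ : ↥(U ⊔ sigmaCore M : Subgroup G))
      rwa [Subgroup.orderOf_mk] at h2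
    rw [card_u_sup hKU] at h1
    rcases (Nat.Prime.dvd_mul hr).mp (hrd.trans h1) with h | h
    · exact h
    · exact absurd (Cfsg.Agent.Lib.Helper32.BG12.mem_sigma_of_dvd_sigmaCore hr h) hrσ
  have hrκ : r ∉ kappa M := u_not_kappa hKU hr hrU
  have hw : orderOf (x ^ (orderOf x / r)) = r :=
    orderOf_pow_orderOf_div (orderOf_pos x).ne' hrd
  have hwy : x ^ (orderOf x / r) * y = y * x ^ (orderOf x / r) :=
    (Commute.pow_left (show Commute x y from hxy) _).eq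
  refine ⟨r, tau2_of_fixed hG hM hr hrσ hrκ (M.pow_mem hxM _) hw hy hy1 hwy, _,
    Subgroup.npow_mem_zpowers x _, hw⟩

/-- S1362 from S1416 and S1417 -/
theorem h62_of (hG : IsMinSimpleOddOrder G) (h20 : H20 G) : H62 G := by
  intro M hM K U hKU g hg x hx hgx
  exfalso
  apply hg
  obtain ⟨E, hE⟩ := Cfsg.Agent.Lib.Helper3.BG12S.exCompl_of hG M hM
  have huniq := (h20 M hM E hE).2.2.2
  have hσn : M ≤ Subgroup.normalizer ((sigmaCore M : Subgroup G) : Set G) :=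
    le_normalizer_map_subtype M _
  -- the set is `M`-invariant
  have hinv : ∀ m ∈ M, ∀ n ∈ sigmaA M U \ (sigmaCore M : Set G),
      m * n * m⁻¹ ∈ sigmaA M U \ (sigmaCore M : Set G) := by
    rintro m hm n ⟨⟨⟨hnM, y, hy, hy1, hny⟩, hnU⟩, hnσ⟩
    refine ⟨⟨⟨M.mul_mem (M.mul_mem hm hnM) (M.inv_mem hm), m * y * m⁻¹,
      (Subgroup.mem_normalizer_iff.mp (hσn hm) y).mp hy, ?_, ?_⟩, ?_⟩, ?_⟩
    · intro h
      apply hy1
      have e : y = m⁻¹ * (m * y * m⁻¹) * m := by group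
      rw [e, h]
      group
    · have e1 : m * n * m⁻¹ * (m * y * m⁻¹) = m * (n * y) * m⁻¹ := by group
      have e2 : m * y * m⁻¹ * (m * n * m⁻¹) = m * (y * n) * m⁻¹ := by group
      rw [e1, e2, hny]
    · exact (Subgroup.mem_normalizer_iff.mp (u_sup_normal hKU hm) n).mp hnU
    · intro h
      apply hnσ
      exact (Subgroup.mem_normalizer_iff.mp (hσn hm) n).mpr h
  -- `g ∈ M`
  have hgM : g ∈ M := by
    obtain ⟨r, hrτ, w₂, hw₂, hw₂r⟩ := exists_tau2_elt hG hM hKU hgx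
    obtain ⟨⟨⟨hx₂M, y₂, hy₂, hy₂1, hx₂y₂⟩, -⟩, -⟩ := hgx
    obtain ⟨⟨⟨hxM, y, hy, hy1, hxy⟩, -⟩, hxσ⟩ := hx
    have hr : r.Prime := hrτ.1
    obtain ⟨k, hk⟩ := Subgroup.mem_zpowers_iff.mp hw₂
    have hw₂1 : w₂ ≠ 1 := by
      intro h
      rw [h, orderOf_one] at hw₂r
      exact hr.one_lt.ne hw₂r
    have hw₂M : w₂ ∈ M := by rw [← hk]; exact M.zpow_mem hx₂M k
    have hw₂y : w₂ * y₂ = y₂ * w₂ := by
      rw [← hk]
      exact (Commute.zpow_left (show Commute (g * x * g⁻¹) y₂ from hx₂y₂) k).eq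
    have hτ₂ : ∀ p : ℕ, p.Prime → p ∣ orderOf w₂ → p ∈ tau2 M := by
      intro p hp hpd
      rw [hw₂r] at hpd
      rwa [(Nat.prime_dvd_prime_iff_eq hp hr).mp hpd]
    have hu₂ := huniq w₂ hw₂M hw₂1 hτ₂ ⟨hw₂M, y₂, hy₂, hy₂1, hw₂y⟩
    -- the conjugate `w' = g⁻¹ w₂ g = x ^ k`
    have hw' : g⁻¹ * w₂ * g = x ^ k := by
      rw [← hk]
      have e : (g * x * g⁻¹) ^ k = g * x ^ k * g⁻¹ := conj_zpow
      rw [e]
      group
    have hw'M : x ^ k ∈ M := M.zpow_mem hxM k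
    have hw'o : orderOf (x ^ k) = r := by
      rw [← hw', ← hw₂r]
      have := orderOf_injective (MulAut.conj g⁻¹).toMonoidHom (MulAut.conj g⁻¹).injective w₂
      simpa [MulAut.conj_apply] using this
    have hw'1 : x ^ k ≠ 1 := by
      intro h
      rw [h, orderOf_one] at hw'o
      exact hr.one_lt.ne hw'o
    have hw'y : x ^ k * y = y * x ^ k := (Commute.zpow_left (show Commute x y from hxy) k).eq
    have hτ' : ∀ p : ℕ, p.Prime → p ∣ orderOf (x ^ k) → p ∈ tau2 M := by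
      intro p hp hpd
      rw [hw'o] at hpd
      rwa [(Nat.prime_dvd_prime_iff_eq hp hr).mp hpd]
    have hu' := huniq (x ^ k) hw'M hw'1 hτ' ⟨hw'M, y, hy, hy1, hw'y⟩
    -- `C(w₂) ≤ cj g M`
    have hle : Subgroup.centralizer ({w₂} : Set G) ≤ cj g M := by
      intro z hz
      rw [mem_cj]
      apply hu'.1
      rw [Subgroup.mem_centralizer_iff]
      intro t ht
      rw [Set.mem_singleton_iff] at ht
      subst ht
      have hz' : w₂ * z = z * w₂ := Subgroup.mem_centralizer_iff.mp hz w₂ rfl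
      rw [← hw']
      calc g⁻¹ * w₂ * g * (g⁻¹ * z * g) = g⁻¹ * (w₂ * z) * g := by group
        _ = g⁻¹ * (z * w₂) * g := by rw [hz']
        _ = g⁻¹ * z * g * (g⁻¹ * w₂ * g) := by group
    have hcj : cj g M = M := hu₂.2 (cj g M) (isCoatom_cj g hM) hle
    have hMne : M ≠ ⊥ := by
      rintro rfl
      exact hw₂1 (Subgroup.mem_bot.mp hw₂M)
    have hNM := Cfsg.Agent.Lib.Helper3.BG11.normalizer_eq_of_coatom hG hM hMne le_rfl
      Subgroup.le_normalizer
    rw [← hNM]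
    exact cj_eq_self_iff.mp hcj
  rw [Subgroup.mem_set_normalizer_iff]
  intro n
  constructor
  · exact hinv g hgM n
  · intro h
    have h1 := hinv g⁻¹ (M.inv_mem hgM) _ h
    have e : g⁻¹ * (g * n * g⁻¹) * g⁻¹⁻¹ = n := by group
    rwa [e] at h1

end Cfsg.Agent.Lib.Helper15.BG14
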