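import Cfsg.Agent.Lib.Helper15.BG14d

/-!
# B&G: the row S1359 (helper15)

For a standard factorisation `M = K U M_σ`, the subgroup generated by the elements of `U` with a
nontrivial fixed point on `M_σ` is abelian (`h59_of`).
-/

set_option autoImplicit false

open Cfsg Cfsg.Agent.Lib.Helper32 Cfsg.Agent.Lib.Helper32.BG10 Cfsg.Agent.Lib.Helper3.BG12
open Cfsg.Agent.Lib.Helper15.BG12

namespace Cfsg.Agent.Lib.Helper15.BG14

universe u

/-- S1359 -/
def H59 (G : Type u) [Group G] : Prop :=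
  ∀ (M : Subgroup G), IsCoatom M → ∀ (K U : Subgroup G), Cfsg.IsSigmaDecomposition M K U →
    IsMulCommutative (Subgroup.closure ((U : Set G) ∩ Cfsg.sigmaHat M))

variable {G : Type u} [Group G] [Finite G]

theorem h59_of (hG : IsMinSimpleOddOrder G) (h14 : H14 G) (h16 : H16 G) (h17 : H17 G)
    (h18 : H18 G) : H59 G := by
  intro M hM K U hKU
  have hUM : U ≤ M := hKU.compl.1
  obtain ⟨E, hE, hUE⟩ :=
    Cfsg.Agent.Lib.Helper3.BG13T.exists_compl_ge hG hM hUM (u_coprime hG hM hKU)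
  obtain ⟨A₀, -, -, hA₀c, hA₀⟩ := exists_normal_abelian_tau2 hG h14 h16 h17 h18 hM hE
  have hle : Subgroup.closure ((U : Set G) ∩ sigmaHat M) ≤ A₀ := by
    rw [Subgroup.closure_le]
    rintro u ⟨huU, -, s, hs, hs1, hus⟩
    apply hA₀ u (hUE huU)
    · intro r hr hru
      apply u_tau2 hG hM hKU (X := Subgroup.zpowers u) (Subgroup.zpowers_le.mpr huU) _ hr
        (by rwa [Nat.card_zpowers])
      intro hbot
      have h1 : s ∈ sigmaCore M ⊓
          Subgroup.centralizer ((Subgroup.zpowers u : Subgroup G) : Set G) := by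
        refine Subgroup.mem_inf.mpr ⟨hs, ?_⟩
        rw [Subgroup.mem_centralizer_iff]
        intro z hz
        obtain ⟨n, rfl⟩ := Subgroup.mem_zpowers_iff.mp hz
        exact ((Commute.zpow_left (show Commute u s from hus) n).eq)
      rw [hbot, Subgroup.mem_bot] at h1
      exact hs1 h1
    · exact ⟨s, hs, hs1, hus⟩
  refine ⟨⟨fun a b => ?_⟩⟩
  have := congrArg Subtype.val (hA₀c.is_comm.comm ⟨a, hle a.2⟩ ⟨b, hle b.2⟩)
  exact Subtype.ext this

end Cfsg.Agent.Lib.Helper15.BG14
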