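import Mathlib
import Cfsg.Agent.Lib.Helper15.DicksonMat5

set_option autoImplicit false
set_option linter.unusedSectionVars false
set_option linter.unusedVariables false
set_option linter.unusedSimpArgs false

/-! Dickson's theorem (unipotent pair form): a subgroup of `SL₂(F)`, `F` finite of odd
characteristic `p`, with more than one Sylow `p`-subgroup contains a copy of `SL₂(p)`. -/

namespace Cfsg.Agent.Lib.Helper15

open Matrix
open Cfsg.Agent.Lib.Helper40 (sl2Up sl2Lo)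

section fin

variable {F : Type*} [Field F] [Fintype F] {p : ℕ} [Fact p.Prime] [CharP F p]

/-- **Dickson, pair form**: a subgroup of `SL₂(F)` with more than one Sylow `p`-subgroup
contains two elements of order dividing `p` (trace `2`) whose product has trace `3`. -/
theorem exists_unip_pair (hp2 : p ≠ 2) (H : Subgroup (SpecialLinearGroup (Fin 2) F))
    (hH : 1 < Nat.card (Sylow p H)) :
    ∃ x y : SpecialLinearGroup (Fin 2) F, x ∈ H ∧ y ∈ H ∧ x ^ p = 1 ∧ y ^ p = 1 ∧
      dtr x = 2 ∧ dtr y = 2 ∧ dtr (x * y) = 3 := by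
  classical
  have hz := dneg_mem hp2 H hH
  have hyp := dhyp_of_SL2 hp2 H hz
  have hS : ∀ Q : Sylow p H, DSyl p Q := fun Q => dsyl_of_SL2 hp2 H Q (d_sylow_ne_bot hH Q)
  obtain ⟨x, y, hxp, hyp', hxy, hcase⟩ := hyp.main hp2 hS hH
  have hX : (x : SpecialLinearGroup (Fin 2) F) ^ p = 1 := by
    have := congrArg Subtype.val hxp
    simpa using this
  have hY : (y : SpecialLinearGroup (Fin 2) F) ^ p = 1 := by
    have := congrArg Subtype.val hyp'
    simpa using this
  have htX : dtr (x : SpecialLinearGroup (Fin 2) F) = 2 := dtr_of_pow _ hX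
  have htY : dtr (y : SpecialLinearGroup (Fin 2) F) = 2 := dtr_of_pow _ hY
  have hne : dtr ((x : SpecialLinearGroup (Fin 2) F) * (y : SpecialLinearGroup (Fin 2) F)) ≠ 2 := by
    intro h
    apply hxy
    apply Subtype.ext
    have := gE0 (x : SpecialLinearGroup (Fin 2) F) (y : SpecialLinearGroup (Fin 2) F) hX htY h
    simpa using this
  rcases hcase with hcomm | ⟨hp3, hord⟩
  · have hcomm' : ((y : SpecialLinearGroup (Fin 2) F) * (x : SpecialLinearGroup (Fin 2) F) * (y : SpecialLinearGroup (Fin 2) F)⁻¹) *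
        ((x : SpecialLinearGroup (Fin 2) F) * (y : SpecialLinearGroup (Fin 2) F) * (x : SpecialLinearGroup (Fin 2) F)⁻¹) =
        ((x : SpecialLinearGroup (Fin 2) F) * (y : SpecialLinearGroup (Fin 2) F) * (x : SpecialLinearGroup (Fin 2) F)⁻¹) *
        ((y : SpecialLinearGroup (Fin 2) F) * (x : SpecialLinearGroup (Fin 2) F) * (y : SpecialLinearGroup (Fin 2) F)⁻¹) := by
      have := congrArg Subtype.val hcomm
      simpa using this
    have h1 := gE1 (x : SpecialLinearGroup (Fin 2) F) (y : SpecialLinearGroup (Fin 2) F) hX hY hcomm'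
    have hc1 : dtr ((x : SpecialLinearGroup (Fin 2) F) * (y : SpecialLinearGroup (Fin 2) F)) = 3 := by
      rcases mul_eq_zero.mp h1 with h | h
      · exact absurd (sub_eq_zero.mp h) hne
      · have h2 := pow_eq_zero_iff (two_ne_zero) |>.mp h
        linear_combination (-1 : F) * h2
    exact ⟨x, y, x.2, y.2, hX, hY, htX, htY, hc1⟩
  · have h9 : ∀ g : SpecialLinearGroup (Fin 2) F, g ∈ H → dtr g ^ 9 = dtr g := by
      intro g hg
      apply dtr_pow9 hp3
      rcases hord ⟨g, hg⟩ with h | h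
      · left
        have := congrArg Subtype.val h
        simpa using this
      · right
        have := congrArg Subtype.val h
        simpa using this
    obtain ⟨X, hXdef⟩ : ∃ X : SpecialLinearGroup (Fin 2) F, X = x := ⟨_, rfl⟩
    obtain ⟨Y, hYdef⟩ : ∃ Y : SpecialLinearGroup (Fin 2) F, Y = y := ⟨_, rfl⟩
    rw [← hXdef] at hX htX hne
    rw [← hYdef] at hY htY hne
    have hXH : X ∈ H := by rw [hXdef]; exact x.2
    have hYH : Y ∈ H := by rw [hYdef]; exact y.2
    obtain ⟨c, hcdef⟩ : ∃ c, c = dtr (X * Y) - 2 := ⟨_, rfl⟩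
    have hc0 : c ≠ 0 := by
      rw [hcdef]; exact sub_ne_zero.mpr hne
    have h3 : (3 : F) = 0 := by
      have := CharP.cast_eq_zero F p
      rw [hp3] at this
      exact_mod_cast this
    have hc9 : c ^ 9 = c := by
      have h1 := h9 (X * Y) (H.mul_mem hXH hYH)
      have h2 : (dtr (X * Y) - 2) ^ 9 = dtr (X * Y) ^ 9 - 512 := by
        subst hp3
        have := sub_pow_char_pow (p := 3) (n := 2) (x := dtr (X * Y)) (y := (2 : F))
        norm_num at this
        exact this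
      rw [hcdef, h2, h1]
      linear_combination (-170 : F) * h3
    have hc8 : c ^ 8 = 1 := by
      have : c * (c ^ 8 - 1) = 0 := by linear_combination hc9
      exact sub_eq_zero.mp ((mul_eq_zero.mp this).resolve_left hc0)
    -- first replacement: (x₁, y₁) = (Y, X Y X⁻¹)
    obtain ⟨Y₁, hY₁def⟩ : ∃ Y₁, Y₁ = X * Y * X⁻¹ := ⟨_, rfl⟩
    have hY₁H : Y₁ ∈ H := by
      rw [hY₁def]; exact H.mul_mem (H.mul_mem hXH hYH) (H.inv_mem hXH)
    have hY₁p : Y₁ ^ p = 1 := by rw [hY₁def, conj_pow, hY]; group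
    have htY₁ : dtr Y₁ = 2 := dtr_of_pow _ hY₁p
    have hc₁ : dtr (Y * Y₁) - 2 = -c ^ 2 := by
      rw [hY₁def, hcdef]; exact gE2 X Y hX htY
    -- second replacement: (x₂, y₂) = (Y₁, Y Y₁ Y⁻¹)
    obtain ⟨Y₂, hY₂def⟩ : ∃ Y₂, Y₂ = Y * Y₁ * Y⁻¹ := ⟨_, rfl⟩
    have hY₂H : Y₂ ∈ H := by
      rw [hY₂def]; exact H.mul_mem (H.mul_mem hYH hY₁H) (H.inv_mem hYH)
    have hY₂p : Y₂ ^ p = 1 := by rw [hY₂def, conj_pow, hY₁p]; group
    have htY₂ : dtr Y₂ = 2 := dtr_of_pow _ hY₂p
    have hc₂ : dtr (Y₁ * Y₂) - 2 = -c ^ 4 := by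
      have := gE2 Y Y₁ hY htY₁
      rw [← hY₂def, hc₁] at this
      rw [this]; ring
    have hc4 : (c ^ 4 - 1) * (c ^ 4 + 1) = 0 := by linear_combination hc8
    rcases mul_eq_zero.mp hc4 with h | h
    · -- c^4 = 1: use Y₂⁻¹
      have h4 : dtr (Y₁ * Y₂⁻¹) = 3 := by
        have hf := dtr_mul_inv Y₁ Y₂
        rw [htY₁, htY₂] at hf
        linear_combination hf - hc₂ + h
      have htY₂' : dtr Y₂⁻¹ = 2 := by rw [dtr_inv]; exact htY₂
      exact ⟨Y₁, Y₂⁻¹, hY₁H, H.inv_mem hY₂H, hY₁p, by rw [inv_pow, hY₂p, inv_one], htY₁, htY₂', h4⟩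
    · have h4 : dtr (Y₁ * Y₂) = 3 := by linear_combination hc₂ - h
      exact ⟨Y₁, Y₂, hY₁H, hY₂H, hY₁p, hY₂p, htY₁, htY₂, h4⟩

end fin

section gen

variable {F : Type*} [Field F]

/-- Cayley–Hamilton for a trace-`2` element of `SL₂`. -/
theorem unip_sq_of_dtr (x : SpecialLinearGroup (Fin 2) F) (hx : dtr x = 2) :
    ((x : Matrix (Fin 2) (Fin 2) F) - 1) * ((x : Matrix (Fin 2) (Fin 2) F) - 1) = 0 := by
  have hdet := Cfsg.Agent.Lib.Helper40.sl2_det' x
  have ht : x 0 0 + x 1 1 = 2 := hx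
  ext i j
  fin_cases i <;> fin_cases j
  · simp [Matrix.mul_apply, Fin.sum_univ_two]
    linear_combination (x 0 0) * ht - hdet
  · simp [Matrix.mul_apply, Fin.sum_univ_two]
    linear_combination (x 0 1) * ht
  · simp [Matrix.mul_apply, Fin.sum_univ_two]
    linear_combination (x 1 0) * ht
  · simp [Matrix.mul_apply, Fin.sum_univ_two]
    linear_combination (x 1 1) * ht - hdet

/-- The trace of `(x - 1)(y - 1)` in terms of `dtr`. -/
theorem trace_unip_mul (x y : SpecialLinearGroup (Fin 2) F) :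
    Matrix.trace (((x : Matrix (Fin 2) (Fin 2) F) - 1) * ((y : Matrix (Fin 2) (Fin 2) F) - 1)) =
      dtr (x * y) - dtr x - dtr y + 2 := by
  rw [dtr_eq_trace, dtr_eq_trace, dtr_eq_trace]
  have h : ((x * y : SpecialLinearGroup (Fin 2) F) : Matrix (Fin 2) (Fin 2) F) =
      (x : Matrix (Fin 2) (Fin 2) F) * (y : Matrix (Fin 2) (Fin 2) F) := rfl
  rw [h]
  simp only [Matrix.sub_mul, Matrix.mul_sub, Matrix.one_mul, Matrix.mul_one, Matrix.trace_sub,
    Matrix.trace_one, Fintype.card_fin]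
  push_cast
  ring

end gen

section fin2

variable {F : Type*} [Field F] [Fintype F] {p : ℕ} [Fact p.Prime] [CharP F p]

/-- **Dickson, quadratic pair form**: a subgroup of `SL₂(F)` (`F` finite of odd
characteristic `p`) with more than one Sylow `p`-subgroup contains two elements `x`, `y`
with `(x - 1)² = 0 = (y - 1)²` and `trace ((x - 1)(y - 1)) = 1`. -/
theorem exists_unip_pair_trace (hp2 : p ≠ 2) (H : Subgroup (SpecialLinearGroup (Fin 2) F))
    (hH : 1 < Nat.card (Sylow p H)) :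
    ∃ x y : SpecialLinearGroup (Fin 2) F, x ∈ H ∧ y ∈ H ∧
      ((x : Matrix (Fin 2) (Fin 2) F) - 1) * ((x : Matrix (Fin 2) (Fin 2) F) - 1) = 0 ∧
      ((y : Matrix (Fin 2) (Fin 2) F) - 1) * ((y : Matrix (Fin 2) (Fin 2) F) - 1) = 0 ∧
      Matrix.trace (((x : Matrix (Fin 2) (Fin 2) F) - 1) * ((y : Matrix (Fin 2) (Fin 2) F) - 1)) = 1 := by
  obtain ⟨x, y, hxH, hyH, hxp, hyp, htx, hty, htxy⟩ := exists_unip_pair hp2 H hH
  refine ⟨x, y, hxH, hyH, unip_sq_of_dtr x htx, unip_sq_of_dtr y hty, ?_⟩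
  rw [trace_unip_mul, htx, hty, htxy]
  norm_num

end fin2

end Cfsg.Agent.Lib.Helper15
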