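import Cfsg.Agent.Lib.Helper92.FT12Defs
import Cfsg.Agent.Lib.Helper15.BG14d
import Cfsg.Agent.S1414
import Cfsg.Agent.S1416
import Cfsg.Agent.S1417

/-!
# B&G Theorem 12.12 (S1421), pieces NSYL and PARTA of helper92's skeleton (helper15)

`nsyl : NSylStmt` (Sylow `p`-subgroups of `E` are normal in the abelian Sylow case, directly from
`sylow_tau2_normal`) and `partA_of : TauStmt → PartAStmt` (from `exists_normal_abelian_tau2`).
-/

set_option autoImplicit false

open Cfsg Cfsg.Agent.Lib.Helper32 Cfsg.Agent.Lib.Helper32.BG10 Cfsg.Agent.Lib.Helper3.BG12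
open Cfsg.Agent.Lib.Helper15.BG12 Cfsg.Agent.Lib.Helper15.BG14 Cfsg.Agent.Lib.Helper92.FT

namespace Cfsg.Agent.Lib.Helper15.FT12

universe u

/-- a Sylow `p`-subgroup in the sense of `SylIn` is a member of `sylSet` -/
theorem mem_sylSet_of_sylIn {G : Type u} [Group G] [Finite G] {p : ℕ} [Fact p.Prime]
    {P E : Subgroup G} (h : SylIn p P E) : P ∈ sylSet p E := by
  have hpp : p.Prime := Fact.out
  obtain ⟨hPE, hPp, hnd⟩ := h
  refine ⟨hPE, ?_⟩
  obtain ⟨k, hk⟩ := IsPGroup.iff_card.mp hPp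
  have h1 := Cfsg.Agent.Lib.Helper78.BG12.card_mul_relIndex' hPE
  have hr0 : P.relIndex E ≠ 0 := by
    intro h0
    rw [h0, mul_zero] at h1
    exact Nat.card_pos.ne' h1.symm
  rw [← h1, hk, Nat.factorization_mul (pow_pos hpp.pos k).ne' hr0,
    Nat.Prime.factorization_pow hpp]
  simp [Nat.factorization_eq_zero_of_not_dvd hnd]

/-- the rows S1414, S1416, S1417 and B&G 12.6 for a fixed group -/
theorem hyps {G : Type u} [Group G] [Finite G] (hG : IsMinSimpleOddOrder G) :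
    H14 G ∧ H16 G ∧ H17 G ∧ H18 G := by
  have h14 : H14 G := fun M hM => Cfsg.Agent.S1414.result hG M hM
  have h16 : H16 G := fun M hM p _ A hA => Cfsg.Agent.S1416.result hG M hM p A hA
  have h17 : H17 G := fun M hM p _ hp A hA => Cfsg.Agent.S1417.result hG M hM p hp A hA
  exact ⟨h14, h16, h17, h18_of hG h16 h17⟩

/-- NSYL: in the abelian Sylow case the Sylow `p`-subgroups of `E` are normal in `E` -/
theorem nsyl : NSylStmt.{u} := by
  intro G _ _ hG M E hM hE p _ hp hS P hP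
  obtain ⟨h14, -, h17, h18⟩ := hyps hG
  obtain ⟨A, hAE, hA, hA2⟩ := Cfsg.Agent.Lib.Helper3.BG12T.exists_tau2_elemAb hG hM hE hp
  exact sylow_tau2_normal hG h14 h17 h18 ⟨hM, hE, hp, hAE, hA, hA2⟩ hS (mem_sylSet_of_sylIn hP)

/-- PARTA: part (a) of S1421 -/
theorem partA_of (ht : TauStmt.{u}) : PartAStmt.{u} := by
  intro G _ _ hG M E ⟨hM, hE, h⟩
  obtain ⟨h14, h16, h17, h18⟩ := hyps hG
  obtain ⟨A₀, h1, h2, h3, h4⟩ := exists_normal_abelian_tau2 hG h14 h16 h17 h18 hM hE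
  refine ⟨A₀, h1, h2, h3, ?_⟩
  intro x hx hx1 e he
  obtain ⟨heE, hec⟩ := Subgroup.mem_inf.mp he
  have hcomm : x * e = e * x := Subgroup.mem_centralizer_iff.mp hec x rfl
  have hfix : Fix M e := by
    intro hbot
    have hx' : x ∈ sigmaCore M ⊓ Subgroup.centralizer ({e} : Set G) := by
      refine Subgroup.mem_inf.mpr ⟨hx, ?_⟩
      rw [Subgroup.mem_centralizer_iff]
      rintro g rfl
      exact hcomm.symm
    rw [hbot, Subgroup.mem_bot] at hx'
    exact hx1 hx'
  exact h4 e heE ((ht G hG M E hM hE).2.2 h e heE hfix) ⟨x, hx, hx1, hcomm.symm⟩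

end Cfsg.Agent.Lib.Helper15.FT12
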