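import Cfsg.Agent.Lib.Helper15.GPow2
import Cfsg.Agent.Lib.Helper15.GFac
import Cfsg.Agent.Lib.Helper88.HFreeC
import Cfsg.Agent.Lib.Helper90.AlpCard
import Cfsg.Agent.Lib.Helper90.CR
import Cfsg.Agent.S5090

set_option autoImplicit false
open scoped commutatorElement

/-!
# `℧ⁿ(Z(S))` is normal in every saturated fusion system on `S` when `cl(S) ≤ n(p-1)+1` (helper15)

Alperin induction (helper90) + models of normalizer systems of centric subgroups (S5090) + the
local factorization `L = C_L(℧ⁿ(Z(R))) N_L(R)` (`gpow_aux`).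
-/

namespace Cfsg.Agent.Lib.Helper15

open Cfsg Cfsg.FusionSystem Cfsg.Agent.Lib.Helper90 Cfsg.Agent.Lib.Helper88 Cfsg.Agent.Lib.Helper42

universe u

theorem gp_iter_map {A B : Type*} [Group A] [Group B] (φ : A →* B) (a b : A) (k : ℕ) :
    φ ((fun y => ⁅a, y⁆)^[k] b) = (fun y => ⁅φ a, y⁆)^[k] (φ b) := by
  induction k with
  | zero => rfl
  | succ k ih =>
    rw [Function.iterate_succ_apply', Function.iterate_succ_apply', map_commutatorElement, ih]

theorem gp_iter_mem_lcs {A : Type*} [Group A] (S : Subgroup A) {a b : A} (ha : a ∈ S)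
    (hb : b ∈ S) (k : ℕ) : (fun y => ⁅a, y⁆)^[k] b ∈ S.lowerCentralSeries k := by
  induction k with
  | zero => exact hb
  | succ k ih =>
    rw [Function.iterate_succ_apply', Subgroup.lowerCentralSeries_succ]
    have e : ⁅a, (fun y => ⁅a, y⁆)^[k] b⁆ = ⁅(fun y => ⁅a, y⁆)^[k] b, a⁆⁻¹ :=
      (commutatorElement_inv _ _).symm
    rw [e]
    exact Subgroup.inv_mem _ (Subgroup.commutator_mem_commutator ih ha)

/-- type-level form of `gpow_aux` -/
theorem gp_local {L : Type*} [Group L] [Finite L] {p : ℕ} [Fact p.Prime] (e : ℕ)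
    (R : Subgroup L) (hR : ∃ Tsyl : Sylow p L, (Tsyl : Subgroup L) = R)
    (hcon : Subgroup.centralizer (pCore p L : Set L) ≤ pCore p L)
    (hcl : ∀ g ∈ R, ∀ v ∈ R, (fun y => ⁅g, y⁆)^[e * (p - 1) + 1] v = 1) (l : L) :
    ∃ c m : L, (∀ z ∈ R ⊓ Subgroup.centralizer (R : Set L), c * z ^ p ^ e * c⁻¹ = z ^ p ^ e) ∧
      m ∈ Subgroup.normalizer (R : Set L) ∧ l = c * m := by
  obtain ⟨Tsyl, rfl⟩ := hR
  have hcon' : (⊤ : Subgroup L) ⊓
      Subgroup.centralizer ((pCoreOf p (⊤ : Subgroup L) : Subgroup L) : Set L)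
      ≤ pCoreOf p (⊤ : Subgroup L) := by
    rw [gf_pCoreOf_top, top_inf_eq]; exact hcon
  obtain ⟨c, -, m, -, hc, hm, rfl⟩ := gpow_aux e (Nat.card (⊤ : Subgroup L)) ⊤
    (Tsyl : Subgroup L) rfl (sylow_isSylIn Tsyl) hcon' hcl l (Subgroup.mem_top l)
  exact ⟨c, m, hc, hm, rfl⟩

theorem gp_normal {Ω : Type u} [Group Ω] {S : Subgroup Ω} [Finite S] (p : ℕ) [Fact p.Prime]
    (hS : IsPGroup p S) (F : FusionSystem S) (hF : F.IsSaturated p) (n : ℕ)
    (hcl : Subgroup.lowerCentralSeries S (n * (p - 1) + 1) = ⊥) :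
    F.IsNormal (powerClosure p n (S ⊓ Subgroup.centralizer (S : Set Ω))) := by
  classical
  set Z := S ⊓ Subgroup.centralizer (S : Set Ω) with hZ
  set X := powerClosure p n Z with hX
  have hXZ : X ≤ Z := by
    rw [hX]
    unfold powerClosure
    rw [Subgroup.closure_le]
    rintro y ⟨z, hz, rfl⟩
    exact Subgroup.pow_mem _ hz _
  have hXS : X ≤ S := hXZ.trans inf_le_left
  -- elementwise class condition
  have hclS : ∀ a ∈ S, ∀ b ∈ S, (fun y => ⁅a, y⁆)^[n * (p - 1) + 1] b = 1 := by
    intro a ha b hb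
    have h1 := gp_iter_mem_lcs S ha hb (n * (p - 1) + 1)
    rwa [hcl, Subgroup.mem_bot] at h1
  -- automorphisms of `S` in the system preserve `X`
  have hautS : ∀ f : Ω → Ω, Mor F S f → ∀ x ∈ X, x ∈ S ∧ f x ∈ X := by
    intro f hf x hx
    have hfS : ∀ x ∈ S, f x ∈ S := fun x hx => hf.mem hx
    have hsurj := hf.surj_of_finite hfS
    rw [hX] at hx
    unfold powerClosure at hx
    induction hx using Subgroup.closure_induction with
    | mem y hy =>
      obtain ⟨z, hz, rfl⟩ := hy
      refine ⟨S.pow_mem hz.1 _, ?_⟩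
      have hpow : ∀ k : ℕ, f (z ^ k) = f z ^ k := by
        intro k
        induction k with
        | zero => simp [hf.map_one]
        | succ k ih => rw [pow_succ, hf.map_mul (S.pow_mem hz.1 k) hz.1, ih, pow_succ]
      rw [hpow]
      have hfz : f z ∈ Z := by
        refine Subgroup.mem_inf.mpr ⟨hfS z hz.1, ?_⟩
        rw [Subgroup.mem_centralizer_iff]
        intro s hs
        obtain ⟨s', hs', rfl⟩ := hsurj s hs
        rw [← hf.map_mul hs' hz.1, ← hf.map_mul hz.1 hs',
          (Subgroup.mem_centralizer_iff.mp hz.2) s' hs']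
      exact Subgroup.subset_closure ⟨f z, hfz, rfl⟩
    | one => exact ⟨S.one_mem, by rw [hf.map_one]; exact Subgroup.one_mem _⟩
    | mul a b _ _ ha hb =>
      exact ⟨S.mul_mem ha.1 hb.1, by rw [hf.map_mul ha.1 hb.1]; exact Subgroup.mul_mem _ ha.2 hb.2⟩
    | inv a _ ha =>
      exact ⟨S.inv_mem ha.1, by rw [hf.map_inv ha.1]; exact Subgroup.inv_mem _ ha.2⟩
  have key : ∀ (P : Subgroup Ω) (f : Ω → Ω), Mor F P f → ∀ x ∈ P, (x ∈ X ↔ f x ∈ X) := by
    apply alperin_induction_card hS hF (fun P f => ∀ x ∈ P, (x ∈ X ↔ f x ∈ X))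
    · intro P f g hgood hfg x hx
      rw [← hfg x hx]; exact hgood x hx
    · intro P P₀ f _ hgood hle x hx
      exact hgood x (hle hx)
    · intro P Q f g _ _ hPQ hf hg x hx
      exact (hf x hx).trans (hg (f x) (hPQ x hx))
    · intro P f hf hgood y hy
      obtain ⟨x, hx, rfl⟩ := hf.mem_img.mp hy
      rw [hf.invFn_apply hx]; exact (hgood x hx).symm
    · intro P hfa hrec prem f hf hfP
      have hP : P ≤ S := hf.le
      have : Finite P := finite_of_le hP
      have fwd : ∀ f : Ω → Ω, Mor F P f → (∀ x ∈ P, f x ∈ P) → ∀ x ∈ P, x ∈ X → f x ∈ X := by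
        intro f hf hfP
        by_cases hE : ∃ a ∈ extFn S P f, a ∉ P
        · obtain ⟨a, ha, haP⟩ := hE
          obtain ⟨f₁, hf₁, hf₁P⟩ := receptive_extend' hrec hf (hf.img_eq_self hfP)
          have hlt : P < extFn S P f :=
            SetLike.lt_iff_le_and_exists.mpr ⟨hf.le_extFn, a, ha, haP⟩
          have : Finite (extFn S P f) := finite_of_le hf₁.le
          have hg := prem _ f₁ (card_lt_of_lt hlt) hf₁
          intro x hx hxX
          rw [← hf₁P x hx]; exact (hg x (hf.le_extFn hx)).mp hxX
        · push Not at hE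
          have hcent : centralizerIn S P ≤ P :=
            fun z hz => hE z (hf.centralizerIn_le_extFn hz)
          have hcentric := centric_of_rec hrec hcent
          have hfn := fullyNormalized_of_fa_rec hS hfa hrec
          have hTS : normalizerIn S P ≤ S := inf_le_left
          have : Finite (normalizerIn S P) := finite_of_le hTS
          have hTp : IsPGroup p (normalizerIn S P) := hS.to_le hTS
          have hNc := constrained_normalizerSys hS hF hfn hcentric
          obtain ⟨L, _, ι, hL⟩ := Cfsg.Agent.S5090.result p hTp _ hNc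
          obtain ⟨hLfin, hreal, ⟨Tsyl, hTsyl⟩, hLcon⟩ := hL
          have := hLfin
          have hfN : Mor (normalizerSys F P hfn.1) P f :=
            (mor_normalizerSys_iff hfn.1).mpr ⟨hf, le_normalizerIn hP,
              fun x hx => le_normalizerIn hP (hfP x hx), extQ_of_le le_rfl hf hfP⟩
          obtain ⟨l, hl⟩ := exists_conj_of_mor' hreal hfN
          have hclR : ∀ g ∈ ι.range, ∀ v ∈ ι.range,
              (fun y => ⁅g, y⁆)^[n * (p - 1) + 1] v = 1 := by
            rintro _ ⟨g₀, rfl⟩ _ ⟨v₀, rfl⟩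
            rw [← gp_iter_map ι g₀ v₀]
            have h1 : (fun y => ⁅g₀, y⁆)^[n * (p - 1) + 1] v₀ = 1 := by
              apply Subtype.ext
              have h2 := gp_iter_map (normalizerIn S P).subtype g₀ v₀ (n * (p - 1) + 1)
              have h3 := hclS (g₀ : Ω) (hTS g₀.2) (v₀ : Ω) (hTS v₀.2)
              simp only [Subgroup.coe_subtype] at h2
              rw [h2, h3]; rfl
            rw [h1, map_one]
          obtain ⟨c, m, hc, hm, rfl⟩ := gp_local n ι.range ⟨Tsyl, hTsyl⟩ hLcon hclR l
          have hmT : ∀ x ∈ normalizerIn S P, m * aFun ι x * m⁻¹ ∈ ι.range := fun x hx =>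
            (Subgroup.mem_normalizer_iff.mp hm _).mp (aFun_mem_range ι hx)
          obtain ⟨fm, hfm, hfmι⟩ := exists_mor_of_realized' hreal (le_refl _) m hmT
          have hfmF : Mor F (normalizerIn S P) fm := ((mor_normalizerSys_iff hfn.1).mp hfm).1
          have hfmX : ∀ x ∈ normalizerIn S P, x ∈ X → fm x ∈ X := by
            rcases eq_or_lt_of_le hP with heq | hlt
            · have hST : S ≤ normalizerIn S P := by
                rw [heq]; exact le_normalizerIn le_rfl
              intro x _ hxX
              exact (hautS fm (hfmF.restrict hST) x hxX).2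
            · have hlt' : P < normalizerIn S P := lt_normalizerIn hS hlt
              intro x hx hxX
              exact ((prem _ fm (card_lt_of_lt hlt') hfmF) x hx).mp hxX
          have hZP : Z ≤ P := fun z hz =>
            hcent ⟨hz.1, Subgroup.centralizer_le hP hz.2⟩
          have hZT : Z ≤ normalizerIn S P := hZP.trans (le_normalizerIn hP)
          have hcX : ∀ y ∈ X, c * aFun ι y * c⁻¹ = aFun ι y := by
            have hle : X ≤ ((Subgroup.centralizer ({c} : Set L)).comap ι).map
                (normalizerIn S P).subtype := by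
              rw [hX]
              unfold powerClosure
              rw [Subgroup.closure_le]
              rintro y ⟨z, hz, rfl⟩
              refine ⟨(⟨z, hZT hz⟩ : normalizerIn S P) ^ p ^ n, ?_, rfl⟩
              show ι ((⟨z, hZT hz⟩ : normalizerIn S P) ^ p ^ n) ∈
                Subgroup.centralizer ({c} : Set L)
              rw [map_pow, Subgroup.mem_centralizer_iff]
              intro y hy
              rw [Set.mem_singleton_iff.mp hy]
              have hzR : ι ⟨z, hZT hz⟩ ∈ ι.range ⊓ Subgroup.centralizer (ι.range : Set L) := by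
                refine Subgroup.mem_inf.mpr ⟨⟨_, rfl⟩, ?_⟩
                rw [Subgroup.mem_centralizer_iff]
                rintro _ ⟨t, rfl⟩
                rw [← map_mul, ← map_mul]
                congr 1
                apply Subtype.ext
                exact (Subgroup.mem_centralizer_iff.mp hz.2) (t : Ω) (hTS t.2)
              have h1 := hc _ hzR
              calc c * ι ⟨z, hZT hz⟩ ^ p ^ n = (c * ι ⟨z, hZT hz⟩ ^ p ^ n * c⁻¹) * c := by group
                _ = ι ⟨z, hZT hz⟩ ^ p ^ n * c := by rw [h1]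
            intro y hy
            obtain ⟨y', hy', rfl⟩ := hle hy
            have h1 : ι y' ∈ Subgroup.centralizer ({c} : Set L) := hy'
            have h2 := (Subgroup.mem_centralizer_iff.mp h1) c rfl
            have h3 : aFun ι ((normalizerIn S P).subtype y') = ι y' := aFun_apply ι y'
            rw [h3, h2]; group
          intro x hx hxX
          have hxT : x ∈ normalizerIn S P := le_normalizerIn hP hx
          have h1 := hl x hx
          have h2 := hfmι x hxT
          have h3 : aFun ι (f x) = aFun ι (fm x) := by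
            rw [h1]
            calc (c * m) * aFun ι x * (c * m)⁻¹ = c * (m * aFun ι x * m⁻¹) * c⁻¹ := by group
              _ = c * aFun ι (fm x) * c⁻¹ := by rw [h2]
              _ = aFun ι (fm x) := hcX _ (hfmX x hxT hxX)
          have h4 : f x = fm x :=
            aFun_injOn hreal.1 (le_normalizerIn hP (hfP x hx)) (hfm.mem hxT) h3
          rw [h4]; exact hfmX x hxT hxX
      intro x hx
      refine ⟨fwd f hf hfP x hx, fun hfx => ?_⟩
      have himg := hf.img_eq_self hfP
      have hinv : Mor F P (invFn P f) := by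
        have := hf.inv
        rwa [himg] at this
      have hinvP : ∀ y ∈ P, invFn P f y ∈ P := fun y hy =>
        hf.invFn_mem (by rw [himg]; exact hy)
      have h1 := fwd (invFn P f) hinv hinvP (f x) (hfP x hx) hfx
      rwa [hf.invFn_apply hx] at h1
  have hsc : F.StronglyClosed X := by
    refine ⟨hXS, fun R hR φ hφ x => ?_⟩
    have h1 := key R (extFun R φ) (mor_of_hom hφ) x x.2
    rw [extFun_apply] at h1
    exact h1.mp (hR x.2)
  refine isNormal_of_le_centric_radical hS hF hsc (fun R _ _ hcen _ => ?_)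
  intro x hx
  exact hcen.2 R (Cfsg.Agent.Lib.Helper87.isConj_refl F hcen.1)
    ⟨(hXZ hx).1, Subgroup.centralizer_le hcen.1 (hXZ hx).2⟩

end Cfsg.Agent.Lib.Helper15
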