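import Mathlib
import Cfsg.Agent.Lib.Helper58.JUDefs
import Cfsg.Agent.Lib.Helper40.JPTrm

/-! Project JU (helper58), piece WCONJ (helper15): `wOf (x K x⁻¹) = x (wOf K) x⁻¹`. -/

set_option autoImplicit false

namespace Cfsg.Agent.Lib.Helper15.JU

open Cfsg.Agent.Lib.Helper58.JU Cfsg.Agent.Lib.Helper72.JL Cfsg.Agent.Lib.Helper72.SC
  Cfsg.Agent.Lib.Helper72.JM Cfsg.Agent.Lib.Helper72.JP Cfsg.Agent.Lib.Helper78.JN
  Cfsg.Agent.Lib.Helper78.Jc

open scoped commutatorElement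

universe u

theorem wconj : WConjStmt.{u} := by
  intro G _ K x
  exact Cfsg.Agent.Lib.Helper40.JP.trm_wOf_map (MulAut.conj x).toMonoidHom
    (MulAut.conj x).injective K

end Cfsg.Agent.Lib.Helper15.JU
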