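import Cfsg.Agent.Lib.Helper15.KStab1

set_option autoImplicit false
open scoped commutatorElement

namespace Cfsg.Agent.Lib.Helper15

open Cfsg.Agent.Lib.Helper42

universe u

/-- internal form of `p`-stability of all sections `N / U₂` on the normal `p`-subgroups
`U₁ / U₂`: the elements of `N` acting quadratically on `U₁ / U₂` lie in a normal subgroup `D`
of `N`, containing the normal `p`-subgroups of `N`, whose `p'`-elements centralize `U₁ / U₂` -/
def PSInt (p : ℕ) (X : Type u) [Group X] : Prop :=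
  ∀ (N U₁ U₂ : Subgroup X), U₂ ≤ U₁ → U₁ ≤ N → IsPGroup p U₁ →
    N ≤ Subgroup.normalizer (U₁ : Set X) → N ≤ Subgroup.normalizer (U₂ : Set X) →
    ∃ D : Subgroup X, D ≤ N ∧ N ≤ Subgroup.normalizer (D : Set X) ∧
      (∀ P : Subgroup X, IsPGroup p P → P ≤ N → N ≤ Subgroup.normalizer (P : Set X) → P ≤ D) ∧
      (∀ y ∈ D, (orderOf y).Coprime p → ⁅U₁, Subgroup.zpowers y⁆ ≤ U₂) ∧
      (∀ g ∈ N, ⁅⁅U₁, Subgroup.zpowers g⁆, Subgroup.zpowers g⁆ ≤ U₂ → g ∈ D)

section ks2

variable {X : Type u} [Group X] [Finite X] {p : ℕ} [Fact p.Prime]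

theorem ks_ps_apply (hPS : PSInt p X) {N B T U₁ U₂ : Subgroup X}
    (hU : U₂ ≤ U₁) (hU₁N : U₁ ≤ N) (hU₁ : IsPGroup p U₁)
    (hN₁ : N ≤ Subgroup.normalizer (U₁ : Set X)) (hN₂ : N ≤ Subgroup.normalizer (U₂ : Set X))
    (hBN : B ≤ N) (hTN : T ≤ N) (hT : IsPGroup p T) (hNT : N ≤ Subgroup.normalizer (T : Set X))
    (hMIN : ∀ M : Subgroup X, M ≤ N → N ≤ Subgroup.normalizer (M : Set X) → B ≤ M → T ≤ M →
      M = N)
    (hq : ⁅⁅U₁, B⁆, B⁆ ≤ U₂) :
    ∀ x ∈ N, (orderOf x).Coprime p → ∀ u ∈ U₁, ⁅u, x⁆ ∈ U₂ := by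
  obtain ⟨D, hDN, hND, hDP, hDy, hDg⟩ := hPS N U₁ U₂ hU hU₁N hU₁ hN₁ hN₂
  have hBD : B ≤ D := fun g hg => hDg g (hBN hg)
    ((Subgroup.commutator_mono (Subgroup.commutator_mono le_rfl
      (Subgroup.zpowers_le.mpr hg)) (Subgroup.zpowers_le.mpr hg)).trans hq)
  have hTD : T ≤ D := hDP T hT hTN hNT
  have hDeq := hMIN D hDN hND hBD hTD
  intro x hx hcop u hu
  have := hDy x (hDeq ▸ hx) hcop
  exact this (Subgroup.commutator_mem_commutator hu (Subgroup.mem_zpowers x))

/-- the minimal case of the main lemma -/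
theorem ks_main_min (hPS : PSInt p X)
    (T : Subgroup X) [hTn : T.Normal] (hT : IsPGroup p T)
    (A : Subgroup X) [hAn : A.Normal] (hAT : A ≤ T)
    (hA2 : ⁅A, A⁆ ≤ Subgroup.centralizer (A : Set X))
    (hA3 : ⁅T, A⁆ ≤ A ⊓ Subgroup.centralizer (A : Set X))
    (hA5 : ∀ x : X, (orderOf x).Coprime p → x ∈ Subgroup.centralizer (A : Set X) → x = 1)
    (B : Subgroup X)
    (hB2 : ⁅B, B⁆ ≤ Subgroup.centralizer (B : Set X))
    (h3 : ∀ E : Subgroup X, E ≤ T → ⁅E, E⁆ ≤ Subgroup.centralizer (E : Set X) →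
      ⁅E, T⁆ ≤ E ⊓ Subgroup.centralizer (E : Set X) → E ≤ Subgroup.normalizer (B : Set X))
    (h4 : ∀ E : Subgroup X, E ≤ T → ⁅E, E⁆ ≤ Subgroup.centralizer (E : Set X) →
      ⁅E, T⁆ ≤ E ⊓ Subgroup.centralizer (E : Set X) → B ≤ Subgroup.normalizer (E : Set X) →
      ⁅B, ⁅E, E⁆⁆ = ⊥ → ⁅⁅B ⊓ Subgroup.centralizer (B : Set X), E⁆, E⁆ = ⊥ →
      ⁅B, E⁆ ≤ B ⊓ Subgroup.centralizer (B : Set X))
    (N : Subgroup X) (hBN : B ≤ N) (hTN : T ≤ N)
    (hOT : ∀ P : Subgroup X, IsPGroup p P → P ≤ N → N ≤ Subgroup.normalizer (P : Set X) → P ≤ T)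
    (hMIN : ∀ M : Subgroup X, M ≤ N → N ≤ Subgroup.normalizer (M : Set X) → B ≤ M → T ≤ M →
      M = N) :
    B ≤ T := by
  have hNT : N ≤ Subgroup.normalizer (T : Set X) := by
    rw [Subgroup.normalizer_eq_top]; exact le_top
  have hNA : N ≤ Subgroup.normalizer (A : Set X) := by
    rw [Subgroup.normalizer_eq_top]; exact le_top
  have hAp : IsPGroup p A := hT.to_le hAT
  have hAN : A ≤ N := hAT.trans hTN
  have hATc : ⁅A, T⁆ ≤ A ⊓ Subgroup.centralizer (A : Set X) := by
    rw [Subgroup.commutator_comm]; exact hA3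
  have hAB : A ≤ Subgroup.normalizer (B : Set X) := h3 A hAT hA2 hATc
  -- Step 0 : Z(B) ≤ T
  have hZBT : B ⊓ Subgroup.centralizer (B : Set X) ≤ T := by
    have hZab : ⁅B ⊓ Subgroup.centralizer (B : Set X), B ⊓ Subgroup.centralizer (B : Set X)⁆ = ⊥ := by
      rw [Subgroup.commutator_eq_bot_iff_le_centralizer]
      exact inf_le_right.trans (Subgroup.centralizer_le inf_le_left)
    have hAZ : A ≤ Subgroup.normalizer
        ((B ⊓ Subgroup.centralizer (B : Set X) : Subgroup X) : Set X) :=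
      ks_le_normalizer_inf hAB (ks_le_normalizer_centralizer hAB)
    have hq : ⁅⁅A, B ⊓ Subgroup.centralizer (B : Set X)⁆, B ⊓ Subgroup.centralizer (B : Set X)⁆
        ≤ ⊥ := by
      rw [← hZab]
      exact Subgroup.commutator_mono (ks_commutator_le_right hAZ) le_rfl
    obtain ⟨D, hDN, hND, hDP, hDy, hDg⟩ :=
      hPS N A ⊥ bot_le hAN hAp hNA (by rw [Subgroup.normalizer_eq_top]; exact le_top)
    have hDp : IsPGroup p D := by
      apply ks_isPGroup_of_coprime_trivial
      intro y hy hcop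
      apply hA5 y hcop
      have h1 := hDy y hy hcop
      rw [le_bot_iff, Subgroup.commutator_eq_bot_iff_le_centralizer] at h1
      rw [Subgroup.mem_centralizer_iff]
      intro a ha
      have h2 := h1 ha
      rw [Subgroup.mem_centralizer_iff] at h2
      exact (h2 y (Subgroup.mem_zpowers y)).symm
    have hDT : D ≤ T := hOT D hDp hDN hND
    intro g hg
    apply hDT
    apply hDg g (hBN hg.1)
    exact (Subgroup.commutator_mono (Subgroup.commutator_mono le_rfl
      (Subgroup.zpowers_le.mpr hg)) (Subgroup.zpowers_le.mpr hg)).trans hq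
  -- the `p'`-elements of `N`
  set Lset : Set X := {x | x ∈ N ∧ (orderOf x).Coprime p} with hLset
  set CL : Subgroup X := Subgroup.centralizer Lset with hCL
  have hNCL : N ≤ Subgroup.normalizer (CL : Set X) := by
    apply ks_le_normalizer_of_conj
    intro n hn c hc
    rw [hCL, Subgroup.mem_centralizer_iff] at hc ⊢
    rintro x ⟨hxN, hxc⟩
    have hx' : n⁻¹ * x * n ∈ Lset := by
      refine ⟨N.mul_mem (N.mul_mem (N.inv_mem hn) hxN) hn, ?_⟩
      have : orderOf (n⁻¹ * x * n) = orderOf x := by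
        have := orderOf_injective (MulAut.conj n⁻¹).toMonoidHom (MulAut.conj n⁻¹).injective x
        simpa using this
      rw [this]; exact hxc
    have h1 := hc _ hx'
    calc x * (n * c * n⁻¹) = n * ((n⁻¹ * x * n) * c) * n⁻¹ := by group
      _ = n * (c * (n⁻¹ * x * n)) * n⁻¹ := by rw [h1]
      _ = n * c * n⁻¹ * x := by group
  have hcomm : ∀ {U : Subgroup X}, U ≤ CL → ∀ x ∈ Lset, ∀ u ∈ U, x * u = u * x := by
    intro U hU x hx u hu
    have := hU hu
    rw [hCL, Subgroup.mem_centralizer_iff] at this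
    exact this x hx
  have hleCL : ∀ {U : Subgroup X}, (∀ x ∈ Lset, ∀ u ∈ U, x * u = u * x) → U ≤ CL := by
    intro U h u hu
    rw [hCL, Subgroup.mem_centralizer_iff]
    intro x hx
    exact h x hx u hu
  -- key claim
  have key : A ≤ CL := by
    by_contra hAC
    obtain ⟨E, ⟨hEA, hNE, hECL⟩, hmin⟩ := Set.exists_min_image
      {E : Subgroup X | E ≤ A ∧ N ≤ Subgroup.normalizer (E : Set X) ∧ ¬ E ≤ CL}
      (fun E => Nat.card E) (Set.toFinite _) ⟨A, le_rfl, hNA, hAC⟩
    have hmin' : ∀ U : Subgroup X, U ≤ E → N ≤ Subgroup.normalizer (U : Set X) → U ≠ E →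
        U ≤ CL := by
      intro U hUE hNU hne
      by_contra hU
      have := hmin U ⟨hUE.trans hEA, hNU, hU⟩
      exact hne (Subgroup.eq_of_le_of_card_ge hUE this)
    have hET' : E ≤ T := hEA.trans hAT
    have hEN : E ≤ N := hET'.trans hTN
    have hEp : IsPGroup p E := hT.to_le hET'
    have hcAE : Subgroup.centralizer (A : Set X) ≤ Subgroup.centralizer (E : Set X) :=
      Subgroup.centralizer_le hEA
    have hEE : ⁅E, E⁆ ≤ Subgroup.centralizer (E : Set X) :=
      ((Subgroup.commutator_mono hEA hEA).trans hA2).trans hcAE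
    have hET : ⁅E, T⁆ ≤ E ⊓ Subgroup.centralizer (E : Set X) :=
      le_inf (ks_commutator_le_left (hTN.trans hNE))
        (((Subgroup.commutator_mono hEA le_rfl).trans (hATc.trans inf_le_right)).trans hcAE)
    have hEB : E ≤ Subgroup.normalizer (B : Set X) := h3 E hET' hEE hET
    have hBE : B ≤ Subgroup.normalizer (E : Set X) := hBN.trans hNE
    have hNE₀ : N ≤ Subgroup.normalizer ((E ⊓ CL : Subgroup X) : Set X) :=
      ks_le_normalizer_inf hNE hNCL
    have hE₀CL : E ⊓ CL ≤ CL := inf_le_right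
    -- the conclusion in either case
    have finish : (∀ x ∈ N, (orderOf x).Coprime p → ∀ e ∈ E, ⁅e, x⁆ ∈ E ⊓ CL) → False := by
      intro h
      apply hECL
      apply hleCL
      rintro x ⟨hxN, hxc⟩ e he
      exact ks_coprime_comm hEp inf_le_left hxc (h x hxN hxc)
        (fun n hn => hcomm hE₀CL x ⟨hxN, hxc⟩ n hn) e he
    -- E₀ ≤ Z(E)
    have hE₀Z : E ⊓ CL ≤ Subgroup.centralizer (E : Set X) := by
      have hNC : N ≤ Subgroup.normalizer
          ((E ⊓ Subgroup.centralizer ((E ⊓ CL : Subgroup X) : Set X) : Subgroup X) : Set X) :=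
        ks_le_normalizer_inf hNE (ks_le_normalizer_centralizer hNE₀)
      by_cases hC : E ⊓ Subgroup.centralizer ((E ⊓ CL : Subgroup X) : Set X) = E
      · have h := inf_le_right (a := E)
          (b := Subgroup.centralizer ((E ⊓ CL : Subgroup X) : Set X))
        rw [hC] at h
        exact Subgroup.le_centralizer_iff.mp h
      · exfalso
        have hCCL := hmin' _ inf_le_left hNC hC
        apply finish
        intro x hxN hxc e he
        have hxe : x * e⁻¹ * x⁻¹ ∈ E := ks_conj_mem hNE hxN (E.inv_mem he)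
        have hcE : ⁅e, x⁆ ∈ E := by
          have : ⁅e, x⁆ = e * (x * e⁻¹ * x⁻¹) := by rw [commutatorElement_def]; group
          rw [this]; exact E.mul_mem he hxe
        have hcC : ⁅e, x⁆ ∈ Subgroup.centralizer ((E ⊓ CL : Subgroup X) : Set X) := by
          rw [Subgroup.mem_centralizer_iff]
          intro n hn
          have hn' : e⁻¹ * n * e ∈ E ⊓ CL := ks_conj_mem' hNE₀ (hEN he) hn
          have h1 : x * n = n * x := hcomm hE₀CL x ⟨hxN, hxc⟩ n hn
          have h2 : x * (e⁻¹ * n * e) = (e⁻¹ * n * e) * x := hcomm hE₀CL x ⟨hxN, hxc⟩ _ hn'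
          have h1' : x⁻¹ * n = n * x⁻¹ := by
            calc x⁻¹ * n = x⁻¹ * (n * x) * x⁻¹ := by group
              _ = x⁻¹ * (x * n) * x⁻¹ := by rw [h1]
              _ = n * x⁻¹ := by group
          rw [commutatorElement_def]
          calc n * (e * x * e⁻¹ * x⁻¹) = e * ((e⁻¹ * n * e) * x) * e⁻¹ * x⁻¹ := by group
            _ = e * (x * (e⁻¹ * n * e)) * e⁻¹ * x⁻¹ := by rw [h2]
            _ = e * x * e⁻¹ * (n * x⁻¹) := by group
            _ = e * x * e⁻¹ * (x⁻¹ * n) := by rw [h1']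
            _ = e * x * e⁻¹ * x⁻¹ * n := by group
        exact ⟨hcE, hCCL ⟨hcE, hcC⟩⟩
    -- V = [E, E]
    have hVE : ⁅E, E⁆ ≤ E := ks_commutator_le_self E
    have hVcA : ⁅E, E⁆ ≤ Subgroup.centralizer (A : Set X) := (Subgroup.commutator_mono hEA hEA).trans hA2
    have hNV : N ≤ Subgroup.normalizer ((⁅E, E⁆ : Subgroup X) : Set X) :=
      ks_le_normalizer_commutator hNE hNE
    have hEne : E ≠ ⊥ := by
      rintro rfl
      exact hECL bot_le
    have hVne : ⁅E, E⁆ ≠ E := by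
      intro h
      have h1 : E ≤ Subgroup.centralizer (E : Set X) := h.ge.trans hEE
      have h2 : ⁅E, E⁆ = ⊥ := by
        rw [Subgroup.commutator_eq_bot_iff_le_centralizer]; exact h1
      exact hEne (h ▸ h2)
    have hVCL : ⁅E, E⁆ ≤ CL := hmin' _ hVE hNV hVne
    have hTV : T ≤ Subgroup.centralizer ((⁅E, E⁆ : Subgroup X) : Set X) := by
      have h1 : ⁅⁅E, T⁆, E⁆ = ⊥ := by
        rw [Subgroup.commutator_eq_bot_iff_le_centralizer]; exact hET.trans inf_le_right
      have h2 : ⁅⁅T, E⁆, E⁆ = ⊥ := by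
        rw [Subgroup.commutator_comm T E]; exact h1
      have h3' : ⁅⁅E, E⁆, T⁆ = ⊥ := Subgroup.commutator_commutator_eq_bot_of_rotate h1 h2
      rw [Subgroup.commutator_eq_bot_iff_le_centralizer] at h3'
      exact Subgroup.le_centralizer_iff.mp h3'
    -- N = B * C_N(V)
    have hfac : ∀ n ∈ N, ∃ b ∈ B, ∃ c ∈ N ⊓ Subgroup.centralizer ((⁅E, E⁆ : Subgroup X) : Set X),
        n = b * c := by
      apply ks_gamma (p := p) (T := T) inf_le_left
        (ks_le_normalizer_inf Subgroup.le_normalizer (ks_le_normalizer_centralizer hNV)) hBN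
        (le_inf hTN hTV) ?_ hMIN
      intro x hxN hxc
      refine Subgroup.mem_inf.mpr ⟨hxN, ?_⟩
      rw [Subgroup.mem_centralizer_iff]
      intro v hv
      exact (hcomm hVCL x ⟨hxN, hxc⟩ v hv).symm
    -- N centralizes V₀ = C_V(B)
    have hNV₀ : ∀ n ∈ N, ∀ v ∈ ⁅E, E⁆ ⊓ Subgroup.centralizer (B : Set X), n * v * n⁻¹ = v := by
      intro n hn v hv
      obtain ⟨b, hb, c, hc, rfl⟩ := hfac n hn
      have h1 : v * c = c * v := (Subgroup.mem_centralizer_iff.mp hc.2) v hv.1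
      have h2 : b * v = v * b := (Subgroup.mem_centralizer_iff.mp hv.2) b hb
      calc b * c * v * (b * c)⁻¹ = b * (c * v) * c⁻¹ * b⁻¹ := by group
        _ = b * (v * c) * c⁻¹ * b⁻¹ := by rw [h1]
        _ = (b * v) * b⁻¹ := by group
        _ = (v * b) * b⁻¹ := by rw [h2]
        _ = v := by group
    by_cases hBV : ⁅B, ⁅E, E⁆⁆ = ⊥
    · -- B centralizes [E,E]: the family property applies to E
      have hq : ⁅⁅B ⊓ Subgroup.centralizer (B : Set X), E⁆, E⁆ = ⊥ := by
        rw [Subgroup.commutator_eq_bot_iff_le_centralizer]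
        refine (Subgroup.commutator_mono hZBT le_rfl).trans ?_
        rw [Subgroup.commutator_comm]
        exact hET.trans inf_le_right
      have h5 := h4 E hET' hEE hET hBE hBV hq
      have h6 : ⁅⁅E, B⁆, B⁆ ≤ ⊥ := by
        rw [le_bot_iff, Subgroup.commutator_eq_bot_iff_le_centralizer, Subgroup.commutator_comm]
        exact h5.trans inf_le_right
      have h7 := ks_ps_apply hPS bot_le hEN hEp hNE
        (by rw [Subgroup.normalizer_eq_top]; exact le_top) hBN hTN hT hNT hMIN h6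
      apply finish
      intro x hxN hxc e he
      have := h7 x hxN hxc e he
      rw [Subgroup.mem_bot] at this
      rw [this]; exact Subgroup.one_mem _
    · -- the radical
      let R₁ : Subgroup X :=
        { carrier := {e | e ∈ E ∧ ∀ e' ∈ E, ⁅e, e'⁆ ∈ ⁅E, E⁆ ⊓ Subgroup.centralizer (B : Set X)}
          one_mem' := ⟨E.one_mem, fun e' _ => by
            rw [commutatorElement_one_left]; exact Subgroup.one_mem _⟩
          mul_mem' := by
            rintro a b ⟨ha, ha'⟩ ⟨hb, hb'⟩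
            refine ⟨E.mul_mem ha hb, fun e' he' => ?_⟩
            have hbc := hb' e' he'
            have hcomm' : a * ⁅b, e'⁆ = ⁅b, e'⁆ * a := by
              have := hVcA hbc.1
              rw [Subgroup.mem_centralizer_iff] at this
              exact this a (hEA ha)
            have : ⁅a * b, e'⁆ = ⁅b, e'⁆ * ⁅a, e'⁆ := by
              have h1 : ⁅a * b, e'⁆ = a * ⁅b, e'⁆ * a⁻¹ * ⁅a, e'⁆ := by
                simp only [commutatorElement_def]; group
              rw [h1, hcomm']; group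
            rw [this]
            exact Subgroup.mul_mem _ hbc (ha' e' he')
          inv_mem' := by
            rintro a ⟨ha, ha'⟩
            refine ⟨E.inv_mem ha, fun e' he' => ?_⟩
            have hac := ha' e' he'
            have hcomm' : a * ⁅a, e'⁆ = ⁅a, e'⁆ * a := by
              have := hVcA hac.1
              rw [Subgroup.mem_centralizer_iff] at this
              exact this a (hEA ha)
            have : ⁅a⁻¹, e'⁆ = (⁅a, e'⁆)⁻¹ := by
              have h1 : ⁅a⁻¹, e'⁆ = a⁻¹ * (⁅a, e'⁆)⁻¹ * a := by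
                simp only [commutatorElement_def]; group
              have h2 : a⁻¹ * (⁅a, e'⁆)⁻¹ = (⁅a, e'⁆)⁻¹ * a⁻¹ := by
                rw [← mul_inv_rev, ← mul_inv_rev, hcomm']
              rw [h1, h2]; group
            rw [this]
            exact Subgroup.inv_mem _ hac }
      have hR₁E : R₁ ≤ E := fun e he => he.1
      have hNR₁ : N ≤ Subgroup.normalizer (R₁ : Set X) := by
        apply ks_le_normalizer_of_conj
        rintro n hn e ⟨he, he'⟩
        refine ⟨ks_conj_mem hNE hn he, fun e' he'' => ?_⟩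
        have h1 := he' (n⁻¹ * e' * n) (ks_conj_mem' hNE hn he'')
        have h2 := hNV₀ n hn _ h1
        have h3' : ⁅n * e * n⁻¹, e'⁆ = n * ⁅e, n⁻¹ * e' * n⁆ * n⁻¹ := by
          simp only [commutatorElement_def]; group
        rw [h3', h2]; exact h1
      have hR₁ne : R₁ ≠ E := by
        intro h
        apply hBV
        rw [Subgroup.commutator_comm, Subgroup.commutator_eq_bot_iff_le_centralizer]
        rw [Subgroup.commutator_le]
        intro e he e' he'
        have : e ∈ R₁ := by rw [h]; exact he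
        exact (this.2 e' he').2
      have hR₁CL : R₁ ≤ CL := hmin' R₁ hR₁E hNR₁ hR₁ne
      have hkey : ⁅E ⊓ B, B⁆ ≤ R₁ := by
        rw [Subgroup.commutator_le]
        rintro b ⟨hbE, hbB⟩ h hh
        have hwB : ⁅b, h⁆ ∈ Subgroup.centralizer (B : Set X) :=
          hB2 (Subgroup.commutator_mem_commutator hbB hh)
        have hwE : ⁅b, h⁆ ∈ E := by
          have h1 : h * b⁻¹ * h⁻¹ ∈ E := ks_conj_mem hBE hh (E.inv_mem hbE)
          have : ⁅b, h⁆ = b * (h * b⁻¹ * h⁻¹) := by rw [commutatorElement_def]; group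
          rw [this]; exact E.mul_mem hbE h1
        refine ⟨hwE, fun e' he' => Subgroup.mem_inf.mpr
          ⟨Subgroup.commutator_mem_commutator hwE he', ?_⟩⟩
        rw [Subgroup.mem_centralizer_iff]
        intro k hk
        -- d = [k, e'] ∈ B ⊓ E
        have hdB : ⁅k, e'⁆ ∈ B := by
          have h1 : e' * k⁻¹ * e'⁻¹ ∈ B := ks_conj_mem hEB he' (B.inv_mem hk)
          have : ⁅k, e'⁆ = k * (e' * k⁻¹ * e'⁻¹) := by rw [commutatorElement_def]; group
          rw [this]; exact B.mul_mem hk h1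
        have hdE : ⁅k, e'⁆ ∈ E := by
          have h1 : k * e' * k⁻¹ ∈ E := ks_conj_mem hBE hk he'
          have : ⁅k, e'⁆ = (k * e' * k⁻¹) * e'⁻¹ := by rw [commutatorElement_def]
          rw [this]; exact E.mul_mem h1 (E.inv_mem he')
        have hwk : k * ⁅b, h⁆ = ⁅b, h⁆ * k := (Subgroup.mem_centralizer_iff.mp hwB) k hk
        have hwd : ⁅k, e'⁆ * ⁅b, h⁆ = ⁅b, h⁆ * ⁅k, e'⁆ :=
          (Subgroup.mem_centralizer_iff.mp hwB) _ hdB
        have hcd : ⁅k, e'⁆ * ⁅⁅b, h⁆, e'⁆ = ⁅⁅b, h⁆, e'⁆ * ⁅k, e'⁆ :=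
          (Subgroup.mem_centralizer_iff.mp
            (hVcA (Subgroup.commutator_mem_commutator hwE he'))) _ (hEA hdE)
        generalize ⁅b, h⁆ = w at hwk hwd hcd
        have hke : k * e' = ⁅k, e'⁆ * e' * k := by rw [commutatorElement_def]; group
        have hwk' : k * w⁻¹ = w⁻¹ * k := by
          calc k * w⁻¹ = w⁻¹ * (w * k) * w⁻¹ := by group
            _ = w⁻¹ * (k * w) * w⁻¹ := by rw [hwk]
            _ = w⁻¹ * k := by group
        have hke' : k * e'⁻¹ = e'⁻¹ * (⁅k, e'⁆)⁻¹ * k := by rw [commutatorElement_def]; group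
        have hwd' : w * ⁅k, e'⁆ = ⁅k, e'⁆ * w := hwd.symm
        have hwd'' : w⁻¹ * (⁅k, e'⁆)⁻¹ = (⁅k, e'⁆)⁻¹ * w⁻¹ := by
          rw [← mul_inv_rev, ← mul_inv_rev, hwd]
        -- k * [w, e'] = [w, e'] * k
        have e1 : k * ⁅w, e'⁆ = ⁅k, e'⁆ * ⁅w, e'⁆ * (⁅k, e'⁆)⁻¹ * k := by
          calc k * ⁅w, e'⁆ = (k * w) * e' * w⁻¹ * e'⁻¹ := by rw [commutatorElement_def]; group
            _ = w * (k * e') * w⁻¹ * e'⁻¹ := by rw [hwk]; group
            _ = w * (⁅k, e'⁆ * e' * k) * w⁻¹ * e'⁻¹ := by rw [← hke]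
            _ = (w * ⁅k, e'⁆) * e' * (k * w⁻¹) * e'⁻¹ := by group
            _ = (⁅k, e'⁆ * w) * e' * (w⁻¹ * k) * e'⁻¹ := by rw [hwd', hwk']
            _ = ⁅k, e'⁆ * w * e' * w⁻¹ * (k * e'⁻¹) := by group
            _ = ⁅k, e'⁆ * w * e' * w⁻¹ * (e'⁻¹ * (⁅k, e'⁆)⁻¹ * k) := by rw [← hke']
            _ = ⁅k, e'⁆ * ⁅w, e'⁆ * (⁅k, e'⁆)⁻¹ * k := by rw [commutatorElement_def w e']; group
        rw [e1, hcd]; group
      have hEBle : ⁅E, B⁆ ≤ E ⊓ B := le_inf (ks_commutator_le_left hBE) (ks_commutator_le_right hEB)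
      have h6 : ⁅⁅E, B⁆, B⁆ ≤ E ⊓ CL :=
        ((Subgroup.commutator_mono hEBle le_rfl).trans hkey).trans (le_inf hR₁E hR₁CL)
      have h7 := ks_ps_apply hPS inf_le_left hEN hEp hNE hNE₀ hBN hTN hT hNT hMIN h6
      exact finish h7
  -- conclusion
  have hNp : IsPGroup p N := by
    apply ks_isPGroup_of_coprime_trivial
    intro x hxN hxc
    apply hA5 x hxc
    rw [Subgroup.mem_centralizer_iff]
    intro a ha
    exact (hcomm key x ⟨hxN, hxc⟩ a ha).symm
  exact hBN.trans (hOT N hNp le_rfl Subgroup.le_normalizer)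

/-- the main lemma: a class two subgroup with the lower-star property relative to the
"central" class two subgroups of `T = O_p(X)` lies in `T` -/
theorem ks_main (hPS : PSInt p X)
    (T : Subgroup X) [hTn : T.Normal] (hT : IsPGroup p T)
    (hTmax : ∀ P : Subgroup X, P.Normal → IsPGroup p P → P ≤ T)
    (A : Subgroup X) [hAn : A.Normal] (hAT : A ≤ T)
    (hA2 : ⁅A, A⁆ ≤ Subgroup.centralizer (A : Set X))
    (hA3 : ⁅T, A⁆ ≤ A ⊓ Subgroup.centralizer (A : Set X))
    (hA5 : ∀ x : X, (orderOf x).Coprime p → x ∈ Subgroup.centralizer (A : Set X) → x = 1)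
    (B : Subgroup X)
    (hB2 : ⁅B, B⁆ ≤ Subgroup.centralizer (B : Set X))
    (h3 : ∀ E : Subgroup X, E ≤ T → ⁅E, E⁆ ≤ Subgroup.centralizer (E : Set X) →
      ⁅E, T⁆ ≤ E ⊓ Subgroup.centralizer (E : Set X) → E ≤ Subgroup.normalizer (B : Set X))
    (h4 : ∀ E : Subgroup X, E ≤ T → ⁅E, E⁆ ≤ Subgroup.centralizer (E : Set X) →
      ⁅E, T⁆ ≤ E ⊓ Subgroup.centralizer (E : Set X) → B ≤ Subgroup.normalizer (E : Set X) →
      ⁅B, ⁅E, E⁆⁆ = ⊥ → ⁅⁅B ⊓ Subgroup.centralizer (B : Set X), E⁆, E⁆ = ⊥ →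
      ⁅B, E⁆ ≤ B ⊓ Subgroup.centralizer (B : Set X)) :
    B ≤ T := by
  have key : ∀ (n : ℕ) (N : Subgroup X), Nat.card N = n → B ≤ N → T ≤ N →
      (∀ P : Subgroup X, IsPGroup p P → P ≤ N → N ≤ Subgroup.normalizer (P : Set X) → P ≤ T) →
      B ≤ T := by
    intro n
    induction' n using Nat.strong_induction_on with n ih
    intro N hn hBN hTN hOT
    by_cases hM : ∃ M : Subgroup X, M ≤ N ∧ N ≤ Subgroup.normalizer (M : Set X) ∧ B ≤ M ∧
        T ≤ M ∧ M ≠ N
    · obtain ⟨M, hMN, hNM, hBM, hTM, hne⟩ := hM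
      have hlt : Nat.card M < n := by
        rw [← hn]
        exact card_lt_of_lt (lt_of_le_of_ne hMN hne)
      exact ih _ hlt M rfl hBM hTM (ks_OT_of_normal hOT hMN hNM)
    · push Not at hM
      exact ks_main_min hPS T hT A hAT hA2 hA3 hA5 B hB2 h3 h4 N hBN hTN hOT
        (fun M h1 h2 h3' h4' => hM M h1 h2 h3' h4')
  refine key _ ⊤ rfl le_top le_top ?_
  intro P hP _ hN
  exact hTmax P (Subgroup.normalizer_eq_top_iff.mp (top_le_iff.mp hN)) hP

end ks2

end Cfsg.Agent.Lib.Helper15
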