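import Mathlib
import Cfsg.Prelude.Def_Local
import Cfsg.Agent.Lib.Helper15.QuadSL2
import Cfsg.Agent.Lib.Helper72.Frattini
import Cfsg.Agent.Lib.Helper75.FrattiniAct
import Cfsg.Agent.Lib.Helper14.Coprime

set_option autoImplicit false
set_option linter.unusedSectionVars false
set_option linter.unusedVariables false
set_option warn.classDefReducibility false

/-! A quadratically acting element on a normal `p`-subgroup `P`, not in `O_p` modulo `C(P)`,
forces a section `SL₂(p)` (reduction to the Frattini quotient of `P`). -/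

namespace Cfsg.Agent.Lib.Helper15

open Cfsg
open scoped commutatorElement

section lifts

/-- lifting an element of prime order `r` through a homomorphism to an `r`-element. -/
theorem exists_rpow_lift {X Y : Type*} [Group X] [Finite X] [Group Y] (π : X →* Y) {r : ℕ}
    (hr : r.Prime) (g₀ : X) (hg : orderOf (π g₀) = r) :
    ∃ (g : X) (k : ℕ), g ^ r ^ k = 1 ∧ π g ≠ 1 ∧ g ∈ Subgroup.zpowers g₀ := by
  have ho : orderOf g₀ ≠ 0 := (orderOf_pos g₀).ne'
  obtain ⟨e, t, ht, het⟩ := Nat.exists_eq_pow_mul_and_not_dvd ho r hr.ne_one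
  refine ⟨g₀ ^ t, e, ?_, ?_, Subgroup.pow_mem _ (Subgroup.mem_zpowers g₀) t⟩
  · rw [← pow_mul, mul_comm, ← het]; exact pow_orderOf_eq_one g₀
  · intro h
    rw [map_pow] at h
    have := orderOf_dvd_of_pow_eq_one h
    rw [hg] at this
    exact ht this

end lifts

section frat

/-- automorphisms act on the quotient by a characteristic subgroup -/
noncomputable def dautQuot {G : Type*} [Group G] (N : Subgroup G) [hN : N.Characteristic] :
    MulAut G →* MulAut (G ⧸ N) where
  toFun e := QuotientGroup.congr N N e (Subgroup.characteristic_iff_map_eq.mp hN e)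
  map_one' := by
    ext x
    induction x using QuotientGroup.induction_on
    rfl
  map_mul' e₁ e₂ := by
    ext x
    induction x using QuotientGroup.induction_on
    rfl

theorem dautQuot_mk {G : Type*} [Group G] (N : Subgroup G) [hN : N.Characteristic] (e : MulAut G)
    (g : G) : dautQuot N e (g : G ⧸ N) = ((e g : G) : G ⧸ N) := rfl

variable {X : Type*} [Group X]

/-- the action of `X` on the Frattini quotient of a normal subgroup -/
noncomputable def frattAct (P : Subgroup X) [P.Normal] : X →* MulAut (↥P ⧸ frattini ↥P) :=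
  (dautQuot (frattini ↥P)).comp MulAut.conjNormal

theorem frattAct_mk (P : Subgroup X) [P.Normal] (x : X) (u : ↥P) :
    frattAct P x (u : ↥P ⧸ frattini ↥P) =
      ((MulAut.conjNormal x u : ↥P) : ↥P ⧸ frattini ↥P) := rfl

/-- the Frattini quotient of a finite `p`-group is commutative -/
noncomputable def frattCommGroup {P : Type*} [Group P] [Finite P] {p : ℕ} [Fact p.Prime]
    (hP : IsPGroup p P) : CommGroup (P ⧸ frattini P) :=
  { (inferInstance : Group (P ⧸ frattini P)) with
    mul_comm := fun a b => by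
      induction a using QuotientGroup.induction_on with
      | H x =>
      induction b using QuotientGroup.induction_on with
      | H y =>
        rw [← QuotientGroup.mk_mul, ← QuotientGroup.mk_mul, QuotientGroup.eq]
        have := Cfsg.Agent.Lib.Helper72.comm_mem_frattini hP y⁻¹ x⁻¹
        simpa [mul_assoc] using this }

variable [Finite X] {p : ℕ} [Fact p.Prime]

/-- **Quadratic action on a normal `p`-subgroup**: if `a` acts quadratically on the normal
`p`-subgroup `P` of `X` (`p` odd) and the image of `a` in `X / C_X(P)` is not in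
`O_p(X / C_X(P))`, then `X` has a section isomorphic to `SL₂(p)`. -/
theorem quad_section_of_normal (hp2 : p ≠ 2) (P : Subgroup X) [P.Normal] (hP : IsPGroup p P)
    (C : Subgroup X) [C.Normal] (hC : C = Subgroup.centralizer (P : Set X)) (a : X)
    (hq : ⁅⁅P, Subgroup.zpowers a⁆, Subgroup.zpowers a⁆ = ⊥)
    (ha : QuotientGroup.mk' C a ∉ pCore p (X ⧸ C)) :
    ∃ (K L : Subgroup X) (hL : (L.subgroupOf K).Normal),
      Nonempty ((K ⧸ L.subgroupOf K) ≃* Matrix.SpecialLinearGroup (Fin 2) (ZMod p)) := by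
  classical
  have hA : ∀ v : ↥P ⧸ frattini ↥P, v ^ p = 1 := by
    intro v
    induction v using QuotientGroup.induction_on with
    | H u =>
      rw [← QuotientGroup.mk_pow, QuotientGroup.eq_one_iff]
      exact Cfsg.Agent.Lib.Helper72.pow_mem_frattini hP u
  obtain ⟨θ₀, hθ₀⟩ : ∃ θ₀ : X →* MulAut (↥P ⧸ frattini ↥P), θ₀ = frattAct P := ⟨_, rfl⟩
  have hCker : C ≤ θ₀.ker := by
    intro c hc
    rw [MonoidHom.mem_ker]
    ext v
    induction v using QuotientGroup.induction_on with
    | H u =>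
      rw [hθ₀, frattAct_mk, MulAut.one_apply]
      congr 1
      apply Subtype.ext
      rw [MulAut.conjNormal_apply]
      rw [hC, Subgroup.mem_centralizer_iff] at hc
      have := hc u u.2
      rw [← this]; group
  let θ₁ : X ⧸ C →* MulAut (↥P ⧸ frattini ↥P) := QuotientGroup.lift C θ₀ hCker
  have hθ₁ : ∀ x : X, θ₁ (QuotientGroup.mk' C x) = θ₀ x := fun x => rfl
  -- the kernel of `θ₁` is a `p`-group
  have hker : IsPGroup p ↥θ₁.ker := by
    apply Cfsg.Agent.Lib.Helper14.isPGroup_of_no_prime_order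
    intro r hr hrp g hg
    obtain ⟨g₀, hg₀⟩ := QuotientGroup.mk'_surjective C (g : X ⧸ C)
    have hg' : orderOf (QuotientGroup.mk' C g₀) = r := by
      rw [hg₀, Subgroup.orderOf_coe]; exact hg
    obtain ⟨c, k, hck, hc1, hcz⟩ := exists_rpow_lift (QuotientGroup.mk' C) hr g₀ hg'
    apply hc1
    rw [QuotientGroup.mk'_apply, QuotientGroup.eq_one_iff, hC]
    have : Fact r.Prime := ⟨hr⟩
    apply Cfsg.Agent.Lib.Helper75.Fratt.mem_centralizer_of_frattini (p := p) (q := r)
      (Ne.symm hrp) P hP c k hck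
    intro x hx
    have hθc : θ₀ c = 1 := by
      obtain ⟨j, rfl⟩ := Subgroup.mem_zpowers_iff.mp hcz
      rw [map_zpow, ← hθ₁, hg₀]
      have : θ₁ (g : X ⧸ C) = 1 := MonoidHom.mem_ker.mp g.2
      rw [this, one_zpow]
    have h1 : θ₀ c ((⟨x, hx⟩ : ↥P) : ↥P ⧸ frattini ↥P) =
        ((⟨x, hx⟩ : ↥P) : ↥P ⧸ frattini ↥P) := by
      rw [hθc]; rfl
    rw [hθ₀, frattAct_mk, QuotientGroup.eq_iff_div_mem] at h1
    refine ⟨_, h1, ?_⟩
    simp [div_eq_mul_inv, MulAut.conjNormal_apply]
  -- the faithful quotient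
  let θ : (X ⧸ C) ⧸ θ₁.ker →* MulAut (↥P ⧸ frattini ↥P) := QuotientGroup.kerLift θ₁
  have hθinj : ∀ g, θ g = 1 → g = 1 := fun g hg =>
    QuotientGroup.kerLift_injective θ₁ (hg.trans (map_one _).symm)
  let π : X →* (X ⧸ C) ⧸ θ₁.ker := (QuotientGroup.mk' θ₁.ker).comp (QuotientGroup.mk' C)
  have hπ : Function.Surjective π :=
    (QuotientGroup.mk'_surjective _).comp (QuotientGroup.mk'_surjective _)
  have hθπ : ∀ x, θ (π x) = θ₀ x := fun x => rfl
  -- quadratic action
  have hquad : ∀ v : ↥P ⧸ frattini ↥P, θ (π a) (θ (π a) v / v) = θ (π a) v / v := by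
    intro v
    induction v using QuotientGroup.induction_on with
    | H u =>
      rw [hθπ, hθ₀, frattAct_mk, ← QuotientGroup.mk_div, frattAct_mk]
      congr 1
      apply Subtype.ext
      rw [MulAut.conjNormal_apply, Subgroup.coe_div, MulAut.conjNormal_apply]
      obtain ⟨c, hc⟩ : ∃ c : X, c = a * u * a⁻¹ / u := ⟨_, rfl⟩
      rw [← hc]
      have hc1 : c = ⁅(u : X), a⁆⁻¹ := by
        rw [hc, commutatorElement_def, div_eq_mul_inv]; group
      have hc2 : c ∈ ⁅P, Subgroup.zpowers a⁆ := by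
        rw [hc1]
        exact Subgroup.inv_mem _
          (Subgroup.commutator_mem_commutator u.2 (Subgroup.mem_zpowers _))
      have hc3 : ⁅c, a⁆ ∈ ⁅⁅P, Subgroup.zpowers a⁆, Subgroup.zpowers a⁆ :=
        Subgroup.commutator_mem_commutator hc2 (Subgroup.mem_zpowers _)
      rw [hq, Subgroup.mem_bot] at hc3
      have hc4 : c * a = a * c := commutatorElement_eq_one_iff_mul_comm.mp hc3
      calc a * c * a⁻¹ = c * a * a⁻¹ := by rw [hc4]
        _ = c := by group
  -- not in the `p`-core
  have hna : π a ∉ pCore p ((X ⧸ C) ⧸ θ₁.ker) := by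
    intro hmem
    apply ha
    have hMp : IsPGroup p
        ((pCore p ((X ⧸ C) ⧸ θ₁.ker)).comap (QuotientGroup.mk' θ₁.ker)) := by
      apply IsPGroup.comap_of_ker_isPGroup Cfsg.Agent.Lib.Helper14.pCore_isPGroup
      rw [QuotientGroup.ker_mk']; exact hker
    have hMn : ((pCore p ((X ⧸ C) ⧸ θ₁.ker)).comap (QuotientGroup.mk' θ₁.ker)).Normal :=
      Subgroup.Normal.comap inferInstance _
    exact Cfsg.Agent.Lib.Helper14.le_pCore hMn hMp hmem
  obtain ⟨K, L, hL, ⟨e⟩⟩ := @quad_SL2_section _ _ _ (↥P ⧸ frattini ↥P) (frattCommGroup hP) _ p _ hp2 hA θ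
    hθinj (π a) hquad hna
  obtain ⟨K', L', hL', ⟨e'⟩⟩ := section_comap π K L hL (by
    rw [MonoidHom.range_eq_top.mpr hπ]; exact le_top)
  exact ⟨K', L', hL', ⟨e'.trans e⟩⟩

/-- **Failure of `p`-stability gives `SL₂(p)`**: if `[P, A, A] = 1` for a `p`-subgroup `P`
(`p` odd) and the image of `A` in `N(P)/C(P)` is not inside `O_p(N(P)/C(P))`, then the group
has a section isomorphic to `SL₂(p)`. -/
theorem sl2_section_of_quad_normalizer {Q : Type*} [Group Q] [Finite Q] {p : ℕ} [Fact p.Prime]
    (hp : p ≠ 2) (A P : Subgroup Q) (hP : IsPGroup p P) (hquad : ⁅⁅P, A⁆, A⁆ = ⊥)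
    (hnot : ¬ (A.subgroupOf (Subgroup.normalizer (P : Set Q))).map
          (QuotientGroup.mk' ((Subgroup.centralizer (P : Set Q)).subgroupOf
            (Subgroup.normalizer (P : Set Q)))) ≤ pCore p _) :
    ∃ (K L : Subgroup Q) (hL : (L.subgroupOf K).Normal),
      Nonempty ((K ⧸ L.subgroupOf K) ≃* Matrix.SpecialLinearGroup (Fin 2) (ZMod p)) := by
  classical
  obtain ⟨ā, hā, hā'⟩ := SetLike.not_le_iff_exists.mp hnot
  obtain ⟨a₀, ha₀, rfl⟩ := hā
  have ha₀A : (a₀ : Q) ∈ A := ha₀
  have hPN : P ≤ Subgroup.normalizer (P : Set Q) := Subgroup.le_normalizer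
  have hnorm : (P.subgroupOf (Subgroup.normalizer (P : Set Q))).Normal :=
    Subgroup.normal_in_normalizer
  have hP' : IsPGroup p ↥(P.subgroupOf (Subgroup.normalizer (P : Set Q))) :=
    hP.comap_of_injective _ (Subgroup.subtype_injective _)
  have hC : (Subgroup.centralizer (P : Set Q)).subgroupOf (Subgroup.normalizer (P : Set Q)) =
      Subgroup.centralizer ((P.subgroupOf (Subgroup.normalizer (P : Set Q)) :
        Subgroup ↥(Subgroup.normalizer (P : Set Q))) : Set ↥(Subgroup.normalizer (P : Set Q))) := by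
    ext c
    rw [Subgroup.mem_subgroupOf, Subgroup.mem_centralizer_iff, Subgroup.mem_centralizer_iff]
    constructor
    · intro h y hy
      apply Subtype.ext
      exact h y hy
    · intro h x hx
      have := h ⟨x, hPN hx⟩ (Subgroup.mem_subgroupOf.mpr hx)
      exact congrArg Subtype.val this
  have hzA : (Subgroup.zpowers a₀).map (Subgroup.normalizer (P : Set Q)).subtype ≤ A := by
    rw [MonoidHom.map_zpowers]
    exact (Subgroup.zpowers_le).mpr ha₀A
  have hq' : ⁅⁅P.subgroupOf (Subgroup.normalizer (P : Set Q)), Subgroup.zpowers a₀⁆,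
      Subgroup.zpowers a₀⁆ = ⊥ := by
    apply (Subgroup.map_eq_bot_iff_of_injective _ (Subgroup.subtype_injective _)).mp
    rw [Subgroup.map_commutator, Subgroup.map_commutator, eq_bot_iff, ← hquad]
    apply Subgroup.commutator_mono (Subgroup.commutator_mono ?_ hzA) hzA
    rw [Subgroup.subgroupOf_map_subtype]; exact inf_le_left
  obtain ⟨K, L, hL, ⟨e⟩⟩ := quad_section_of_normal hp
    (P.subgroupOf (Subgroup.normalizer (P : Set Q))) hP' _ hC a₀ hq' hā'
  obtain ⟨K', L', hL', -, ⟨e'⟩⟩ := section_lift (Subgroup.normalizer (P : Set Q)) K L hL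
  exact ⟨K', L', hL', ⟨e'.trans e⟩⟩

end frat

end Cfsg.Agent.Lib.Helper15
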