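import Mathlib
import Cfsg.Prelude.Def_PLocal
import Cfsg.Agent.S0631
import Cfsg.Agent.S0653
import Cfsg.Agent.Lib.Helper15.ZJ
import Cfsg.Agent.Lib.Helper41.Cores
import Cfsg.Agent.Lib.Helper30.Cores
import Cfsg.Agent.Lib.Helper14.Stable

set_option autoImplicit false

namespace Cfsg.Agent.Lib.Helper15

open Cfsg
open scoped commutatorElement

section zj2

/-- Decomposition of an element into its `p`-part and `p'`-part. -/
theorem exists_p_decomp {G : Type*} [Group G] [Finite G] (p : ℕ) [Fact p.Prime] (g : G) :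
    ∃ g₁ ∈ Subgroup.zpowers g, ∃ g₂ ∈ Subgroup.zpowers g, ∃ k m : ℕ,
      g = g₁ * g₂ ∧ g₁ ^ (p ^ k) = 1 ∧ g₂ ^ m = 1 ∧ m.Coprime p := by
  have hp : p.Prime := Fact.out
  have hn : orderOf g ≠ 0 := (orderOf_pos g).ne'
  obtain ⟨k, m, hm, hkm⟩ := Nat.exists_eq_pow_mul_and_not_dvd hn p hp.ne_one
  have hmp : m.Coprime p := ((Nat.Prime.coprime_iff_not_dvd hp).mpr hm).symm
  have hcop : Nat.Coprime (p ^ k) m := Nat.Coprime.pow_left k hmp.symm
  have h1 : (1 : ℤ) = ((p ^ k : ℕ) : ℤ) * Nat.gcdA (p ^ k) m + (m : ℤ) * Nat.gcdB (p ^ k) m := by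
    have := Nat.gcd_eq_gcd_ab (p ^ k) m
    rw [hcop] at this
    exact_mod_cast this
  refine ⟨g ^ ((m : ℤ) * Nat.gcdB (p ^ k) m), ⟨_, rfl⟩,
    g ^ (((p ^ k : ℕ) : ℤ) * Nat.gcdA (p ^ k) m), ⟨_, rfl⟩, k, m, ?_, ?_, ?_, hmp⟩
  · rw [← zpow_add, add_comm, ← h1, zpow_one]
  · rw [← zpow_natCast, ← zpow_mul]
    have : (m : ℤ) * Nat.gcdB (p ^ k) m * ((p ^ k : ℕ) : ℤ) =
        ((orderOf g : ℕ) : ℤ) * Nat.gcdB (p ^ k) m := by
      rw [hkm]; push_cast; ring
    rw [this, zpow_mul, zpow_natCast, pow_orderOf_eq_one, one_zpow]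
  · rw [← zpow_natCast, ← zpow_mul]
    have : ((p ^ k : ℕ) : ℤ) * Nat.gcdA (p ^ k) m * (m : ℤ) =
        ((orderOf g : ℕ) : ℤ) * Nat.gcdA (p ^ k) m := by
      rw [hkm]; push_cast; ring
    rw [this, zpow_mul, zpow_natCast, pow_orderOf_eq_one, one_zpow]

theorem eq_one_of_pow_coprime {G : Type*} [Group G] {p : ℕ} {x : G} {j m : ℕ}
    (h1 : x ^ (p ^ j) = 1) (h2 : x ^ m = 1) (hm : m.Coprime p) : x = 1 := by
  have hcop : Nat.Coprime m (p ^ j) := Nat.Coprime.pow_right j hm
  have := Nat.dvd_gcd (orderOf_dvd_of_pow_eq_one h2) (orderOf_dvd_of_pow_eq_one h1)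
  rw [hcop] at this
  exact orderOf_eq_one_iff.mp (Nat.dvd_one.mp this)

/-- A `p'`-element of a cyclic group acting quadratically on a normal `p`-subgroup centralizes
it. -/
theorem mem_centralizer_of_quadratic_coprime {G : Type*} [Group G] {p : ℕ}
    (V : Subgroup G) [hV : V.Normal] (hVp : IsPGroup p V) {a c : G}
    (hq : ⁅⁅V, Subgroup.zpowers a⁆, Subgroup.zpowers a⁆ = ⊥) (hc : c ∈ Subgroup.zpowers a)
    {m : ℕ} (hcm : c ^ m = 1) (hm : m.Coprime p) :
    c ∈ Subgroup.centralizer (V : Set G) := by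
  rw [Subgroup.mem_centralizer_iff]
  intro v hv
  have hd1 : ⁅v, c⁆ ∈ ⁅V, Subgroup.zpowers a⁆ := Subgroup.commutator_mem_commutator hv hc
  have hd2 : ⁅⁅v, c⁆, c⁆ = 1 := by
    have := Subgroup.commutator_mem_commutator hd1 hc
    rwa [hq, Subgroup.mem_bot] at this
  have hdc : Commute ⁅v, c⁆ c := commutatorElement_eq_one_iff_mul_comm.mp hd2
  have hdV : ⁅v, c⁆ ∈ V := by
    have : ⁅v, c⁆ = v * (c * v⁻¹ * c⁻¹) := by rw [commutatorElement_def]; group
    rw [this]; exact V.mul_mem hv (hV.conj_mem _ (V.inv_mem hv) c)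
  have h1 : v * c * v⁻¹ = ⁅v, c⁆ * c := by rw [commutatorElement_def]; group
  have h2 : (⁅v, c⁆ * c) ^ m = ⁅v, c⁆ ^ m * c ^ m := hdc.mul_pow m
  have h3 : (v * c * v⁻¹) ^ m = 1 := by rw [conj_pow, hcm]; group
  have h4 : ⁅v, c⁆ ^ m = 1 := by rw [h1, h2, hcm, mul_one] at h3; exact h3
  obtain ⟨j, hj⟩ := hVp ⟨⁅v, c⁆, hdV⟩
  have hj' : ⁅v, c⁆ ^ (p ^ j) = 1 := by simpa using congrArg Subtype.val hj
  exact commutatorElement_eq_one_iff_mul_comm.mp (eq_one_of_pow_coprime hj' h4 hm)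

theorem isPGroup_zpowers_of_pow {G : Type*} [Group G] {p : ℕ} {b : G} {k : ℕ}
    (hb : b ^ (p ^ k) = 1) : IsPGroup p (Subgroup.zpowers b) := by
  rintro ⟨x, hx⟩
  obtain ⟨i, rfl⟩ := Subgroup.mem_zpowers_iff.mp hx
  refine ⟨k, Subtype.ext ?_⟩
  show (b ^ i) ^ (p ^ k) = 1
  rw [← zpow_natCast, ← zpow_mul, mul_comm, zpow_mul, zpow_natCast, hb, one_zpow]

/-- A `p`-stable group (acting-subgroup form) acts `p`-stably on every normal `p`-subgroup of
its quotient by `O_{p'}`; stated for any surjection with kernel `O_{p'}(G)`. -/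
theorem isPStableOn_of_surjective {G : Type*} [Group G] [Finite G] {G' : Type*} [Group G']
    {p : ℕ} [Fact p.Prime] (hs : IsPStable p G) (π : G →* G')
    (hπ : Function.Surjective π) (hker : π.ker = pPrimeCore p G)
    (V : Subgroup G') [hVn : V.Normal] (hV : IsPGroup p V) : IsPStableOn p V := by
  have : Finite G' := Finite.of_surjective π hπ
  intro a hq
  -- Step 1: reduce to the `p`-part of `a`
  obtain ⟨b, hb, c, hc, k, m, habc, hbk, hcm, hm⟩ := exists_p_decomp p a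
  have hcC : c ∈ Subgroup.centralizer (V : Set G') :=
    mem_centralizer_of_quadratic_coprime V hV hq hc hcm hm
  have hab : (QuotientGroup.mk a : G' ⧸ Subgroup.centralizer (V : Set G')) =
      QuotientGroup.mk b := by
    rw [habc]
    refine (QuotientGroup.eq.mpr ?_).symm
    simpa using hcC
  rw [hab]
  -- Step 2: lift `b` to a `p`-element `b₀` of `G`
  obtain ⟨g, hg⟩ := hπ b
  obtain ⟨b₀, hb₀, g₂, hg₂, k', m', hg12, hb₀k, hg2m, hm'⟩ := exists_p_decomp p g
  have hπg₂ : π g₂ = 1 := by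
    obtain ⟨i, rfl⟩ := Subgroup.mem_zpowers_iff.mp hg₂
    have h1 : (π (g ^ i)) ^ (p ^ k) = 1 := by
      rw [map_zpow, hg, ← zpow_natCast, ← zpow_mul, mul_comm, zpow_mul, zpow_natCast, hbk,
        one_zpow]
    have h2 : (π (g ^ i)) ^ m' = 1 := by rw [← map_pow, hg2m, map_one]
    exact eq_one_of_pow_coprime h1 h2 hm'
  have hπb₀ : π b₀ = b := by rw [← hg, hg12, map_mul, hπg₂, mul_one]
  have hAp : IsPGroup p (Subgroup.zpowers b₀) := isPGroup_zpowers_of_pow hb₀k
  obtain ⟨T, hAT⟩ := hAp.exists_le_sylow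
  -- Step 3: the subgroup `P`
  obtain ⟨Vh, hVh⟩ : ∃ Vh, Vh = V.comap π := ⟨_, rfl⟩
  have hVhn : Vh.Normal := by rw [hVh]; exact Subgroup.Normal.comap hVn π
  have hKn : (pPrimeCore p G).Normal := by rw [← hker]; infer_instance
  have hKVh : pPrimeCore p G ≤ Vh := by
    intro x hx
    rw [← hker, MonoidHom.mem_ker] at hx
    rw [hVh]
    show π x ∈ V
    rw [hx]; exact V.one_mem
  have hKc : (Nat.card (pPrimeCore p G)).Coprime p := Helper14.pPrimeCore_coprime
  obtain ⟨P, hP⟩ : ∃ P, P = (T : Subgroup G) ⊓ Vh := ⟨_, rfl⟩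
  have hPT : P ≤ (T : Subgroup G) := by rw [hP]; exact inf_le_left
  have hPVh : P ≤ Vh := by rw [hP]; exact inf_le_right
  have hPp : IsPGroup p P := T.isPGroup'.to_le hPT
  have hAP : ∀ a ∈ Subgroup.zpowers b₀, ∀ x ∈ P, a * x * a⁻¹ ∈ P := by
    intro a ha x hx
    rw [hP]
    exact ⟨Subgroup.mul_mem _ (Subgroup.mul_mem _ (hAT ha) (hPT hx)) (Subgroup.inv_mem _ (hAT ha)),
      hVhn.conj_mem x (hPVh hx) a⟩
  have hdec : ∀ d ∈ Vh, ∃ x ∈ pPrimeCore p G, ∃ s ∈ P, d = x * s := by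
    intro d hd
    have h1 : V ≤ (T.mapSurjective hπ : Sylow p G') := hV.le_sylow_of_normal _
    have hd' : π d ∈ V := by rw [hVh] at hd; exact hd
    have h2 : π d ∈ (T : Subgroup G).map π := h1 hd'
    obtain ⟨s, hs, hsd⟩ := h2
    have hx : d * s⁻¹ ∈ pPrimeCore p G := by
      rw [← hker, MonoidHom.mem_ker, map_mul, map_inv, hsd, mul_inv_cancel]
    refine ⟨d * s⁻¹, hx, s, ?_, by group⟩
    rw [hP]
    refine ⟨hs, ?_⟩
    have : s = (d * s⁻¹)⁻¹ * d := by group
    rw [this]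
    exact Vh.mul_mem (Vh.inv_mem (hKVh hx)) hd
  have hsup : pPrimeCore p G ⊔ P = Vh := by
    apply le_antisymm (sup_le hKVh hPVh)
    intro d hd
    obtain ⟨x, hx, s, hs, rfl⟩ := hdec d hd
    exact Subgroup.mul_mem_sup hx hs
  have hPmap : P.map π = V := by
    apply le_antisymm
    · rintro _ ⟨x, hx, rfl⟩
      have := hPVh hx
      rw [hVh] at this
      exact this
    · intro v hv
      obtain ⟨d, rfl⟩ := hπ v
      have hd : d ∈ Vh := by rw [hVh]; exact hv
      obtain ⟨x, hx, s, hs, rfl⟩ := hdec d hd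
      refine ⟨s, hs, ?_⟩
      rw [← hker, MonoidHom.mem_ker] at hx
      rw [map_mul, hx, one_mul]
  have hPK : P ⊓ pPrimeCore p G = ⊥ := by
    apply disjoint_iff.mp
    apply Subgroup.disjoint_of_coprime_natCard
    obtain ⟨n, hn⟩ := IsPGroup.iff_card.mp hPp
    rw [hn]
    exact Nat.Coprime.pow_left n hKc.symm
  have hPsub : P ≤ pPrimePCore p G := by
    apply Helper41.mem_pPrimePCore_of_normal_sup P hPp
    rw [sup_comm, hsup]; exact hVhn
  have hquad : ⁅⁅P, Subgroup.zpowers b₀⁆, Subgroup.zpowers b₀⁆ = ⊥ := by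
    have h1 : ⁅P, Subgroup.zpowers b₀⁆ ≤ P := by
      rw [Subgroup.commutator_le]
      intro x hx a ha
      have : ⁅x, a⁆ = x * (a * x⁻¹ * a⁻¹) := by rw [commutatorElement_def]; group
      rw [this]
      exact P.mul_mem hx (hAP a ha _ (P.inv_mem hx))
    have h2 : ⁅⁅P, Subgroup.zpowers b₀⁆, Subgroup.zpowers b₀⁆ ≤ P :=
      (Subgroup.commutator_mono h1 le_rfl).trans h1
    have h3 : ⁅⁅P, Subgroup.zpowers b₀⁆, Subgroup.zpowers b₀⁆ ≤ pPrimeCore p G := by
      rw [← hker, ← Subgroup.map_eq_bot_iff, Subgroup.map_commutator, Subgroup.map_commutator,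
        hPmap, MonoidHom.map_zpowers, hπb₀, eq_bot_iff, ← hq]
      have hz : Subgroup.zpowers b ≤ Subgroup.zpowers a := Subgroup.zpowers_le.mpr hb
      exact Subgroup.commutator_mono (Subgroup.commutator_mono le_rfl hz) hz
    rw [eq_bot_iff, ← hPK]
    exact le_inf h2 h3
  have hst := hs.2.2 (Subgroup.zpowers b₀) P hAp hPp hAP hPsub (by rw [hsup]; exact hVhn) hquad
  have hb₀N : b₀ ∈ Subgroup.normalizer (P : Set G) :=
    Cfsg.Agent.S0650.mem_normalizer_of_finite P b₀
      (fun x hx => hAP b₀ (Subgroup.mem_zpowers b₀) x hx)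
  -- Step 4: transport to `G' ⧸ C_{G'}(V)`
  obtain ⟨θ, hθ⟩ : ∃ θ : ↥(Subgroup.normalizer (P : Set G)) →*
      G' ⧸ Subgroup.centralizer (V : Set G'),
      θ = (QuotientGroup.mk' (Subgroup.centralizer (V : Set G'))).comp
        (π.comp (Subgroup.normalizer (P : Set G)).subtype) := ⟨_, rfl⟩
  have hθapp : ∀ n : ↥(Subgroup.normalizer (P : Set G)),
      θ n = (QuotientGroup.mk (π (n : G)) : G' ⧸ Subgroup.centralizer (V : Set G')) := by
    intro n; rw [hθ]; rfl
  have hθker : (Subgroup.centralizer (P : Set G)).subgroupOf (Subgroup.normalizer (P : Set G)) ≤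
      θ.ker := by
    intro n hn
    rw [MonoidHom.mem_ker, hθapp]
    have hn' : (n : G) ∈ Subgroup.centralizer (P : Set G) := Subgroup.mem_subgroupOf.mp hn
    have h1 : π (n : G) ∈ Subgroup.centralizer (V : Set G') := by
      rw [Subgroup.mem_centralizer_iff]
      intro v hv
      rw [← hPmap] at hv
      obtain ⟨s, hs, rfl⟩ := hv
      rw [← map_mul, ← map_mul, Subgroup.mem_centralizer_iff.mp hn' s hs]
    exact (QuotientGroup.eq_one_iff _).mpr h1
  have hθsurj : Function.Surjective θ := by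
    intro y
    obtain ⟨y', rfl⟩ := QuotientGroup.mk_surjective y
    obtain ⟨g, rfl⟩ := hπ y'
    have hfr := Helper14.normalizer_inf_sup_eq_top Vh T
    rw [← hP] at hfr
    obtain ⟨d, hd, n, hn, rfl⟩ := Helper14.exists_mul_of_sup_normal_eq_top hfr g
    obtain ⟨x, hx, s, hs, rfl⟩ := hdec d hd
    refine ⟨⟨s * n, Subgroup.mul_mem _ (Subgroup.le_normalizer hs) hn⟩, ?_⟩
    rw [hθapp]
    rw [← hker, MonoidHom.mem_ker] at hx
    show (QuotientGroup.mk (π (s * n)) : G' ⧸ Subgroup.centralizer (V : Set G')) = _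
    rw [map_mul, map_mul, map_mul, hx, one_mul]
  obtain ⟨θ', hθ'⟩ : ∃ θ' : (↥(Subgroup.normalizer (P : Set G)) ⧸
      (Subgroup.centralizer (P : Set G)).subgroupOf (Subgroup.normalizer (P : Set G))) →*
      G' ⧸ Subgroup.centralizer (V : Set G'),
      θ' = QuotientGroup.lift _ θ hθker := ⟨_, rfl⟩
  have hθ'app : ∀ n : ↥(Subgroup.normalizer (P : Set G)),
      θ' (QuotientGroup.mk n) = θ n := by
    intro n; rw [hθ']; rfl
  have hθ'surj : Function.Surjective θ' := by
    intro y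
    obtain ⟨n, rfl⟩ := hθsurj y
    exact ⟨QuotientGroup.mk n, hθ'app n⟩
  have hmapcore : (pCore p (↥(Subgroup.normalizer (P : Set G)) ⧸
      (Subgroup.centralizer (P : Set G)).subgroupOf (Subgroup.normalizer (P : Set G)))).map θ' ≤
      pCore p (G' ⧸ Subgroup.centralizer (V : Set G')) := by
    apply Helper14.le_pCore
    · exact Subgroup.Normal.map (pCore_normal_inst p _) _ hθ'surj
    · exact (Helper14.pCore_isPGroup).map _
  have hmem : (QuotientGroup.mk (⟨b₀, hb₀N⟩ : ↥(Subgroup.normalizer (P : Set G))) :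
      ↥(Subgroup.normalizer (P : Set G)) ⧸
      (Subgroup.centralizer (P : Set G)).subgroupOf (Subgroup.normalizer (P : Set G))) ∈
      pCore p _ := by
    apply hst
    refine ⟨⟨b₀, hb₀N⟩, ?_, rfl⟩
    exact Subgroup.mem_subgroupOf.mpr (Subgroup.mem_zpowers b₀)
  have h5 := hmapcore (Subgroup.mem_map_of_mem θ' hmem)
  rw [hθ'app, hθapp] at h5
  simpa [hπb₀] using h5

theorem centralizer_pCore_le_of_surjective {G : Type*} [Group G] [Finite G] {G' : Type*}
    [Group G'] {p : ℕ} [Fact p.Prime] (hc : IsPConstrained p G) (π : G →* G')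
    (hπ : Function.Surjective π) (hker : π.ker = pPrimeCore p G) :
    Subgroup.centralizer (pCore p G' : Set G') ≤ pCore p G' := by
  have h0 := Cfsg.Agent.S0631.centralizer_le_of_isPConstrained hc
  have key : ∀ (N : Subgroup G) [N.Normal], N = pPrimeCore p G →
      Subgroup.centralizer (pCore p (G ⧸ N) : Set (G ⧸ N)) ≤ pCore p (G ⧸ N) := by
    intro N _ hN
    subst hN
    exact h0
  have h1 := key π.ker hker
  have h2 := Subgroup.map_mono
    (f := (QuotientGroup.quotientKerEquivOfSurjective π hπ).toMonoidHom) h1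
  rw [Helper14.centralizer_map_equiv, Helper30.pCore_map_equiv] at h2
  exact h2

theorem maxAb_map_equiv {S S' : Type*} [Group S] [Group S'] (e : S ≃* S') {A : Subgroup S}
    (hA : A ∈ maxAbelianSubgroups S) : A.map e.toMonoidHom ∈ maxAbelianSubgroups S' := by
  obtain ⟨h1, h2⟩ := hA
  refine ⟨inferInstance, fun B hB => ?_⟩
  have h3 := h2 (B.map e.symm.toMonoidHom) inferInstance
  rw [Subgroup.card_map_of_injective e.symm.injective] at h3
  rw [Subgroup.card_map_of_injective e.injective]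
  exact h3

theorem sInf_maxAb_map_equiv {S S' : Type*} [Group S] [Group S'] (e : S ≃* S') :
    (sInf (maxAbelianSubgroups S)).map e.toMonoidHom = sInf (maxAbelianSubgroups S') := by
  apply le_antisymm
  · rintro _ ⟨x, hx, rfl⟩
    have hx' : ∀ A ∈ maxAbelianSubgroups S, x ∈ A := Subgroup.mem_sInf.mp hx
    refine Subgroup.mem_sInf.mpr ?_
    intro A' hA'
    obtain ⟨y, hy, hyx⟩ := hx' _ (maxAb_map_equiv e.symm hA')
    have : e.toMonoidHom x = y := by rw [← hyx]; simp
    rw [this]; exact hy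
  · intro x' hx'
    have hx'' : ∀ A ∈ maxAbelianSubgroups S', x' ∈ A := Subgroup.mem_sInf.mp hx'
    refine ⟨e.symm x', ?_, by simp⟩
    refine Subgroup.mem_sInf.mpr ?_
    intro A hA
    obtain ⟨y, hy, hyx⟩ := hx'' _ (maxAb_map_equiv e hA)
    have : e.symm x' = y := by rw [← hyx]; simp
    rw [this]; exact hy

theorem centerThompsonAOf_eq_map_sInf {G : Type*} [Group G] [Finite G] (R : Subgroup G) :
    centerThompsonAOf R = (sInf (maxAbelianSubgroups ↥R)).map R.subtype := by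
  have hbot : IsMulCommutative (⊥ : Subgroup G) :=
    .of_setLike_mul_comm fun a ha b hb => by
      rw [Subgroup.mem_bot.mp ha, Subgroup.mem_bot.mp hb]
  rw [Cfsg.Agent.S0653.centerThompsonAOf_eq_wSub,
    wSub_eq_map_sInf R (fun A₀ : Subgroup ↥R => IsMulCommutative A₀) _ hbot
      (fun A₀ => Cfsg.Agent.S0651.comm_map_iff R A₀)]
  rfl

theorem centerThompsonAOf_le {G : Type*} [Group G] [Finite G] (R : Subgroup G) :
    centerThompsonAOf R ≤ R := by
  rw [centerThompsonAOf_eq_map_sInf]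
  exact Subgroup.map_subtype_le _

/-- `Z(J(R))` is carried along by any homomorphism injective on `R`. -/
theorem centerThompsonAOf_map {G : Type*} [Group G] [Finite G] {G' : Type*} [Group G']
    [Finite G'] (f : G →* G') (R : Subgroup G) (hf : ∀ x ∈ R, f x = 1 → x = 1) :
    centerThompsonAOf (R.map f) = (centerThompsonAOf R).map f := by
  rw [centerThompsonAOf_eq_map_sInf, centerThompsonAOf_eq_map_sInf]
  have hbij : Function.Bijective (f.subgroupMap R) := by
    refine ⟨?_, f.subgroupMap_surjective R⟩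
    rw [injective_iff_map_eq_one]
    intro x hx
    have h1 : f (x : G) = 1 := congrArg Subtype.val hx
    exact Subtype.ext (hf _ x.2 h1)
  rw [← sInf_maxAb_map_equiv (MulEquiv.ofBijective (f.subgroupMap R) hbij), Subgroup.map_map,
    Subgroup.map_map]
  rfl

/-- The ZJ-theorem in the quotient of a `p`-constrained `p`-stable group by `O_{p'}`. -/
theorem zj_of_surjective {G : Type*} [Group G] [Finite G] {G' : Type*} [Group G'] [Finite G']
    {p : ℕ} [Fact p.Prime] (hp : p ≠ 2) (hc : IsPConstrained p G) (hs : IsPStable p G)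
    (π : G →* G') (hπ : Function.Surjective π) (hker : π.ker = pPrimeCore p G)
    (S : Sylow p G') : (centerThompsonAOf (S : Subgroup G')).Characteristic :=
  Cfsg.Agent.S0653.result hp (centralizer_pCore_le_of_surjective hc π hπ hker)
    (fun P _ hP => isPStableOn_of_surjective hs π hπ hker P hP) S

end zj2

end Cfsg.Agent.Lib.Helper15
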